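import Mathlib
import Cfsg.Agent.Mrg.Omega.NOThree.NoOver
import Cfsg.Agent.Mrg.Omega.TwoF.SignLift
import Cfsg.Agent.GH.L2AutSyl
import Cfsg.Agent.GTwoFour.Tools
import Cfsg.Agent.SignalizersComponents.PCompCore

-- merged: Cfsg.Agent.HKS.PGammaInv
section

/-!
# Involutions of `PΓL(2, F)` acting on the projective line, `F` a finite field of odd order

`π x = A • σ(x)` on `OnePoint F`, `π² = 1`: fixed point free involutions are linear of trace `0`
with `-det A` a nonsquare; linear ones with a fixed point have exactly two of them and `-det A` is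
a square; for `σ ≠ 1` we have `|F| = r²`, `r + 1` fixed points and `det A` is a square.
-/

set_option autoImplicit false

namespace Cfsg.Agent.HKS.PGammaInv

open Matrix OnePoint

variable {F : Type*} [Field F]

theorem two_ne [Fintype F] (hF : Odd (Fintype.card F)) : (2 : F) ≠ 0 := by
  apply Ring.two_ne_zero
  intro h
  have h1 := FiniteField.even_card_iff_char_two.1 h
  rw [Nat.odd_iff] at hF
  omega

section Basic

variable [DecidableEq F] {π : Equiv.Perm (OnePoint F)} {A : GL (Fin 2) F} {σ : F ≃+* F}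

/-- The square of `π`. -/
theorem sq_apply (h : ∀ x, π x = A • OnePoint.map σ x) (x : OnePoint F) :
    π (π x) = (A * GeneralLinearGroup.map (σ : F →+* F) A) • OnePoint.map (fun y => σ (σ y)) x := by
  rw [h (π x), h x, mul_smul]
  congr 1
  have h1 := OnePoint.map_smul (σ : F →+* F) A (OnePoint.map σ x)
  have h2 : OnePoint.map σ (A • OnePoint.map σ x) =
      OnePoint.map (σ : F →+* F) (A • OnePoint.map σ x) := rfl
  rw [h2, h1]
  congr 1
  cases x with
  | infty => rfl
  | coe x => rfl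

/-- `A σ(A) = κ` and `σ² = 1`. -/
theorem scal (h : ∀ x, π x = A • OnePoint.map σ x) (h2 : ∀ x, π (π x) = x) :
    (∀ x, σ (σ x) = x) ∧ A 0 0 * σ (A 0 1) + A 0 1 * σ (A 1 1) = 0 ∧
      A 1 0 * σ (A 0 0) + A 1 1 * σ (A 1 0) = 0 ∧
      A 0 0 * σ (A 0 0) + A 0 1 * σ (A 1 0) = A 1 0 * σ (A 0 1) + A 1 1 * σ (A 1 1) ∧
      A 0 0 * σ (A 0 0) + A 0 1 * σ (A 1 0) ≠ 0 := by
  set B : GL (Fin 2) F := A * GeneralLinearGroup.map (σ : F →+* F) A with hB
  have h3 : ∀ x, B • OnePoint.map (fun y => σ (σ y)) x = x := fun x => by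
    rw [← sq_apply h, h2]
  have e00 : B 0 0 = A 0 0 * σ (A 0 0) + A 0 1 * σ (A 1 0) := by
    simp [hB, Matrix.mul_apply, Fin.sum_univ_two]
  have e01 : B 0 1 = A 0 0 * σ (A 0 1) + A 0 1 * σ (A 1 1) := by
    simp [hB, Matrix.mul_apply, Fin.sum_univ_two]
  have e10 : B 1 0 = A 1 0 * σ (A 0 0) + A 1 1 * σ (A 1 0) := by
    simp [hB, Matrix.mul_apply, Fin.sum_univ_two]
  have e11 : B 1 1 = A 1 0 * σ (A 0 1) + A 1 1 * σ (A 1 1) := by
    simp [hB, Matrix.mul_apply, Fin.sum_univ_two]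
  have hi := h3 ∞
  rw [OnePoint.map_infty, smul_infty_eq_self_iff] at hi
  have hdet : (B : Matrix (Fin 2) (Fin 2) F).det ≠ 0 := B.det_ne_zero
  rw [det_fin_two, hi, mul_zero, sub_zero] at hdet
  have h00 : B 0 0 ≠ 0 := left_ne_zero_of_mul hdet
  have h11 : B 1 1 ≠ 0 := right_ne_zero_of_mul hdet
  have h4 : ∀ x : F, B 0 0 * σ (σ x) + B 0 1 = x * B 1 1 := by
    intro x
    have hx := h3 (x : OnePoint F)
    rw [OnePoint.map_some, smul_some_eq_ite, hi, zero_mul, zero_add, if_neg h11, coe_eq_coe,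
      div_eq_iff h11] at hx
    exact hx
  have h5 := h4 0
  rw [map_zero, map_zero, mul_zero, zero_add, zero_mul] at h5
  have h6 := h4 1
  rw [map_one, map_one, mul_one, one_mul, h5, add_zero] at h6
  refine ⟨fun x => ?_, by rw [← e01, h5], by rw [← e10, hi], by rw [← e00, ← e11, h6],
    by rw [← e00]; exact h00⟩
  have h7 := h4 x
  rw [h5, add_zero, ← h6, mul_comm] at h7
  exact mul_right_cancel₀ h00 h7

/-- Fixed points of a matrix on the affine line. -/
theorem fixed_iff (x : F) :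
    A • (x : OnePoint F) = x ↔ A 0 0 * x + A 0 1 = x * (A 1 0 * x + A 1 1) := by
  have hdet : (A : Matrix (Fin 2) (Fin 2) F).det ≠ 0 := A.det_ne_zero
  rw [det_fin_two] at hdet
  rw [smul_some_eq_ite]
  split_ifs with h0
  · constructor
    · intro h
      exact absurd h (infty_ne_coe _)
    · intro h
      rw [h0, mul_zero] at h
      exfalso
      apply hdet
      have e1 : A 1 1 = -(A 1 0 * x) := by linear_combination h0
      have e2 : A 0 1 = -(A 0 0 * x) := by linear_combination h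
      rw [e1, e2]
      ring
  · rw [coe_eq_coe, div_eq_iff h0]

theorem map_refl_apply (x : OnePoint F) : OnePoint.map (RingEquiv.refl F) x = x := by
  cases x with
  | infty => rfl
  | coe x => rfl

/-- A linear involution has trace `0`. -/
theorem trace_zero (h : ∀ x, π x = A • x) (h2 : ∀ x, π (π x) = x) (hne : π ≠ 1) :
    A 0 0 + A 1 1 = 0 := by
  obtain ⟨-, e1, e2, e3, -⟩ := scal (σ := RingEquiv.refl F)
    (fun x => by rw [map_refl_apply]; exact h x) h2
  simp only [RingEquiv.refl_apply] at e1 e2 e3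
  by_contra h0
  have b0 : A 0 1 = 0 := by
    have : A 0 1 * (A 0 0 + A 1 1) = 0 := by linear_combination e1
    exact (mul_eq_zero.1 this).resolve_right h0
  have c0 : A 1 0 = 0 := by
    have : A 1 0 * (A 0 0 + A 1 1) = 0 := by linear_combination e2
    exact (mul_eq_zero.1 this).resolve_right h0
  have d0 : A 0 0 = A 1 1 := by
    have : (A 0 0 - A 1 1) * (A 0 0 + A 1 1) = 0 := by linear_combination e3
    exact sub_eq_zero.1 ((mul_eq_zero.1 this).resolve_right h0)
  apply hne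
  ext x
  rw [h, Equiv.Perm.one_apply]
  cases x with
  | infty => exact smul_infty_eq_self_iff.2 c0
  | coe x =>
    rw [fixed_iff, b0, c0, d0]
    ring

theorem det_eq_of_trace (h0 : A 0 0 + A 1 1 = 0) :
    -(A : Matrix (Fin 2) (Fin 2) F).det = A 0 0 * A 0 0 + A 0 1 * A 1 0 := by
  rw [det_fin_two]
  have e1 : A 1 1 = -A 0 0 := by linear_combination h0
  rw [e1]
  ring

theorem fixed_iff_of_trace (h0 : A 0 0 + A 1 1 = 0) (hc : A 1 0 ≠ 0) (x : F) :
    A • (x : OnePoint F) = x ↔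
      (A 1 0 * x - A 0 0) * (A 1 0 * x - A 0 0) = -(A : Matrix (Fin 2) (Fin 2) F).det := by
  rw [fixed_iff, det_eq_of_trace h0]
  have e1 : A 1 1 = -A 0 0 := by linear_combination h0
  rw [e1]
  constructor
  · intro h
    linear_combination (-A 1 0) * h
  · intro h
    apply mul_left_cancel₀ hc
    linear_combination -h

/-- The fixed points of an involution of trace `0` whose `-det` is a square. -/
theorem fixed_of_square (h2F : (2 : F) ≠ 0) (h0 : A 0 0 + A 1 1 = 0)
    (hs : IsSquare (-(A : Matrix (Fin 2) (Fin 2) F).det)) :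
    ∃ x y : OnePoint F, x ≠ y ∧ ∀ z, A • z = z ↔ z = x ∨ z = y := by
  have hdet : (A : Matrix (Fin 2) (Fin 2) F).det ≠ 0 := A.det_ne_zero
  obtain ⟨s, hs⟩ := hs
  by_cases hc : A 1 0 = 0
  · have e1 : A 1 1 = -A 0 0 := by linear_combination h0
    have ha : A 0 0 ≠ 0 := by
      intro ha
      apply hdet
      rw [det_fin_two, hc, ha]
      ring
    refine ⟨∞, ((-A 0 1 / (2 * A 0 0) : F) : OnePoint F), infty_ne_coe _, fun z => ?_⟩
    cases z with
    | infty => simp [smul_infty_eq_self_iff, hc]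
    | coe z =>
      rw [fixed_iff, hc, e1, coe_eq_coe, eq_div_iff (mul_ne_zero h2F ha)]
      constructor
      · intro h
        right
        linear_combination h
      · rintro (h | h)
        · exact absurd h (coe_ne_infty _)
        · linear_combination h
  · have hs0 : s ≠ 0 := by
      rintro rfl
      apply hdet
      linear_combination -hs
    refine ⟨(((A 0 0 + s) / A 1 0 : F) : OnePoint F), (((A 0 0 - s) / A 1 0 : F) : OnePoint F),
      ?_, fun z => ?_⟩
    · intro h
      rw [coe_eq_coe, div_left_inj' hc] at h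
      have : (2 : F) * s = 0 := by linear_combination h
      exact (mul_ne_zero h2F hs0) this
    · cases z with
      | infty =>
        rw [smul_infty_eq_self_iff]
        constructor
        · intro h
          exact absurd h hc
        · rintro (h | h)
          · exact absurd h (infty_ne_coe _)
          · exact absurd h (infty_ne_coe _)
      | coe z =>
        rw [fixed_iff_of_trace h0 hc, hs, mul_self_eq_mul_self_iff, coe_eq_coe, coe_eq_coe,
          eq_div_iff hc, eq_div_iff hc]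
        constructor
        · rintro (h | h)
          · left
            linear_combination h
          · right
            linear_combination h
        · rintro (h | h)
          · left
            linear_combination h
          · right
            linear_combination h

/-- Without fixed points: trace `0`, `-det` not a square. -/
theorem fpf_lin (h2F : (2 : F) ≠ 0) (h : ∀ x, π x = A • x) (h2 : ∀ x, π (π x) = x)
    (hf : ∀ x, π x ≠ x) :
    (A : Matrix (Fin 2) (Fin 2) F).trace = 0 ∧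
      ¬ IsSquare (-(A : Matrix (Fin 2) (Fin 2) F).det) := by
  have hne : π ≠ 1 := by
    rintro rfl
    exact hf ∞ rfl
  have h0 := trace_zero h h2 hne
  refine ⟨by rw [trace_fin_two, h0], fun hs => ?_⟩
  obtain ⟨x, y, -, hz⟩ := fixed_of_square h2F h0 hs
  exact hf x (by rw [h]; exact (hz x).2 (Or.inl rfl))

/-- Linear, not `1`, with a fixed point: exactly two fixed points and `-det` is a square. -/
theorem two_lin (h2F : (2 : F) ≠ 0) (h : ∀ x, π x = A • x) (h2 : ∀ x, π (π x) = x)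
    (hne : π ≠ 1) (hf : ∃ x, π x = x) :
    IsSquare (-(A : Matrix (Fin 2) (Fin 2) F).det) ∧ {x | π x = x}.ncard = 2 := by
  have h0 := trace_zero h h2 hne
  have hs : IsSquare (-(A : Matrix (Fin 2) (Fin 2) F).det) := by
    obtain ⟨x, hx⟩ := hf
    rw [h] at hx
    by_cases hc : A 1 0 = 0
    · rw [det_eq_of_trace h0, hc, mul_zero, add_zero]
      exact ⟨_, rfl⟩
    · cases x with
      | infty => exact absurd (smul_infty_eq_self_iff.1 hx) hc
      | coe x => exact ⟨_, ((fixed_iff_of_trace h0 hc x).1 hx).symm⟩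
  refine ⟨hs, ?_⟩
  obtain ⟨x, y, hxy, hz⟩ := fixed_of_square h2F h0 hs
  have : {x | π x = x} = {x, y} := by
    ext z
    rw [Set.mem_insert_iff, Set.mem_singleton_iff]
    show π z = z ↔ _
    rw [h]
    exact hz z
  rw [this, Set.ncard_pair hxy]

end Basic

section Field

variable [Fintype F] {σ : F ≃+* F}

theorem exists_anti (h2F : (2 : F) ≠ 0) (hs : ∀ x, σ (σ x) = x) (hne : σ ≠ RingEquiv.refl F) :
    ∃ ζ : F, ζ ≠ 0 ∧ σ ζ = -ζ := by
  obtain ⟨x, hx⟩ : ∃ x, σ x ≠ x := by
    by_contra hcon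
    push Not at hcon
    exact hne (RingEquiv.ext hcon)
  exact ⟨x - σ x, sub_ne_zero.2 hx.symm, by rw [map_sub, hs]; ring⟩

/-- The fixed field of `σ`. -/
def fixF (σ : F ≃+* F) : Subfield F := (σ : F →+* F).eqLocusField (RingHom.id F)

theorem mem_fixF {x : F} : x ∈ fixF σ ↔ σ x = x := Iff.rfl

/-- `|F| = r²`, `r` the order of the fixed field. -/
theorem card_sq (h2F : (2 : F) ≠ 0) (hs : ∀ x, σ (σ x) = x) (hne : σ ≠ RingEquiv.refl F) :
    Fintype.card F = Nat.card (fixF σ) ^ 2 := by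
  obtain ⟨ζ, hζ, hσζ⟩ := exists_anti h2F hs hne
  rw [← Nat.card_eq_fintype_card, pow_two, ← Nat.card_prod]
  symm
  apply Nat.card_congr
  refine Equiv.ofBijective (fun p : fixF σ × fixF σ => (p.1 : F) + ζ * p.2) ⟨?_, ?_⟩
  · rintro ⟨⟨x, hx⟩, ⟨y, hy⟩⟩ ⟨⟨x', hx'⟩, ⟨y', hy'⟩⟩ h
    rw [mem_fixF] at hx hy hx' hy'
    change x + ζ * y = x' + ζ * y' at h
    have h1 := congrArg σ h
    rw [map_add, map_mul, map_add, map_mul, hx, hy, hx', hy', hσζ] at h1
    have e1 : x = x' := by
      apply mul_left_cancel₀ h2F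
      linear_combination h + h1
    have e2 : y = y' := by
      apply mul_left_cancel₀ (mul_ne_zero h2F hζ)
      linear_combination h - h1
    subst e1
    subst e2
    rfl
  · intro z
    have hx : σ ((z + σ z) / 2) = (z + σ z) / 2 := by
      rw [map_div₀, map_add, hs, map_ofNat]
      ring
    have hy : σ ((z - σ z) / (2 * ζ)) = (z - σ z) / (2 * ζ) := by
      rw [map_div₀, map_sub, hs, map_mul, map_ofNat, hσζ]
      rw [div_eq_div_iff (mul_ne_zero h2F (neg_ne_zero.2 hζ)) (mul_ne_zero h2F hζ)]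
      ring
    refine ⟨(⟨_, mem_fixF.2 hx⟩, ⟨_, mem_fixF.2 hy⟩), ?_⟩
    change (z + σ z) / 2 + ζ * ((z - σ z) / (2 * ζ)) = z
    field_simp
    ring

/-- The norm of `F` to the fixed field is surjective. -/
theorem exists_norm (hF : Odd (Fintype.card F)) (hs : ∀ x, σ (σ x) = x)
    (hne : σ ≠ RingEquiv.refl F) {c : F} (hc : σ c = c) : ∃ d, d * σ d = c := by
  classical
  have h2F := two_ne hF
  obtain ⟨ζ, hζ, hσζ⟩ := exists_anti h2F hs hne
  have := Fintype.ofFinite (fixF σ)
  have hodd : Fintype.card (fixF σ) % 2 = 1 := by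
    have h1 := card_sq h2F hs hne
    rw [h1] at hF
    have h3 : Odd (Nat.card (fixF σ)) := by
      rw [pow_two] at hF
      exact (Nat.odd_mul.1 hF).1
    rw [Nat.card_eq_fintype_card] at h3
    exact Nat.odd_iff.1 h3
  have hζ2 : σ (ζ ^ 2) = ζ ^ 2 := by rw [map_pow, hσζ]; ring
  set C : fixF σ := ⟨c, hc⟩ with hC
  set Z : fixF σ := ⟨ζ ^ 2, hζ2⟩ with hZ
  have hZ0 : Z ≠ 0 := by
    intro h
    have := congrArg Subtype.val h
    exact (pow_ne_zero 2 hζ) this
  obtain ⟨a, b, hab⟩ := FiniteField.exists_root_sum_quadratic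
    (f := (Polynomial.X ^ 2 - Polynomial.C C : Polynomial (fixF σ)))
    (g := (Polynomial.C (-Z) * Polynomial.X ^ 2 : Polynomial (fixF σ)))
    (Polynomial.degree_X_pow_sub_C (by decide) _)
    (by rw [Polynomial.degree_C_mul_X_pow 2 (neg_ne_zero.2 hZ0)]; rfl) hodd
  simp only [Polynomial.eval_sub, Polynomial.eval_pow, Polynomial.eval_X, Polynomial.eval_C,
    Polynomial.eval_mul] at hab
  have h1 : (a : F) ^ 2 - c + -ζ ^ 2 * (b : F) ^ 2 = 0 := by
    have := congrArg Subtype.val hab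
    exact this
  refine ⟨a + ζ * b, ?_⟩
  rw [map_add, map_mul, hσζ, mem_fixF.1 a.2, mem_fixF.1 b.2]
  linear_combination h1

/-- The elements of the fixed field are squares in `F`. -/
theorem isSquare_of_fix (h2F : (2 : F) ≠ 0) (hs : ∀ x, σ (σ x) = x)
    (hne : σ ≠ RingEquiv.refl F) {c : F} (hc : σ c = c) : IsSquare c := by
  classical
  obtain ⟨ζ, hζ, hσζ⟩ := exists_anti h2F hs hne
  have := Fintype.ofFinite (fixF σ)
  have hζ2 : σ (ζ ^ 2) = ζ ^ 2 := by rw [map_pow, hσζ]; ring
  set C : fixF σ := ⟨c, hc⟩ with hC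
  set Z : fixF σ := ⟨ζ ^ 2, hζ2⟩ with hZ
  have hCs : IsSquare C → IsSquare c := by
    rintro ⟨y, hy⟩
    exact ⟨y, congrArg Subtype.val hy⟩
  by_cases h1 : IsSquare C
  · exact hCs h1
  have hZn : ¬ IsSquare Z := by
    rintro ⟨y, hy⟩
    have h3 : ζ ^ 2 = (y : F) * y := congrArg Subtype.val hy
    have h4 : (ζ - y) * (ζ + y) = 0 := by linear_combination h3
    have h5 : σ (y : F) = y := mem_fixF.1 y.2
    have h6 : ζ = y ∨ ζ = -y := by
      rcases mul_eq_zero.1 h4 with h | h
      · exact Or.inl (sub_eq_zero.1 h)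
      · exact Or.inr (eq_neg_of_add_eq_zero_left h)
    have h7 : σ ζ = ζ := by
      rcases h6 with h | h
      · rw [h, h5]
      · rw [h, map_neg, h5]
    rw [hσζ] at h7
    exact (mul_ne_zero h2F hζ) (by linear_combination -h7)
  have hCZ : IsSquare (C * Z) := by
    have hC0 : C ≠ 0 := by
      rintro h
      exact h1 (h ▸ IsSquare.zero)
    have hZ0 : Z ≠ 0 := by
      rintro h
      exact hZn (h ▸ IsSquare.zero)
    rw [← quadraticChar_one_iff_isSquare (mul_ne_zero hC0 hZ0), map_mul,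
      quadraticChar_neg_one_iff_not_isSquare.2 h1, quadraticChar_neg_one_iff_not_isSquare.2 hZn]
    norm_num
  obtain ⟨y, hy⟩ := hCZ
  have h3 : c * ζ ^ 2 = (y : F) * y := congrArg Subtype.val hy
  refine ⟨y / ζ, ?_⟩
  rw [div_mul_div_comm, eq_div_iff (mul_ne_zero hζ hζ)]
  linear_combination h3

theorem isSquare_div (h2F : (2 : F) ≠ 0) (hs : ∀ x, σ (σ x) = x)
    (hne : σ ≠ RingEquiv.refl F) {c : F} (hc : c ≠ 0) : IsSquare (c / σ c) := by
  have h1 : σ c ≠ 0 := by
    intro h
    exact hc ((map_eq_zero σ).1 h)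
  obtain ⟨s, h3⟩ := isSquare_of_fix h2F hs hne (c := c * σ c) (by rw [map_mul, hs, mul_comm])
  refine ⟨s / σ c, ?_⟩
  rw [div_mul_div_comm, div_eq_div_iff h1 (mul_ne_zero h1 h1)]
  linear_combination σ c * h3

end Field

section Frame

variable [DecidableEq F] [Fintype F] {π : Equiv.Perm (OnePoint F)} {A : GL (Fin 2) F}
  {σ : F ≃+* F}

/-- Proportional matrices act in the same way. -/
theorem smul_congr {B C : GL (Fin 2) F} {e : F} (he : e ≠ 0) (h : ∀ i j, B i j = e * C i j)
    (x : OnePoint F) : B • x = C • x := by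
  cases x with
  | infty =>
    rw [smul_infty_eq_ite, smul_infty_eq_ite, h 1 0, h 0 0]
    by_cases h0 : C 1 0 = 0
    · rw [if_pos (by rw [h0, mul_zero]), if_pos h0]
    · rw [if_neg (mul_ne_zero he h0), if_neg h0, mul_div_mul_left _ _ he]
  | coe x =>
    rw [smul_some_eq_ite, smul_some_eq_ite, h 1 0, h 0 0, h 0 1, h 1 1]
    have e1 : e * C 1 0 * x + e * C 1 1 = e * (C 1 0 * x + C 1 1) := by ring
    have e2 : e * C 0 0 * x + e * C 0 1 = e * (C 0 0 * x + C 0 1) := by ring
    rw [e1, e2]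
    by_cases h0 : C 1 0 * x + C 1 1 = 0
    · rw [if_pos (by rw [h0, mul_zero]), if_pos h0]
    · rw [if_neg (mul_ne_zero he h0), if_neg h0, mul_div_mul_left _ _ he]

/-- Hilbert 90 for `GL₂`, projectively: `A σ(g) = e g`. -/
theorem exists_frame (hF : Odd (Fintype.card F)) (h : ∀ x, π x = A • OnePoint.map σ x)
    (h2 : ∀ x, π (π x) = x) (hne : σ ≠ RingEquiv.refl F) :
    ∃ (g : GL (Fin 2) F) (e : F), e ≠ 0 ∧
      ∀ i j, (A * GeneralLinearGroup.map (σ : F →+* F) g) i j = e * g i j := by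
  obtain ⟨hs, e1, e2, e3, e4⟩ := scal h h2
  have h2F := two_ne hF
  obtain ⟨ζ, hζ, hσζ⟩ := exists_anti h2F hs hne
  set κ := A 0 0 * σ (A 0 0) + A 0 1 * σ (A 1 0) with hκ
  have hdetA : (A : Matrix (Fin 2) (Fin 2) F).det ≠ 0 := A.det_ne_zero
  rw [det_fin_two] at hdetA
  -- `σ κ = κ`
  have e5 : κ = A 1 0 * σ (A 0 1) + A 1 1 * σ (A 1 1) := e3
  have g1 : (A 0 0 * A 1 1 - A 0 1 * A 1 0) * σ (A 0 0) = κ * A 1 1 := by
    rw [hκ]
    linear_combination (-A 0 1) * e2
  have g2 : (A 0 0 * A 1 1 - A 0 1 * A 1 0) * σ (A 0 1) = -(κ * A 0 1) := by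
    rw [e5]
    linear_combination A 1 1 * e1
  have hσκ : σ κ = κ := by
    have f1 : σ κ = σ (A 0 0) * A 0 0 + σ (A 0 1) * A 1 0 := by
      rw [hκ, map_add, map_mul, map_mul, hs, hs]
    have f3 : (A 0 0 * A 1 1 - A 0 1 * A 1 0) * (σ κ - κ) = 0 := by
      rw [mul_sub]
      linear_combination (A 0 0 * A 1 1 - A 0 1 * A 1 0) * f1 + A 0 0 * g1 + A 1 0 * g2
    exact sub_eq_zero.1 ((mul_eq_zero.1 f3).resolve_left hdetA)
  obtain ⟨d, hd⟩ := exists_norm hF hs hne hσκ
  have hd0 : d ≠ 0 := by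
    rintro rfl
    rw [zero_mul] at hd
    exact e4 hd.symm
  have hσd0 : σ d ≠ 0 := by
    intro h
    exact hd0 ((map_eq_zero σ).1 h)
  -- the matrix `g = σ(μ) A + d μ`
  set T : F := A 0 0 + A 1 1 with hT
  set D : F := A 0 0 * A 1 1 - A 0 1 * A 1 0 with hD
  obtain ⟨μ, hμ⟩ : ∃ μ : F, σ μ * σ μ * D + d * μ * σ μ * T + d * μ * (d * μ) ≠ 0 := by
    by_contra hcon
    push Not at hcon
    have m1 := hcon 1
    rw [map_one] at m1
    have m2 := hcon ζ
    rw [hσζ] at m2
    have m3 := hcon (1 + ζ)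
    rw [map_add, map_one, hσζ] at m3
    have n2 : D - d * T + d * d = 0 := by
      apply mul_left_cancel₀ (mul_ne_zero hζ hζ)
      linear_combination m2
    have n3 : d * T = 0 := by
      apply mul_left_cancel₀ h2F
      linear_combination m1 - n2
    have n4 : D = -(d * d) := by linear_combination n2 + n3
    have n5 : (2 : F) * (2 * (ζ * (d * d))) = 0 := by
      rw [n4] at m3
      linear_combination m3 - (1 + ζ) * (1 - ζ) * n3
    exact (mul_ne_zero h2F (mul_ne_zero h2F (mul_ne_zero hζ (mul_ne_zero hd0 hd0)))) n5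
  set M : Matrix (Fin 2) (Fin 2) F := !![σ μ * A 0 0 + d * μ, σ μ * A 0 1;
    σ μ * A 1 0, σ μ * A 1 1 + d * μ] with hM
  have hMdet : M.det ≠ 0 := by
    rw [hM, det_fin_two_of]
    intro h
    apply hμ
    rw [hD, hT]
    linear_combination h
  refine ⟨GeneralLinearGroup.mkOfDetNeZero M hMdet, σ d, hσd0, ?_⟩
  have hval : ∀ i j, (GeneralLinearGroup.mkOfDetNeZero M hMdet : GL (Fin 2) F) i j = M i j :=
    fun i j => rfl
  intro i j
  have hprod : (A * GeneralLinearGroup.map (σ : F →+* F)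
      (GeneralLinearGroup.mkOfDetNeZero M hMdet)) i j = A i 0 * σ (M 0 j) + A i 1 * σ (M 1 j) := by
    simp [Matrix.mul_apply, Fin.sum_univ_two, GeneralLinearGroup.mkOfDetNeZero]
  rw [hprod, hval]
  fin_cases i <;> fin_cases j
  · simp only [hM, Fin.zero_eta, Matrix.of_apply, Matrix.cons_val', Matrix.cons_val_zero,
      Matrix.cons_val_one, Matrix.cons_val_fin_one, map_add, map_mul, hs]
    linear_combination -μ * hd - μ * hκ
  · simp only [hM, Fin.zero_eta, Fin.mk_one, Matrix.of_apply, Matrix.cons_val', Matrix.cons_val_zero,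
      Matrix.cons_val_one, Matrix.cons_val_fin_one, map_add, map_mul, hs]
    linear_combination μ * e1
  · simp only [hM, Fin.zero_eta, Fin.mk_one, Matrix.of_apply, Matrix.cons_val', Matrix.cons_val_zero,
      Matrix.cons_val_one, Matrix.cons_val_fin_one, map_add, map_mul, hs]
    linear_combination μ * e2
  · simp only [hM, Fin.zero_eta, Fin.mk_one, Matrix.of_apply, Matrix.cons_val', Matrix.cons_val_zero,
      Matrix.cons_val_one, Matrix.cons_val_fin_one, map_add, map_mul, hs]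
    linear_combination -μ * hd - μ * e5

theorem ncard_map_fix : {x : OnePoint F | OnePoint.map σ x = x}.ncard = Nat.card (fixF σ) + 1 := by
  have h1 : {x : OnePoint F | OnePoint.map σ x = x} =
      insert ∞ ((fun x : F => (x : OnePoint F)) '' {x | σ x = x}) := by
    ext x
    cases x with
    | infty => simp
    | coe x =>
      simp only [Set.mem_setOf_eq, OnePoint.map_some, coe_eq_coe, Set.mem_insert_iff,
        coe_ne_infty, false_or, Set.mem_image, exists_eq_right]
  rw [h1, Set.ncard_insert_of_notMem _ (Set.toFinite _),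
    Set.ncard_image_of_injective _ (fun x y h => coe_eq_coe.1 h)]
  · rfl
  · rintro ⟨x, -, hx⟩
    exact coe_ne_infty x hx

/-- Field type: `|F| = r²`, exactly `r + 1` fixed points, `det A` is a square. -/
theorem field (hF : Odd (Fintype.card F)) (h : ∀ x, π x = A • OnePoint.map σ x)
    (h2 : ∀ x, π (π x) = x) (hne : σ ≠ RingEquiv.refl F) :
    ∃ r, Fintype.card F = r ^ 2 ∧ {x | π x = x}.ncard = r + 1 ∧
      IsSquare (A : Matrix (Fin 2) (Fin 2) F).det := by
  have h2F := two_ne hF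
  have hs := (scal h h2).1
  obtain ⟨g, e, he, hg⟩ := exists_frame hF h h2 hne
  refine ⟨Nat.card (fixF σ), card_sq h2F hs hne, ?_, ?_⟩
  · have h3 : ∀ x, π (g • x) = g • OnePoint.map σ x := by
      intro x
      have h5 : OnePoint.map σ (g • x) =
          GeneralLinearGroup.map (σ : F →+* F) g • OnePoint.map σ x :=
        OnePoint.map_smul (σ : F →+* F) g x
      rw [h, h5, ← mul_smul]
      exact smul_congr he hg _
    have h4 : {x | π x = x} = (fun x => g • x) '' {x | OnePoint.map σ x = x} := by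
      ext y
      constructor
      · intro hy
        refine ⟨g⁻¹ • y, ?_, smul_inv_smul g y⟩
        have h5 := h3 (g⁻¹ • y)
        rw [smul_inv_smul] at h5
        have h6 : π y = y := hy
        rw [h6] at h5
        show OnePoint.map σ (g⁻¹ • y) = g⁻¹ • y
        rw [← smul_left_cancel_iff g, ← h5, smul_inv_smul]
      · rintro ⟨x, hx, rfl⟩
        show π (g • x) = g • x
        have hx' : OnePoint.map σ x = x := hx
        rw [h3, hx']
    rw [h4, Set.ncard_image_of_injective _ (MulAction.injective g), ncard_map_fix]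
  · have h3 : ((A * GeneralLinearGroup.map (σ : F →+* F) g : GL (Fin 2) F) :
        Matrix (Fin 2) (Fin 2) F) = e • (g : Matrix (Fin 2) (Fin 2) F) := by
      ext i j
      exact hg i j
    have h4 := congrArg Matrix.det h3
    rw [GeneralLinearGroup.coe_mul, det_mul, det_smul, Fintype.card_fin] at h4
    have h5 : ((GeneralLinearGroup.map (σ : F →+* F) g : GL (Fin 2) F) :
        Matrix (Fin 2) (Fin 2) F).det = σ (g : Matrix (Fin 2) (Fin 2) F).det := by
      rw [det_fin_two, det_fin_two, map_sub, map_mul, map_mul]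
      rfl
    rw [h5] at h4
    have hg0 : (g : Matrix (Fin 2) (Fin 2) F).det ≠ 0 := g.det_ne_zero
    have hσg0 : σ (g : Matrix (Fin 2) (Fin 2) F).det ≠ 0 := by
      intro h6
      exact hg0 ((map_eq_zero σ).1 h6)
    obtain ⟨s, h7⟩ := isSquare_div h2F hs hne hg0
    refine ⟨e * s, ?_⟩
    rw [div_eq_iff hσg0] at h7
    apply mul_right_cancel₀ hσg0
    linear_combination h4 + e ^ 2 * h7

/-- Fixed point free: linear, of trace `0`, `-det A` a nonsquare. -/
theorem fpf (hF : Odd (Fintype.card F)) (h : ∀ x, π x = A • OnePoint.map σ x)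
    (h2 : ∀ x, π (π x) = x) (hf : ∀ x, π x ≠ x) :
    σ = RingEquiv.refl F ∧ (A : Matrix (Fin 2) (Fin 2) F).trace = 0 ∧
      ¬ IsSquare (-(A : Matrix (Fin 2) (Fin 2) F).det) := by
  have h1 : σ = RingEquiv.refl F := by
    by_contra hne
    obtain ⟨r, -, h3, -⟩ := field hF h h2 hne
    have h4 : {x | π x = x} = ∅ := by
      ext x
      exact iff_of_false (hf x) (Set.notMem_empty x)
    rw [h4, Set.ncard_empty] at h3
    omega
  subst h1
  exact ⟨rfl, fpf_lin (two_ne hF) (fun x => by rw [h, map_refl_apply]) h2 hf⟩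

/-- Linear, not `1`, with a fixed point: exactly two of them, `-det A` a square. -/
theorem two (hF : Odd (Fintype.card F)) (h : ∀ x, π x = A • OnePoint.map σ x)
    (h2 : ∀ x, π (π x) = x) (hσ : σ = RingEquiv.refl F) (hne : π ≠ 1) (hf : ∃ x, π x = x) :
    IsSquare (-(A : Matrix (Fin 2) (Fin 2) F).det) ∧ {x | π x = x}.ncard = 2 := by
  subst hσ
  exact two_lin (two_ne hF) (fun x => by rw [h, map_refl_apply]) h2 hne hf

end Frame

section Count

variable [Fintype F]

theorem exists_nonsq (hF : Odd (Fintype.card F)) : ∃ ν : F, ¬ IsSquare ν :=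
  FiniteField.exists_nonsquare (fun h => by
    have h1 := FiniteField.even_card_iff_char_two.1 h
    rw [Nat.odd_iff] at hF
    omega)

/-- `2 |nonsquares| + 1 = |F|`. -/
theorem card_nonsq (hF : Odd (Fintype.card F)) :
    2 * Nat.card {c : F // ¬ IsSquare c} + 1 = Fintype.card F := by
  classical
  have h0 : ∑ a : F, quadraticChar F a = 0 := quadraticChar_sum_zero (fun h => by
    have h1 := FiniteField.even_card_iff_char_two.1 h
    rw [Nat.odd_iff] at hF
    omega)
  have h1 : ∀ a : F, quadraticChar F a = (if a = 0 then 0 else 1) -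
      2 * (if IsSquare a then 0 else 1) := by
    intro a
    by_cases ha : a = 0
    · subst ha
      rw [if_pos rfl, if_pos IsSquare.zero]
      simp
    · rw [if_neg ha]
      by_cases hs : IsSquare a
      · rw [if_pos hs, (quadraticChar_one_iff_isSquare ha).2 hs]
        norm_num
      · rw [if_neg hs, quadraticChar_neg_one_iff_not_isSquare.2 hs]
        norm_num
  rw [Finset.sum_congr rfl (fun a _ => h1 a), Finset.sum_sub_distrib, ← Finset.mul_sum] at h0
  have h2 : ∑ a : F, (if a = 0 then (0 : ℤ) else 1) = Fintype.card F - 1 := by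
    rw [Finset.sum_ite, Finset.sum_const_zero, zero_add, Finset.sum_const, nsmul_eq_mul, mul_one,
      Finset.filter_ne', Finset.card_erase_of_mem (Finset.mem_univ _), Finset.card_univ,
      Nat.cast_sub Fintype.card_pos]
    rfl
  have h3 : ∑ a : F, (if IsSquare a then (0 : ℤ) else 1) = Nat.card {c : F // ¬ IsSquare c} := by
    rw [Finset.sum_ite, Finset.sum_const_zero, zero_add, Finset.sum_const, nsmul_eq_mul, mul_one,
      Nat.card_eq_fintype_card, Fintype.card_subtype]
  rw [h2, h3] at h0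
  have h4 : ((2 * Nat.card {c : F // ¬ IsSquare c} + 1 : ℕ) : ℤ) = (Fintype.card F : ℕ) := by
    push_cast
    linarith
  exact_mod_cast h4

variable [DecidableEq F]

/-- `x ↦ a + ν / (x - a)`. -/
noncomputable def inv (a : F) (ν : F) (hν : ν ≠ 0) : GL (Fin 2) F :=
  GeneralLinearGroup.mkOfDetNeZero !![a, ν - a * a; 1, -a] (by
    rw [det_fin_two_of]
    intro h
    exact hν (by linear_combination -h))

theorem inv_zero_zero (a ν : F) (hν : ν ≠ 0) : inv a ν hν 0 0 = a := rfl
theorem inv_zero_one (a ν : F) (hν : ν ≠ 0) : inv a ν hν 0 1 = ν - a * a := rfl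
theorem inv_one_zero (a ν : F) (hν : ν ≠ 0) : inv a ν hν 1 0 = 1 := rfl
theorem inv_one_one (a ν : F) (hν : ν ≠ 0) : inv a ν hν 1 1 = -a := rfl

theorem inv_trace (a ν : F) (hν : ν ≠ 0) : inv a ν hν 0 0 + inv a ν hν 1 1 = 0 := by
  rw [inv_zero_zero, inv_one_one, add_neg_cancel]

theorem inv_det (a ν : F) (hν : ν ≠ 0) :
    -(inv a ν hν : Matrix (Fin 2) (Fin 2) F).det = ν := by
  rw [det_eq_of_trace (inv_trace a ν hν), inv_zero_zero, inv_zero_one, inv_one_zero]
  ring

theorem inv_infty (a ν : F) (hν : ν ≠ 0) : inv a ν hν • (∞ : OnePoint F) = (a : OnePoint F) := by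
  rw [smul_infty_eq_ite, inv_one_zero, if_neg one_ne_zero, inv_zero_zero, div_one]

theorem inv_add_one (a ν : F) (hν : ν ≠ 0) :
    inv a ν hν • (((a + 1 : F)) : OnePoint F) = ((a + ν : F) : OnePoint F) := by
  have h1 : (1 : F) * (a + 1) + -a = 1 := by ring
  rw [smul_some_eq_ite, inv_one_zero, inv_one_one, h1, if_neg one_ne_zero, div_one, inv_zero_zero,
    inv_zero_one]
  congr 1
  ring

theorem inv_inv (a ν : F) (hν : ν ≠ 0) (x : OnePoint F) :
    inv a ν hν • (inv a ν hν • x) = x := by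
  rw [← mul_smul]
  have h1 : ∀ i j, (inv a ν hν * inv a ν hν) i j = ν * (1 : GL (Fin 2) F) i j := by
    intro i j
    rw [GeneralLinearGroup.coe_mul, Matrix.mul_apply, Fin.sum_univ_two, Units.val_one]
    fin_cases i <;> fin_cases j
    · show inv a ν hν 0 0 * inv a ν hν 0 0 + inv a ν hν 0 1 * inv a ν hν 1 0 = _
      rw [inv_zero_zero, inv_zero_one, inv_one_zero]
      simp
    · show inv a ν hν 0 0 * inv a ν hν 0 1 + inv a ν hν 0 1 * inv a ν hν 1 1 = _
      rw [inv_zero_zero, inv_zero_one, inv_one_one]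
      simp
      ring
    · show inv a ν hν 1 0 * inv a ν hν 0 0 + inv a ν hν 1 1 * inv a ν hν 1 0 = _
      rw [inv_zero_zero, inv_one_zero, inv_one_one]
      simp
    · show inv a ν hν 1 0 * inv a ν hν 0 1 + inv a ν hν 1 1 * inv a ν hν 1 1 = _
      rw [inv_zero_one, inv_one_zero, inv_one_one]
      simp
  rw [smul_congr hν h1, one_smul]

theorem inv_fpf (a ν : F) (hν : ¬ IsSquare ν) (hν0 : ν ≠ 0) (x : OnePoint F) :
    inv a ν hν0 • x ≠ x := by
  cases x with
  | infty =>
    rw [inv_infty]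
    exact coe_ne_infty a
  | coe x =>
    intro h
    rw [fixed_iff_of_trace (inv_trace a ν hν0) (by rw [inv_one_zero]; exact one_ne_zero),
      inv_det] at h
    exact hν ⟨_, h.symm⟩

theorem ne_zero_of_nonsq {ν : F} (hν : ¬ IsSquare ν) : ν ≠ 0 := by
  rintro rfl
  exact hν IsSquare.zero

/-- The fixed point free linear involutions. -/
theorem mem_range_iff (hF : Odd (Fintype.card F)) (π : Equiv.Perm (OnePoint F)) :
    ((∃ A : GL (Fin 2) F, ∀ x, π x = A • x) ∧ (∀ x, π (π x) = x) ∧ ∀ x, π x ≠ x) ↔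
      ∃ p : F × {ν : F // ¬ IsSquare ν},
        MulAction.toPerm (inv p.1 p.2 (ne_zero_of_nonsq p.2.2)) = π := by
  constructor
  · rintro ⟨⟨A, hA⟩, h2, hf⟩
    obtain ⟨htr, hns⟩ := fpf_lin (two_ne hF) hA h2 hf
    rw [trace_fin_two] at htr
    have hc : A 1 0 ≠ 0 := by
      intro hc
      exact hf ∞ (by rw [hA]; exact smul_infty_eq_self_iff.2 hc)
    have hν : ¬ IsSquare (-(A : Matrix (Fin 2) (Fin 2) F).det / (A 1 0 * A 1 0)) := by
      rintro ⟨s, hs⟩
      rw [div_eq_iff (mul_ne_zero hc hc)] at hs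
      exact hns ⟨s * A 1 0, by rw [hs]; ring⟩
    refine ⟨(A 0 0 / A 1 0, ⟨_, hν⟩), ?_⟩
    ext x
    rw [hA, MulAction.toPerm_apply]
    symm
    apply smul_congr hc
    have e1 : A 1 1 = -A 0 0 := by linear_combination htr
    intro i j
    fin_cases i <;> fin_cases j
    · show A 0 0 = A 1 0 * inv _ _ _ 0 0
      rw [inv_zero_zero]
      field_simp
    · show A 0 1 = A 1 0 * inv _ _ _ 0 1
      rw [inv_zero_one]
      simp only [det_eq_of_trace htr]
      field_simp
      ring
    · show A 1 0 = A 1 0 * inv _ _ _ 1 0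
      rw [inv_one_zero, mul_one]
    · show A 1 1 = A 1 0 * inv _ _ _ 1 1
      rw [inv_one_one, e1]
      field_simp
  · rintro ⟨⟨a, ν, hν⟩, rfl⟩
    exact ⟨⟨_, fun x => rfl⟩, fun x => inv_inv _ _ _ _, fun x => inv_fpf _ _ hν _ _⟩

/-- There are `q (q - 1) / 2` fixed point free linear involutions. -/
theorem count (hF : Odd (Fintype.card F)) :
    {π : Equiv.Perm (OnePoint F) | (∃ A : GL (Fin 2) F, ∀ x, π x = A • x) ∧
      (∀ x, π (π x) = x) ∧ ∀ x, π x ≠ x}.ncard =
      Fintype.card F * (Fintype.card F - 1) / 2 := by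
  have h1 : {π : Equiv.Perm (OnePoint F) | (∃ A : GL (Fin 2) F, ∀ x, π x = A • x) ∧
      (∀ x, π (π x) = x) ∧ ∀ x, π x ≠ x} =
      (fun p : F × {ν : F // ¬ IsSquare ν} =>
        (MulAction.toPerm (inv p.1 p.2 (ne_zero_of_nonsq p.2.2)) : Equiv.Perm (OnePoint F))) ''
          Set.univ := by
    ext π
    rw [Set.image_univ, Set.mem_range]
    exact mem_range_iff hF π
  have hinj : Function.Injective (fun p : F × {ν : F // ¬ IsSquare ν} =>
        (MulAction.toPerm (inv p.1 p.2 (ne_zero_of_nonsq p.2.2)) : Equiv.Perm (OnePoint F))) := by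
    rintro ⟨a, ν, hν⟩ ⟨a', ν', hν'⟩ h
    have e1 := congrArg (fun f : Equiv.Perm (OnePoint F) => f ∞) h
    change inv a ν _ • (∞ : OnePoint F) = inv a' ν' _ • (∞ : OnePoint F) at e1
    rw [inv_infty, inv_infty, coe_eq_coe] at e1
    subst e1
    have e2 := congrArg (fun f : Equiv.Perm (OnePoint F) => f ((a + 1 : F) : OnePoint F)) h
    change inv a ν _ • ((a + 1 : F) : OnePoint F) = inv a ν' _ • ((a + 1 : F) : OnePoint F) at e2
    rw [inv_add_one, inv_add_one, coe_eq_coe, add_right_inj] at e2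
    subst e2
    rfl
  rw [h1, Set.ncard_image_of_injective _ hinj, Set.ncard_univ, Nat.card_prod,
    Nat.card_eq_fintype_card]
  have h2 := card_nonsq hF
  rw [← h2]
  rw [Nat.add_sub_cancel]
  rw [show (2 * Nat.card {c : F // ¬ IsSquare c} + 1) * (2 * Nat.card {c : F // ¬ IsSquare c}) =
    2 * ((2 * Nat.card {c : F // ¬ IsSquare c} + 1) * Nat.card {c : F // ¬ IsSquare c}) by ring]
  rw [Nat.mul_div_cancel_left _ (by norm_num)]

end Count

end Cfsg.Agent.HKS.PGammaInv

end

-- merged: Cfsg.Agent.Mrg.Omega.ML.RowLTwoOdd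
section

/-!
# (ML), K-list end: the row `PSL₂(q)`, `q` odd, `q ≠ 9`

`deadG` : `DeadG` for `PSL₂(F)`, `|F| > 3` odd, `|F| ≠ 9`.
If `q` is not a square, `Aut(PSL₂(q))` has 2-rank two (`RkPSL.rkAut_two_odd`).  If `q` is a square, `R = C_X(t)`, `t` an
involution of `S ∩ Z(T)`: `A ≤ O₂(R)` centralises an element of odd order of the torus of `C_S(t)`.
-/

set_option autoImplicit false
set_option linter.unusedSectionVars false
set_option linter.unusedSimpArgs false

namespace Cfsg.Agent.Omega.ML.RowLTwoOdd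

open Subgroup Cfsg Matrix Cfsg.Agent.GH.L2Aut Cfsg.Agent.Lib.SL2Mat Cfsg.Agent.Lib.AutSL2
  Cfsg.Agent.Lib.AutSL2Out Cfsg.Agent.Omega.ML.Rows
open Cfsg.Agent.MinSimple.VModule (o2_isPGroup o2_le le_o2 le_normalizer_o2)
open Cfsg.Agent.ZN (o2)

/-- a group in which all nontrivial elements are equal -/
theorem card_le_two {G : Type*} [Group G] (h : ∀ x y : G, x ≠ 1 → y ≠ 1 → x = y) : Nat.card G ≤ 2 := by
  classical
  by_cases h1 : ∀ x : G, x = 1
  · have : Subsingleton G := ⟨fun x y => by rw [h1 x, h1 y]⟩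
    rw [Nat.card_unique]
    norm_num
  · push Not at h1
    obtain ⟨g, hg⟩ := h1
    have h2 : (Set.univ : Set G) ⊆ {1, g} := by
      intro x _
      by_cases hx : x = 1
      · left; exact hx
      · right; exact h x g hx hg
    rw [← Set.ncard_univ]
    exact (Set.ncard_le_ncard h2 (Set.toFinite _)).trans ((Set.ncard_insert_le 1 {g}).trans (by rw [Set.ncard_singleton]))

section sl

variable {F : Type*} [Field F]

local notation "SL2" => Matrix.SpecialLinearGroup (Fin 2) F
local notation "M2" => Matrix (Fin 2) (Fin 2) F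

/-- diagonal elements -/
def dg (a : Fˣ) : SL2 := mk (a : F) 0 0 ((a⁻¹ : Fˣ) : F) (by simp)

theorem dg_mul (a b : Fˣ) : dg a * dg b = dg (a * b) := by
  refine ext_ent ?_ ?_ ?_ ?_ <;> rw [ent_mul] <;> simp [dg]
  rw [mul_comm]

theorem dg_one : dg (1 : Fˣ) = 1 := by
  refine ext_ent ?_ ?_ ?_ ?_ <;> simp [dg]

theorem dg_pow (a : Fˣ) (n : ℕ) : dg a ^ n = dg (a ^ n) := by
  induction n with
  | zero => rw [pow_zero, pow_zero, dg_one]
  | succ n ih => rw [pow_succ, ih, dg_mul, pow_succ]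

theorem dg_injective : Function.Injective (dg : Fˣ → SL2) := by
  intro a b h
  have := congrArg (fun x : SL2 => ent x 0 0) h
  exact Units.ext this

theorem dg_sq {i : Fˣ} (hi : (i : F) * i = -1) : dg i * dg i = -1 := by
  rw [dg_mul]
  have h1 : i * i = -1 := Units.ext (by rw [Units.val_mul, hi]; rfl)
  rw [h1]
  have h1e : ∀ a b : Fin 2, ent (-1 : SL2) a b = -ent (1 : SL2) a b := fun a b => rfl
  refine ext_ent ?_ ?_ ?_ ?_ <;> rw [h1e] <;> simp [dg]

/-- elements commuting with `dg i` up to sign, `i² = -1` -/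
theorem of_comm (h2 : (2 : F) ≠ 0) {i : Fˣ} (hi : (i : F) * i = -1) {x : SL2}
    (h : x * dg i = dg i * x ∨ x * dg i = -(dg i * x)) : (∃ a : Fˣ, x = dg a) ∨ x * x = -1 := by
  have hinv : ((i⁻¹ : Fˣ) : F) = -i := by
    have h3 : (i : F) * ((i⁻¹ : Fˣ) : F) = 1 := by simp
    have h4 : (i : F) ≠ 0 := i.ne_zero
    apply mul_left_cancel₀ h4
    rw [h3, mul_neg, hi, neg_neg]
  have hi0 : (i : F) ≠ 0 := i.ne_zero
  have e00 := fun (y z : SL2) (h : y = z) => congrArg (fun x : SL2 => ent x 0 0) h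
  have e01 := fun (y z : SL2) (h : y = z) => congrArg (fun x : SL2 => ent x 0 1) h
  have e10 := fun (y z : SL2) (h : y = z) => congrArg (fun x : SL2 => ent x 1 0) h
  have e11 := fun (y z : SL2) (h : y = z) => congrArg (fun x : SL2 => ent x 1 1) h
  rcases h with h | h
  · left
    have h01 : ent x 0 1 = 0 := by
      have := e01 _ _ h
      simp only [ent_mul, dg, mk_00, mk_01, mk_10, mk_11, mul_zero, zero_mul, zero_add, add_zero, hinv] at this
      have h3 : 2 * ((i : F) * ent x 0 1) = 0 := by linear_combination -this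
      exact (mul_eq_zero.1 ((mul_eq_zero.1 h3).resolve_left h2)).resolve_left hi0
    have h10 : ent x 1 0 = 0 := by
      have := e10 _ _ h
      simp only [ent_mul, dg, mk_00, mk_01, mk_10, mk_11, mul_zero, zero_mul, zero_add, add_zero, hinv] at this
      have h3 : 2 * ((i : F) * ent x 1 0) = 0 := by linear_combination this
      exact (mul_eq_zero.1 ((mul_eq_zero.1 h3).resolve_left h2)).resolve_left hi0
    have hd := det_eq x
    rw [h01, zero_mul, sub_zero] at hd
    refine ⟨Units.mk (ent x 0 0) (ent x 1 1) hd (by rw [mul_comm]; exact hd), ?_⟩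
    exact ext_ent rfl h01 h10 rfl
  · right
    have hneg : ∀ (y : SL2) (a b : Fin 2), ent (-y) a b = -ent y a b := fun y a b => rfl
    have h00 : ent x 0 0 = 0 := by
      have := e00 _ _ h
      simp only [hneg, ent_mul, dg, mk_00, mk_01, mk_10, mk_11, mul_zero, zero_mul, zero_add, add_zero, hinv] at this
      have h3 : 2 * ((i : F) * ent x 0 0) = 0 := by linear_combination this
      exact (mul_eq_zero.1 ((mul_eq_zero.1 h3).resolve_left h2)).resolve_left hi0
    have h11 : ent x 1 1 = 0 := by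
      have := e11 _ _ h
      simp only [hneg, ent_mul, dg, mk_00, mk_01, mk_10, mk_11, mul_zero, zero_mul, zero_add, add_zero, hinv] at this
      have h3 : 2 * ((i : F) * ent x 1 1) = 0 := by linear_combination -this
      exact (mul_eq_zero.1 ((mul_eq_zero.1 h3).resolve_left h2)).resolve_left hi0
    have hd := det_eq x
    rw [h00, zero_mul, zero_sub] at hd
    have h1e : ∀ a b : Fin 2, ent (-1 : SL2) a b = -ent (1 : SL2) a b := fun a b => rfl
    refine ext_ent ?_ ?_ ?_ ?_ <;> rw [ent_mul, h1e]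
    · rw [h00, ent_one_00]; linear_combination -hd
    · rw [h00, h11, ent_one_01]; ring
    · rw [h00, h11, ent_one_10]; ring
    · rw [h11, ent_one_11]; linear_combination -hd

end sl

section rep

variable {F : Type*} [Field F] {L : Type*} [Group L] (R : GH.L2Aut.Rep F L)

local notation "SL2" => Matrix.SpecialLinearGroup (Fin 2) F

theorem pi_dg_sq {i : Fˣ} (hi : (i : F) * i = -1) : R.π (dg i) * R.π (dg i) = 1 := by
  rw [← map_mul, dg_sq hi, R.ker]
  exact Or.inr rfl

theorem pi_dg_ne {i : Fˣ} (hi : (i : F) * i = -1) : R.π (dg i) ≠ 1 := by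
  intro h
  rcases (R.ker _).1 h with h1 | h1
  · have h3 := dg_sq hi
    rw [h1, one_mul] at h3
    exact R.neg_one_ne_one h3.symm
  · have h3 := dg_sq hi
    rw [h1, neg_mul_neg, one_mul] at h3
    exact R.neg_one_ne_one h3.symm

/-- elements of odd order commuting with the involution `π (dg i)` -/
theorem exists_dg {i : Fˣ} (hi : (i : F) * i = -1) {y : L} (hy : y * R.π (dg i) = R.π (dg i) * y) {r : ℕ}
    (hr : Odd r) (hyr : y ^ r = 1) : ∃ a : Fˣ, y = R.π (dg a) := by
  obtain ⟨x, rfl⟩ := R.surj y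
  rw [← map_mul, ← map_mul, R.π_eq_iff] at hy
  rcases of_comm R.two hi hy with ⟨a, rfl⟩ | h
  · exact ⟨a, rfl⟩
  · have h1 : R.π x * R.π x = 1 := by
      rw [← map_mul, h, R.ker]
      exact Or.inr rfl
    obtain ⟨k, rfl⟩ := hr
    rw [pow_succ, pow_mul, pow_two, h1, one_pow, one_mul] at hyr
    exact ⟨1, by rw [dg_one, map_one, hyr]⟩

theorem pi_dg_comm (a b : Fˣ) : R.π (dg a) * R.π (dg b) = R.π (dg b) * R.π (dg a) := by
  rw [← map_mul, ← map_mul, dg_mul, dg_mul, mul_comm]

/-- an element of `GL₂` fixing a diagonal element of odd order is diagonal -/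
theorem diag_of_fix [Finite F] {z : Fˣ} {r : ℕ} (hr : Odd r) (hzr : z ^ r = 1) (hz : z ≠ 1) {g : GL (Fin 2) F}
    (hg : R.gl g (R.π (dg z)) = R.π (dg z)) : g.1 0 1 = 0 ∧ g.1 1 0 = 0 := by
  rw [R.gl_apply, R.π_eq_iff] at hg
  have hx : dg z ^ r = 1 := by rw [dg_pow, hzr, dg_one]
  rcases hg with hg | hg
  · have h1 := of_conjGL_eq hg
    have hz2 : (z : F) - ((z⁻¹ : Fˣ) : F) ≠ 0 := by
      intro h3
      apply hz
      have h4 : z = z⁻¹ := Units.ext (sub_eq_zero.1 h3)
      have h5 : z * z = 1 := by nth_rw 2 [h4]; exact mul_inv_cancel z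
      obtain ⟨k, rfl⟩ := hr
      rw [pow_succ, pow_mul, pow_two, h5, one_pow, one_mul] at hzr
      exact hzr
    have e01 := congrArg (fun x : Matrix (Fin 2) (Fin 2) F => x 0 1) h1
    have e10 := congrArg (fun x : Matrix (Fin 2) (Fin 2) F => x 1 0) h1
    simp only [mat_mul] at e01 e10
    have d00 : (dg z : SL2).1 0 0 = (z : F) := rfl
    have d01 : (dg z : SL2).1 0 1 = 0 := rfl
    have d10 : (dg z : SL2).1 1 0 = 0 := rfl
    have d11 : (dg z : SL2).1 1 1 = ((z⁻¹ : Fˣ) : F) := rfl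
    rw [d00, d01, d11] at e01
    rw [d00, d10, d11] at e10
    constructor
    · have h3 : g.1 0 1 * ((z : F) - ((z⁻¹ : Fˣ) : F)) = 0 := by linear_combination -e01
      exact (mul_eq_zero.1 h3).resolve_right hz2
    · have h3 : g.1 1 0 * ((z : F) - ((z⁻¹ : Fˣ) : F)) = 0 := by linear_combination e10
      exact (mul_eq_zero.1 h3).resolve_right hz2
  · exfalso
    have h1 : (-(dg z)) ^ r = (1 : SL2) := by rw [← hg, ← map_pow, hx, map_one]
    rw [Odd.neg_pow hr, hx] at h1
    exact R.neg_one_ne_one h1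

/-- two involutory linear automorphisms fixing the same diagonal element are equal -/
theorem eq_of_fix [Finite F] {z : Fˣ} {r : ℕ} (hr : Odd r) (hzr : z ^ r = 1) (hz : z ≠ 1) {α β : MulAut L}
    (hα : α ∈ R.PGL) (hβ : β ∈ R.PGL) (hα2 : α * α = 1) (hβ2 : β * β = 1) (hα1 : α ≠ 1) (hβ1 : β ≠ 1)
    (hαz : α (R.π (dg z)) = R.π (dg z)) (hβz : β (R.π (dg z)) = R.π (dg z)) : α = β := by
  obtain ⟨g, rfl⟩ := R.mem_PGL.1 hα
  obtain ⟨k, rfl⟩ := R.mem_PGL.1 hβ
  have key : ∀ g : GL (Fin 2) F, R.gl g * R.gl g = 1 → R.gl g ≠ 1 → R.gl g (R.π (dg z)) = R.π (dg z) →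
      g.1 0 1 = 0 ∧ g.1 1 0 = 0 ∧ g.1 1 1 = -g.1 0 0 := by
    intro g h2 h1 hf
    obtain ⟨h01, h10⟩ := diag_of_fix R hr hzr hz hf
    refine ⟨h01, h10, ?_⟩
    rw [← map_mul, R.gl_eq_one_iff] at h2
    obtain ⟨c, hc⟩ := h2
    have hc' : g.1 * g.1 = c • (1 : Matrix (Fin 2) (Fin 2) F) := hc
    have e00 := congrArg (fun x : Matrix (Fin 2) (Fin 2) F => x 0 0) hc'
    have e11 := congrArg (fun x : Matrix (Fin 2) (Fin 2) F => x 1 1) hc'
    simp only [mat_mul, h01, h10, Matrix.smul_apply, Matrix.one_apply_eq, smul_eq_mul, mul_one, mul_zero,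
      zero_mul, add_zero, zero_add] at e00 e11
    have h3 : (g.1 1 1 - g.1 0 0) * (g.1 1 1 + g.1 0 0) = 0 := by linear_combination e11 - e00
    rcases mul_eq_zero.1 h3 with h4 | h4
    · exfalso
      apply h1
      rw [R.gl_eq_one_iff]
      refine ⟨g.1 0 0, mat_ext ?_ ?_ ?_ ?_⟩
      · simp
      · simp [h01]
      · simp [h10]
      · simp [sub_eq_zero.1 h4]
    · linear_combination h4
  obtain ⟨a01, a10, a11⟩ := key g hα2 hα1 hαz
  obtain ⟨b01, b10, b11⟩ := key k hβ2 hβ1 hβz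
  have h1 : R.gl g * R.gl k = 1 := by
    rw [← map_mul, R.gl_eq_one_iff]
    refine ⟨g.1 0 0 * k.1 0 0, ?_⟩
    change g.1 * k.1 = _
    refine mat_ext ?_ ?_ ?_ ?_
    · simp [mat_mul, a01]
    · simp [mat_mul, a01, b01]
    · simp [mat_mul, a10, b10]
    · simp [mat_mul, a10, a11, b11]
  calc R.gl g = R.gl g * (R.gl k * R.gl k) := by rw [hβ2, mul_one]
    _ = R.gl k := by rw [← mul_assoc, h1, one_mul]

/-- elementary abelian groups of automorphisms fixing a diagonal element of odd order -/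
theorem card_le_four [Finite F] [Finite L] {z : Fˣ} {r : ℕ} (hr : Odd r) (hzr : z ^ r = 1) (hz : z ≠ 1)
    (A : Subgroup (MulAut L)) (hA : ∀ α ∈ A, α * α = 1) (hf : ∀ α ∈ A, α (R.π (dg z)) = R.π (dg z)) :
    Nat.card A ≤ 4 := by
  have : Finite (MulAut L) := Finite.of_injective (fun f : MulAut L => (f : L → L)) DFunLike.coe_injective
  let φ : A →* (F ≃+* F) := R.fld.comp A.subtype
  have h1 : Nat.card φ.ker ≤ 2 := by
    refine card_le_two fun x y hx hy => ?_
    have hx1 : ((x : A) : MulAut L) ≠ 1 := fun h => hx (Subtype.ext (Subtype.ext h))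
    have hy1 : ((y : A) : MulAut L) ≠ 1 := fun h => hy (Subtype.ext (Subtype.ext h))
    have hxP : ((x : A) : MulAut L) ∈ R.PGL := R.mem_PGL_iff_fld.2 (MonoidHom.mem_ker.1 x.2)
    have hyP : ((y : A) : MulAut L) ∈ R.PGL := R.mem_PGL_iff_fld.2 (MonoidHom.mem_ker.1 y.2)
    exact Subtype.ext (Subtype.ext (eq_of_fix R hr hzr hz hxP hyP (hA _ x.1.2) (hA _ y.1.2) hx1 hy1
      (hf _ x.1.2) (hf _ y.1.2)))
  have h2 : Nat.card φ.range ≤ 2 := by
    refine card_le_two fun x y hx hy => ?_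
    obtain ⟨x, a, rfl⟩ := x
    obtain ⟨y, b, rfl⟩ := y
    have hx1 : φ a ≠ 1 := fun h => hx (Subtype.ext h)
    have hy1 : φ b ≠ 1 := fun h => hy (Subtype.ext h)
    have hsq : ∀ a : A, φ a * φ a = 1 := fun a => by
      rw [← map_mul]
      have : a * a = 1 := Subtype.ext (hA a a.2)
      rw [this, map_one]
    exact Subtype.ext (TwoF.RkPSL.field_inv_unique (hsq a) (hsq b) hx1 hy1)
  have h3 : Nat.card φ.ker * Nat.card φ.range = Nat.card A := by
    rw [← Subgroup.index_ker]
    exact Subgroup.card_mul_index _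
  calc Nat.card A = Nat.card φ.ker * Nat.card φ.range := h3.symm
    _ ≤ 2 * 2 := Nat.mul_le_mul h1 h2

/-- conjugate of a representation -/
noncomputable def conjRep (g : L) : GH.L2Aut.Rep F L where
  π := (MulAut.conj g).toMonoidHom.comp R.π
  surj := (MulAut.conj g).surjective.comp R.surj
  two := R.two
  ker x := by
    rw [← R.ker]
    exact (MulAut.conj g).map_eq_one_iff

end rep

/-- **the group-theoretic core**: `S ≅ PSL₂(F)`, `-1` a square, `r` an odd divisor of `|F| - 1` -/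
theorem card_le_four_of {X : Type*} [Group X] [Finite X] {S T A : Subgroup X} (h : AS S T A) {F : Type*} [Field F]
    [Finite F] (R : GH.L2Aut.Rep F S) {i : Fˣ} (hi : (i : F) * i = -1) {z : Fˣ} {r : ℕ} (hr : Odd r) (hzr : z ^ r = 1)
    (hz : z ≠ 1) : Nat.card A ≤ 4 := by
  have hS := h.norm
  have : Fact (Nat.Prime 2) := ⟨Nat.prime_two⟩
  -- an involution of `S` central in `T`
  have hTS : (T ⊓ S : Subgroup X) ≠ ⊥ := by
    intro h0
    have h1 := SignalizersComponents.PCompCore.relIndex_dvd_index_of_normal_right T S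
    rw [← inf_relIndex_right, h0, relIndex_bot_left] at h1
    apply h.syl
    refine dvd_trans ?_ h1
    have h2 : orderOf (R.π (dg i)) = 2 :=
      orderOf_eq_prime (by rw [pow_two]; exact pi_dg_sq R hi) (pi_dg_ne R hi)
    rw [← h2]
    exact orderOf_dvd_natCard _
  have hn : ((T ⊓ S).subgroupOf T).Normal := by
    rw [inf_subgroupOf_left]
    exact hS.subgroupOf T
  have hne : (T ⊓ S).subgroupOf T ≠ ⊥ := by
    intro h0
    apply hTS
    rw [← map_subgroupOf_eq_of_le (inf_le_left : T ⊓ S ≤ T), h0, Subgroup.map_bot]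
  obtain ⟨t', ht'⟩ : ∃ t' : X, t' ∈ T ⊓ S ∧ (∀ x ∈ T, x * t' = t' * x) ∧ t' ≠ 1 := by
    obtain ⟨v, hv1, hv2, hv3⟩ := GTwoFour.Tools.exists_mem_center_of_normal h.two _ hne
    refine ⟨v, hv1, fun x hx => ?_, fun h0 => hv3 (Subtype.ext h0)⟩
    exact congrArg Subtype.val (mem_center_iff.1 hv2 ⟨x, hx⟩)
  obtain ⟨ht1, ht2, ht3⟩ := ht'
  obtain ⟨t, htT, htS, htc, htt, ht1'⟩ : ∃ t : X, t ∈ T ∧ t ∈ S ∧ (∀ x ∈ T, x * t = t * x) ∧ t * t = 1 ∧ t ≠ 1 := by
    obtain ⟨k, hk⟩ := h.two ⟨t', ht1.1⟩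
    have hk' : t' ^ 2 ^ k = 1 := congrArg Subtype.val hk
    have hord : 2 ∣ orderOf t' := by
      obtain ⟨j, -, hj⟩ := (Nat.dvd_prime_pow Nat.prime_two).1 (orderOf_dvd_of_pow_eq_one hk')
      rcases Nat.eq_zero_or_pos j with rfl | hj0
      · rw [pow_zero, orderOf_eq_one_iff] at hj
        exact absurd hj ht3
      · rw [hj]; exact dvd_pow_self 2 hj0.ne'
    obtain ⟨m, hm⟩ := hord
    have hpos : 0 < orderOf t' := orderOf_pos t'
    refine ⟨t' ^ m, pow_mem ht1.1 m, pow_mem ht1.2 m, fun x hx => ?_, ?_, ?_⟩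
    · exact (show Commute x t' from ht2 x hx).pow_right m
    · rw [← pow_add, ← two_mul, ← hm, pow_orderOf_eq_one]
    · intro h0
      have := Nat.le_of_dvd (by omega) (orderOf_dvd_of_pow_eq_one h0)
      omega
  -- a representation with `t = π (dg i)`
  obtain ⟨g, hg⟩ := R.inv_conj (pi_dg_sq R hi) (pi_dg_ne R hi) (t := (⟨t, htS⟩ : S))
    (Subtype.ext htt) (fun h0 => ht1' (congrArg Subtype.val h0))
  let R' : GH.L2Aut.Rep F S := conjRep R g
  have hRt : R'.π (dg i) = (⟨t, htS⟩ : S) := by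
    change g * R.π (dg i) * g⁻¹ = _
    exact hg
  -- `R₁ = C_X(t)`
  have hTR : T ≤ centralizer ({t} : Set X) := fun x hx => mem_centralizer_singleton_iff.2 (htc x hx)
  have hRne : centralizer ({t} : Set X) ≠ ⊤ := by
    intro h0
    apply ht1'
    have h1 : t ∈ centralizer (S : Set X) := by
      rw [mem_centralizer_iff]
      intro y _
      have : y ∈ centralizer ({t} : Set X) := by rw [h0]; exact mem_top y
      exact mem_centralizer_singleton_iff.1 this
    rwa [h.cen, mem_bot] at h1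
  have hAR := h.low _ hTR hRne
  set Q := o2 (centralizer ({t} : Set X)) with hQ
  set c : S := R'.π (dg z) with hc
  have hct : (c : X) * t = t * c := by
    have h1 := pi_dg_comm R' z i
    rw [hRt] at h1
    exact congrArg Subtype.val h1
  have hcR : (c : X) ∈ centralizer ({t} : Set X) := mem_centralizer_singleton_iff.2 hct
  have hcr : c ^ r = 1 := by rw [hc, ← map_pow, dg_pow, hzr, dg_one, map_one]
  -- `A` centralises `c`
  have hAc : ∀ a ∈ A, a * (c : X) * a⁻¹ = c := by
    intro a ha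
    have haQ : a ∈ Q := hAR ha
    have haR : a ∈ centralizer ({t} : Set X) := o2_le _ haQ
    let k : S := ⟨a * (c : X) * a⁻¹, hS.conj_mem _ c.2 a⟩
    have hkt : k * R'.π (dg i) = R'.π (dg i) * k := by
      rw [hRt]
      apply Subtype.ext
      change a * (c : X) * a⁻¹ * t = t * (a * (c : X) * a⁻¹)
      have h1 : a * t = t * a := mem_centralizer_singleton_iff.1 haR
      have h2 : a⁻¹ * t = t * a⁻¹ := by
        rw [inv_mul_eq_iff_eq_mul, ← mul_assoc, h1, mul_inv_cancel_right]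
      calc a * (c : X) * a⁻¹ * t = a * (c : X) * (a⁻¹ * t) := by group
        _ = a * ((c : X) * t) * a⁻¹ := by rw [h2]; group
        _ = a * t * (c : X) * a⁻¹ := by rw [hct]; group
        _ = t * (a * (c : X) * a⁻¹) := by rw [h1]; group
    have hkr : k ^ r = 1 := by
      apply Subtype.ext
      change (a * (c : X) * a⁻¹) ^ r = 1
      rw [conj_pow]
      have : (c : X) ^ r = 1 := congrArg Subtype.val hcr
      rw [this, mul_one, mul_inv_cancel]
    obtain ⟨μ, hμ⟩ := exists_dg R' hi hkt hr hkr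
    have hkc : Commute k c := by
      rw [hμ]
      exact pi_dg_comm R' μ z
    have h1 : (k * c⁻¹) ^ r = 1 := by
      rw [(hkc.inv_right).mul_pow, hkr, inv_pow, hcr, inv_one, one_mul]
    have h2 : ((k * c⁻¹ : S) : X) ∈ Q := by
      have h3 : ((k * c⁻¹ : S) : X) = a * ((c : X) * a⁻¹ * (c : X)⁻¹) := by
        change a * (c : X) * a⁻¹ * (c : X)⁻¹ = _
        group
      rw [h3]
      exact mul_mem haQ ((mem_normalizer_iff.1 (le_normalizer_o2 _ hcR) _).1 (inv_mem haQ))
    obtain ⟨m, hm⟩ := o2_isPGroup (centralizer ({t} : Set X)) ⟨_, h2⟩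
    have hm' : ((k * c⁻¹ : S) : X) ^ 2 ^ m = 1 := congrArg Subtype.val hm
    have h4 : ((k * c⁻¹ : S) : X) ^ r = 1 := congrArg Subtype.val h1
    have h5 : orderOf ((k * c⁻¹ : S) : X) ∣ Nat.gcd (2 ^ m) r :=
      Nat.dvd_gcd (orderOf_dvd_of_pow_eq_one hm') (orderOf_dvd_of_pow_eq_one h4)
    have h6 : Nat.gcd (2 ^ m) r = 1 := by
      apply Nat.Coprime.pow_left
      rw [Nat.coprime_two_left]
      exact hr
    rw [h6, Nat.dvd_one, orderOf_eq_one_iff] at h5
    have h7 : a * (c : X) * a⁻¹ * (c : X)⁻¹ = 1 := h5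
    rwa [mul_inv_eq_one] at h7
  -- the action on `S`
  let f : X →* MulAut S := MulAut.conjNormal
  have hfi : Function.Injective f := by
    rw [injective_iff_map_eq_one]
    intro x hx
    have h2 : x ∈ centralizer (S : Set X) := by
      rw [mem_centralizer_iff]
      intro y hy
      have h3 := congrArg (fun φ : MulAut S => ((φ ⟨y, hy⟩ : S) : X)) hx
      have h4 : x * y * x⁻¹ = y := h3
      calc y * x = (x * y * x⁻¹) * x := by rw [h4]
        _ = x * y := by group
    rw [h.cen, mem_bot] at h2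
    exact h2
  rw [← card_map_of_injective hfi]
  refine card_le_four R' hr hzr hz (A.map f) ?_ ?_
  · rintro _ ⟨x, hx, rfl⟩
    rw [← map_mul, h.el x hx, map_one]
  · rintro _ ⟨x, hx, rfl⟩
    exact Subtype.ext (hAc x hx)

/-- an odd prime divisor of `q² - 1` -/
theorem exists_odd_prime {q : ℕ} (hq : 1 < q) (h3 : q ≠ 3) (hodd : Odd q) :
    ∃ r : ℕ, r.Prime ∧ Odd r ∧ r ∣ q ^ 2 - 1 := by
  by_contra hcon
  push Not at hcon
  have h1 : ∀ p : ℕ, p.Prime → p ∣ q ^ 2 - 1 → p = 2 := by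
    intro p hp hd
    by_contra hne
    exact hcon p hp (hp.odd_of_ne_two hne) hd
  have h0 : q ^ 2 - 1 = (q - 1) * (q + 1) := by
    obtain ⟨k, rfl⟩ : ∃ k, q = k + 1 := ⟨q - 1, by omega⟩
    have : (k + 1) ^ 2 = k * (k + 1 + 1) + 1 := by ring
    rw [this, Nat.add_sub_cancel, Nat.add_sub_cancel]
  have key : ∀ n : ℕ, n ≠ 0 → n ∣ q ^ 2 - 1 → ∃ a, n = 2 ^ a := fun n hn hd =>
    ⟨_, Nat.eq_prime_pow_of_unique_prime_dvd hn fun {d} hdp hdn => h1 d hdp (hdn.trans hd)⟩
  obtain ⟨a, ha⟩ := key (q - 1) (by omega) (by rw [h0]; exact Dvd.intro _ rfl)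
  obtain ⟨b, hb⟩ := key (q + 1) (by omega) (by rw [h0]; exact Dvd.intro_left _ rfl)
  have hab : 2 ^ b = 2 ^ a + 2 := by omega
  obtain ⟨m, hm⟩ := hodd
  rcases Nat.lt_or_ge a 2 with h4 | h4
  · interval_cases a <;> omega
  · obtain ⟨a', rfl⟩ := Nat.exists_eq_add_of_le h4
    rcases Nat.lt_or_ge b 2 with h5 | h5
    · have h6 : 2 ^ b ≤ 2 := by interval_cases b <;> norm_num
      have h7 : 0 < 2 ^ (2 + a') := by positivity
      omega
    · obtain ⟨b', rfl⟩ := Nat.exists_eq_add_of_le h5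
      rw [pow_add, pow_add] at hab
      omega

/-- **the row `PSL₂(q)`, `q` odd, `q ≠ 9`** -/
theorem deadG : DeadG fun S _ => ∃ (F : Type) (_ : Field F) (_ : Fintype F), Odd (Fintype.card F) ∧
    3 < Fintype.card F ∧ Fintype.card F ≠ 9 ∧ Nonempty (S ≃* Matrix.ProjectiveSpecialLinearGroup (Fin 2) F) := by
  rintro X _ _ S T A h ⟨F, _, _, hodd, h3, h9, ⟨e⟩⟩
  have hS := h.norm
  have h2 : (2 : F) ≠ 0 := two_ne_zero_of_odd hodd
  by_cases hF : ∀ σ : F ≃+* F, σ * σ = 1 → σ = 1
  · exact (TwoF.RkPSL.rkAut_two_odd h2 hF).of_normal e h.cen A h.el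
  · push Not at hF
    obtain ⟨σ, hσ, hσ1⟩ := hF
    have hs : ∀ x, σ (σ x) = x := fun x => DFunLike.congr_fun hσ x
    have hcard := HKS.PGammaInv.card_sq h2 hs hσ1
    set q := Nat.card (HKS.PGammaInv.fixF σ) with hq
    have hqodd : Odd q := by
      by_contra hcon
      rw [Nat.not_odd_iff_even] at hcon
      rw [hcard] at hodd
      exact (Nat.not_even_iff_odd.2 hodd) (Nat.even_pow.2 ⟨hcon, two_ne_zero⟩)
    have hq1 : 1 < q := by
      by_contra hcon
      have h5 : q ≤ 1 := by omega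
      have h6 : q ^ 2 ≤ 1 := by
        calc q ^ 2 ≤ 1 ^ 2 := Nat.pow_le_pow_left h5 2
          _ = 1 := one_pow 2
      omega
    have hq3 : q ≠ 3 := by
      intro h0
      rw [h0] at hcard
      exact h9 hcard
    obtain ⟨r, hr, hro, hrd⟩ := exists_odd_prime hq1 hq3 hqodd
    have hu : Nat.card Fˣ = Fintype.card F - 1 := by
      rw [Nat.card_units, Nat.card_eq_fintype_card]
    -- an element of order `r`
    have : Fact r.Prime := ⟨hr⟩
    obtain ⟨z, hz⟩ := exists_prime_orderOf_dvd_card' (G := Fˣ) r (by rw [hu, hcard]; exact hrd)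
    have hz1 : z ≠ 1 := by
      rintro rfl
      rw [orderOf_one] at hz
      exact hr.one_lt.ne hz
    have hzr : z ^ r = 1 := by rw [← hz, pow_orderOf_eq_one]
    -- a square root of `-1`
    obtain ⟨i, hi⟩ : ∃ i : Fˣ, (i : F) * i = -1 := by
      have h4 : Fintype.card F % 4 ≠ 3 := by
        obtain ⟨m, hm⟩ := hqodd
        rw [hcard, hm]
        have : (2 * m + 1) ^ 2 = 4 * (m * m + m) + 1 := by ring
        omega
      obtain ⟨i, hi⟩ := FiniteField.isSquare_neg_one_iff.2 h4
      have hi0 : i ≠ 0 := by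
        rintro rfl
        rw [mul_zero, neg_eq_zero] at hi
        exact one_ne_zero hi
      exact ⟨Units.mk0 i hi0, hi.symm⟩
    exact card_le_four_of h (GH.L2Aut.Rep.ofEquiv h2 e) hi hro hzr hz1

end Cfsg.Agent.Omega.ML.RowLTwoOdd

end
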