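import Cfsg.Agent.Mrg.Omega.ML.LocM24
import Cfsg.Agent.Mrg.Omega.ML.InOf
import Cfsg.Agent.Mrg.Omega.Quasithin.Row.E27
import Cfsg.Agent.Omega.Lie.CenTwo
import Cfsg.Agent.Fischer.Fi22Order
import Cfsg.Agent.OddHalf.D8.Fi22.SylAut
import Cfsg.Agent.KFacts.FiTT.Final
import Cfsg.Agent.Mrg.Omega.ML.AltDead
import Cfsg.Agent.Mrg.Omega.ML.RowsList
import Cfsg.Agent.Mrg.Omega.Lie.Cen.Fi22
import Cfsg.Agent.Mrg.Omega.NOThree.NoOver
import Cfsg.Agent.Omega.Lie.HeisCover
import Cfsg.Agent.KFacts.FiTF.OrbSys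
import Cfsg.Agent.OddHalf.D7Out.CzComp
import Cfsg.Agent.Lib.ElemAbGL
import Cfsg.Agent.OddHalf.D8.SheetMap
import Cfsg.Agent.KFacts.FiTF.SheetF
import Cfsg.Agent.KFacts.FiTF.QuasiBInst
import Cfsg.Agent.KFacts.FiTF.SubOrb

section


/-!
# (ML), the K-list end: the row `Fi22` (helper178)

* `card_le_of` : in the situation `AS S T A`: `|A| ≤ n |X : S|` if the normal 2-subgroups of `C_S(z)` have order at
  most `n`, `⟨z⟩ = Z(S₀)`, `S₀` a Sylow 2-subgroup of `S`;
* `false_of_card` : the numerical criterion with a bound `|A| ≤ 2 ^ a`;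
* `dead` : the row `Fi22` (`|A| ≤ 2 ^ 12`, `|M| ≥ 2 ^ 54`).
-/

set_option autoImplicit false

namespace Cfsg.Agent.Omega.ML.RowFi22

open Subgroup Cfsg Cfsg.Agent.ZN Cfsg.Agent.Omega.ML.Rows Cfsg.Agent.Omega.TwoF Cfsg.Agent.Omega.Lie
open Cfsg.Agent.MinSimple.VModule (o2_isPGroup o2_le le_o2 le_normalizer_o2)

universe u v w

/-! ### The bound -/

/-- **`|A| ≤ n |X : S|`.** -/
theorem card_le_of {X : Type u} [Group X] [Finite X] {S T A : Subgroup X} (h : AS S T A) {z : S} (hz1 : z ≠ 1)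
    (hz : ∃ S₀ : Sylow 2 S, z ∈ S₀ ∧ (∀ x ∈ S₀, x * z = z * x) ∧ ∀ y ∈ S₀, (∀ x ∈ S₀, x * y = y * x) → y = 1 ∨ y = z)
    {n : ℕ} (hD : ∀ D : Subgroup S, (∀ y ∈ D, y * z = z * y) →
      (∀ x : S, x * z = z * x → ∀ y ∈ D, x * y * x⁻¹ ∈ D) → IsPGroup 2 D → Nat.card D ≤ n) :
    Nat.card A ≤ n * S.index := by
  have hS := h.norm
  obtain ⟨g, hg⟩ := ShE.exists_conj hS h.two h.syl hz
  have hne : centralizer ({((g : X) * z * (g : X)⁻¹)} : Set X) ≠ ⊤ := by
    intro h1
    have h2 : (z : X) ∈ centralizer (S : Set X) := by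
      rw [mem_centralizer_iff]
      intro y _
      have h3 : (g * y * (g : X)⁻¹) * (g * z * (g : X)⁻¹) = (g * z * (g : X)⁻¹) * (g * y * (g : X)⁻¹) :=
        mem_centralizer_singleton_iff.1 (h1 ▸ mem_top _)
      calc y * (z : X) = (g : X)⁻¹ * ((g * y * (g : X)⁻¹) * (g * z * (g : X)⁻¹)) * g := by group
        _ = (g : X)⁻¹ * ((g * z * (g : X)⁻¹) * (g * y * (g : X)⁻¹)) * g := by rw [h3]
        _ = z * y := by group
    rw [h.cen, mem_bot] at h2
    exact hz1 (Subtype.ext h2)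
  have hle := h.low _ hg hne
  set C := centralizer ({((g : X) * z * (g : X)⁻¹)} : Set X) with hC
  let f : S →* X := (MulAut.conj (g : X)).toMonoidHom.comp S.subtype
  have hf : Function.Injective f := (MulAut.conj (g : X)).injective.comp S.subtype_injective
  have hfx : ∀ x : S, f x = g * x * (g : X)⁻¹ := fun x => rfl
  set D : Subgroup S := (o2 C).comap f with hDd
  have h1 : Nat.card D ≤ n := by
    apply hD
    · intro y hy
      have h2 : f y ∈ C := o2_le _ hy
      rw [hC, mem_centralizer_singleton_iff] at h2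
      apply hf
      rw [map_mul, map_mul]
      exact h2
    · intro x hx y hy
      have h2 : f x ∈ C := by
        rw [hC, mem_centralizer_singleton_iff]
        have h3 := congrArg f hx
        rw [map_mul, map_mul] at h3
        exact h3
      show f (x * y * x⁻¹) ∈ o2 C
      rw [map_mul, map_mul, map_inv]
      exact (mem_normalizer_iff.1 (le_normalizer_o2 _ h2) (f y)).1 hy
    · exact (o2_isPGroup C).comap_of_injective f hf
  have h2 : Nat.card (S ⊓ A : Subgroup X) ≤ n := by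
    refine le_trans ?_ h1
    rw [← card_map_of_injective (K := D) hf]
    refine card_le_of_le ?_
    rintro a ⟨haS, haA⟩
    refine ⟨g⁻¹ * ⟨a, haS⟩ * g, ?_, ?_⟩
    · show f (g⁻¹ * ⟨a, haS⟩ * g) ∈ o2 C
      have h3 : f (g⁻¹ * ⟨a, haS⟩ * g) = a := by
        rw [hfx]
        simp only [Subgroup.coe_mul, Subgroup.coe_inv]
        group
      rw [h3]
      exact hle haA
    · rw [hfx]
      simp only [Subgroup.coe_mul, Subgroup.coe_inv]
      group
  have h3 : S.relIndex A ≤ S.index := by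
    have h4 : S.relIndex A ≤ S.relIndex ⊤ :=
      relIndex_le_of_le_right le_top (by rw [relIndex_top_right]; exact index_ne_zero_of_finite)
    rwa [relIndex_top_right] at h4
  have h4 : S.relIndex A * Nat.card (S ⊓ A : Subgroup X) = Nat.card A := by
    have h5 := relIndex_mul_relIndex ⊥ (S ⊓ A) A bot_le inf_le_right
    rw [relIndex_bot_left, relIndex_bot_left, inf_relIndex_right, mul_comm] at h5
    exact h5
  rw [← h4, mul_comm]
  exact Nat.mul_le_mul h2 h3

/-- **The numerical criterion with a given bound for `|A|`.** -/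
theorem false_of_card {H : Type u} [Group H] [Finite H] {M : Type v} [Group M] [Finite M] [MulDistribMulAction H M]
    {K T A : Subgroup H} (h : In H M K T A) {n a b : ℕ} (hA : Nat.card A ≤ 2 ^ a)
    (hl : Heis.LB.{u, u, v} (K ⧸ center K) n) (ho : Num.OutB.{u} (K ⧸ center K) b)
    (hn : Nat.card (K ⧸ center K) ^ (a - 1) * 2 ^ ((a - 1) * (a - 1 + b)) < 2 ^ (a * n)) : False := by
  obtain ⟨a', ha'⟩ := IsPGroup.iff_card.1 (Num.isPGroup_A h)
  have h1 : a' ≤ a := by
    rwa [ha', Nat.pow_le_pow_iff_right (by norm_num)] at hA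
  have h2 : 1 ≤ a' := by
    rcases Nat.eq_zero_or_pos a' with h3 | h3
    · subst h3
      have := h.eight
      rw [ha'] at this
      norm_num at this
    · exact h3
  have hp : IsPGroup 2 M := fun m => ⟨1, by rw [pow_one, pow_two]; exact h.sq m⟩
  have h3 := Glob.over_off Nat.prime_two hp h.faith h.irr ha' (Num.overOff h)
  have h4 := Num.card_H_le h ha' ho
  have h5 := Num.lb_le h hl
  have hs : 1 ≤ Nat.card (K ⧸ center K) := Nat.card_pos
  refine Num.num hs h2 h1 (n := n) (b := b) ?_ hn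
  rw [pow_mul]
  exact (Nat.pow_le_pow_left h5 _).trans (h3.trans (Nat.pow_le_pow_left h4 _))

/-! ### `Fi22` -/

/-- if the product of two elements outside `I` lies in `I` then `|A : I| ≤ 2` -/
theorem index_le_two {B : Type*} [Group B] (I : Subgroup B) (h : ∀ a b : B, a ∉ I → b ∉ I → a * b ∈ I) :
    I.index ≤ 2 := by
  by_cases hI : I = ⊤
  · rw [hI, index_top]
    norm_num
  · obtain ⟨a, ha⟩ : ∃ a, a ∉ I := by
      by_contra hcon
      push Not at hcon
      exact hI (eq_top_iff.2 fun x _ => hcon x)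
    have h2 : I.index = 2 := by
      rw [index_eq_two_iff]
      refine ⟨a, fun b => ?_⟩
      by_cases hb : b ∈ I
      · exact Or.inr ⟨hb, fun h3 => ha ((I.mul_mem_cancel_left hb).1 h3)⟩
      · exact Or.inl ⟨h b a hb ha, hb⟩
    rw [h2]

theorem isFi22 : Cfsg.IsFi22 Spor.Fi22 :=
  ⟨Cfsg.Agent.Fischer.Fi22Order.isSimple, Cfsg.Agent.Fischer.Fi22Order.card_fi22⟩

/-- `|Out(Fi22)| ≤ 2` -/
theorem index_le {X : Type u} [Group X] (N : Subgroup X) [N.Normal] (e : N ≃* Spor.Fi22)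
    (hc : centralizer (N : Set X) = ⊥) : N.index ≤ 2 := by
  have key : ∀ a : X, ∀ n : N, (MulAut.conjNormal a : MulAut N) = MulAut.conj n → a = n := by
    intro a n han
    have h1 : (n : X)⁻¹ * a ∈ centralizer (N : Set X) := by
      rw [mem_centralizer_iff]
      intro y hy
      have h2 : a * y * a⁻¹ = (n : X) * y * (n : X)⁻¹ := by
        have h3 := congrArg (fun β : MulAut N => ((β ⟨y, hy⟩ : N) : X)) han
        exact (MulAut.conjNormal_apply a (⟨y, hy⟩ : N)).symm.trans h3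
      calc y * ((n : X)⁻¹ * a) = (n : X)⁻¹ * (n * y * (n : X)⁻¹) * a := by group
        _ = (n : X)⁻¹ * (a * y * a⁻¹) * a := by rw [h2]
        _ = (n : X)⁻¹ * a * y := by group
    rw [hc, mem_bot, inv_mul_eq_one] at h1
    exact h1.symm
  refine index_le_two N fun a b ha hb => ?_
  obtain ⟨n, hn⟩ := Cfsg.Agent.OddHalf.D8.Fi22.SylAut.mul_outer' e (MulAut.conjNormal a) (MulAut.conjNormal b)
    (fun x hx => ha (by rw [key a x hx]; exact x.2)) (fun x hx => hb (by rw [key b x hx]; exact x.2))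
  rw [← map_mul] at hn
  rw [key _ n hn]
  exact n.2

theorem outB {S : Type w} [Group S] (e : S ≃* Spor.Fi22) : Num.OutB.{u} S 1 := by
  rintro X _ _ N hN ⟨f⟩ hc A - -
  exact index_le N (f.trans e) hc

/-- the normal 2-subgroups of `C(z)` have order at most `2 ^ 11` -/
theorem card_D {S : Type u} [Group S] [Finite S] {d d' : S} {R : Subgroup S} (F : KFacts.FiTT.Facts S d d' R)
    (D : Subgroup S) (h1 : ∀ y ∈ D, y * (d * d') = d * d' * y)
    (h2 : ∀ x : S, x * (d * d') = d * d' * x → ∀ y ∈ D, x * y * x⁻¹ ∈ D) (h3 : IsPGroup 2 D) :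
    Nat.card D ≤ 2 ^ 11 := by
  set P := centralizer ({d, d'} : Set S) with hP
  have mem_P : ∀ {x : S}, x ∈ P ↔ x * d = d * x ∧ x * d' = d' * x := by
    intro x
    rw [hP, mem_centralizer_iff]
    constructor
    · intro h
      exact ⟨(h d (by simp)).symm, (h d' (by simp)).symm⟩
    · rintro ⟨h1, h2⟩ y hy
      rcases hy with rfl | hy
      · exact h1.symm
      · rw [Set.mem_singleton_iff.1 hy]
        exact h2.symm
  have h4 : D ⊓ P ≤ R := by
    apply F.O2 _ inf_le_right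
    · intro g hg hg' x hx
      have hgP : g ∈ P := mem_P.2 ⟨hg, hg'⟩
      refine ⟨h2 g ?_ x hx.1, P.mul_mem (P.mul_mem hgP hx.2) (P.inv_mem hgP)⟩
      calc g * (d * d') = (g * d) * d' := by group
        _ = d * (g * d') := by rw [hg]; group
        _ = d * d' * g := by rw [hg']; group
    · exact h3.to_le inf_le_left
  have h5 : Nat.card (D ⊓ P : Subgroup S) ≤ 2 ^ 10 := by
    rw [← F.R_card]
    exact card_le_of_le h4
  have h6 : P.relIndex D ≤ 2 := by
    apply index_le_two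
    intro a b ha hb
    rw [mem_subgroupOf] at ha hb ⊢
    have ha' := (F.cz a (h1 a a.2)).resolve_left fun h => ha (mem_P.2 h)
    have hb' := (F.cz b (h1 b b.2)).resolve_left fun h => hb (mem_P.2 h)
    have e : ∀ x y w : S, x * y * x⁻¹ = w → x * y = w * x := fun x y w h => by rw [← h]; group
    rw [mem_P, Subgroup.coe_mul]
    constructor
    · rw [mul_assoc, e _ _ _ hb'.1, ← mul_assoc, e _ _ _ ha'.2, mul_assoc]
    · rw [mul_assoc, e _ _ _ hb'.2, ← mul_assoc, e _ _ _ ha'.1, mul_assoc]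
  have h7 : P.relIndex D * Nat.card (D ⊓ P : Subgroup S) = Nat.card D := by
    have h5 := relIndex_mul_relIndex ⊥ (D ⊓ P) D bot_le inf_le_left
    rw [relIndex_bot_left, relIndex_bot_left, inf_relIndex_left, mul_comm] at h5
    exact h5
  calc Nat.card D = P.relIndex D * Nat.card (D ⊓ P : Subgroup S) := h7.symm
    _ ≤ 2 * 2 ^ 10 := Nat.mul_le_mul h6 h5
    _ = 2 ^ 11 := by norm_num

/-- the Sylow 2-subgroups of `C(z)` -/
theorem exists_syl {S : Type u} [Group S] [Finite S] {d d' : S} {R : Subgroup S} (F : KFacts.FiTT.Facts S d d' R) :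
    ∃ S₀ : Sylow 2 S, d * d' ∈ S₀ ∧ (∀ x ∈ S₀, x * (d * d') = d * d' * x) ∧
      ∀ y ∈ S₀, (∀ x ∈ S₀, x * y = y * x) → y = 1 ∨ y = d * d' := by
  obtain ⟨S₀, hS₀⟩ := CenTwo.exists_sylow_le (C := centralizer ({d * d'} : Set S)) F.odd.not_two_dvd_nat
  have hz : ∀ x ∈ S₀, x * (d * d') = d * d' * x := fun x hx => mem_centralizer_singleton_iff.1 (hS₀ hx)
  refine ⟨S₀, ?_, hz, fun y hy h => F.center_S S₀ hS₀ y hy fun x hx => (h x hx).symm⟩
  have hsq : d * d' * (d * d') = 1 := by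
    calc d * d' * (d * d') = d * (d' * d) * d' := by group
      _ = d * (d * d') * d' := by rw [F.comm]
      _ = (d * d) * (d' * d') := by group
      _ = 1 := by rw [F.dd, F.dd', one_mul]
  have hz2 : IsPGroup 2 (zpowers (d * d')) := by
    rintro ⟨x, hx⟩
    obtain ⟨i, rfl⟩ := mem_zpowers_iff.1 hx
    refine ⟨1, Subtype.ext ?_⟩
    show ((d * d') ^ i) ^ (2 ^ 1) = 1
    rw [pow_one, pow_two, ← (Commute.refl (d * d')).mul_zpow, hsq, one_zpow]
  have hcen : (S₀ : Subgroup S) ≤ normalizer (zpowers (d * d') : Set S) := by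
    intro x hx
    have h1 : Commute x (d * d') := hz x hx
    rw [mem_normalizer_iff]
    intro y
    constructor
    · rintro ⟨i, rfl⟩
      refine ⟨i, ?_⟩
      have := (h1.zpow_right i).eq
      show (d * d') ^ i = x * (d * d') ^ i * x⁻¹
      rw [this, mul_inv_cancel_right]
    · rintro ⟨i, hi⟩
      refine ⟨i, ?_⟩
      have h2 := (h1.zpow_right i).eq
      have hi' : (d * d') ^ i = x * y * x⁻¹ := hi
      show (d * d') ^ i = y
      calc (d * d') ^ i = x⁻¹ * (x * (d * d') ^ i) := by group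
        _ = x⁻¹ * ((d * d') ^ i * x) := by rw [h2]
        _ = x⁻¹ * (x * y * x⁻¹ * x) := by rw [hi']
        _ = y := by group
  have hsup : IsPGroup 2 ((S₀ : Subgroup S) ⊔ zpowers (d * d') : Subgroup S) :=
    IsPGroup.to_sup_of_normal_right' S₀.isPGroup' hz2 hcen
  have h3 := S₀.is_maximal' hsup le_sup_left
  have h4 : d * d' ∈ (S₀ : Subgroup S) ⊔ zpowers (d * d') :=
    (le_sup_right : zpowers (d * d') ≤ _) (mem_zpowers _)
  rw [h3] at h4
  exact h4

/-- **`|A| ≤ 2 ^ 12`.** -/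
theorem card_le {X : Type u} [Group X] [Finite X] {S T A : Subgroup X} (h : AS S T A) (hS : Spor.IsoFi22 S) :
    Nat.card A ≤ 2 ^ 12 := by
  obtain ⟨e⟩ := hS
  obtain ⟨d, d', R, F⟩ := KFacts.FiTT.has_of_iso (K := S) ⟨e⟩
  have hz1 : d * d' ≠ 1 := by
    intro h1
    apply F.ne
    calc d = d * (d' * d') := by rw [F.dd', mul_one]
      _ = d * d' * d' := by group
      _ = d' := by rw [h1, one_mul]
  have h1 := card_le_of h hz1 (exists_syl F) (n := 2 ^ 11) fun D hD1 hD2 hD3 => card_D F D hD1 hD2 hD3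
  have := h.norm
  have h2 : S.index ≤ 2 := index_le S e h.cen
  calc Nat.card A ≤ 2 ^ 11 * S.index := h1
    _ ≤ 2 ^ 11 * 2 := Nat.mul_le_mul_left _ h2
    _ = 2 ^ 12 := by norm_num

theorem isoClosed : IsoClosed.{u} fun S _ => Spor.IsoFi22 S := by
  rintro S S' _ _ e ⟨f⟩
  exact ⟨e.symm.trans f⟩

/-- `|M| ≥ 2 ^ 54` -/
theorem lb {S : Type u} [Group S] (hS : Spor.IsoFi22 S) : Heis.LB.{u, u, v} S 54 := by
  obtain ⟨e⟩ := hS
  have := isFi22.1
  exact (RowFiLB.lb_fi22.{u, v} (Quasithin.Row.Cox.not_comm isFi22.1 (by rw [isFi22.2]; norm_num))).congr e.symm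

set_option exponentiation.threshold 1000 in
/-- **The row `Fi22`.** -/
theorem dead : Dead.{u, v} fun S _ => Spor.IsoFi22 S := by
  intro H _ _ M _ _ _ K T A h hS
  have hZ := h.normalZ
  have h1 := card_le (h.as hZ) (isoClosed _ _ (equivZ hZ) hS)
  rw [h.card_map hZ] at h1
  have hc : Nat.card (K ⧸ center K) = 64561751654400 := by
    obtain ⟨e⟩ := hS
    rw [Nat.card_congr e.toEquiv]
    exact isFi22.2
  refine false_of_card h h1 (lb hS) ?_ (b := 1) ?_
  · obtain ⟨e⟩ := hS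
    exact outB e
  · rw [hc]
    norm_num

end Cfsg.Agent.Omega.ML.RowFi22

end

section


/-!
# (ML), the K-list end: the row `Fi23` (helper702)

* `card_le_of_sub`, `deadG_of_sub` : **one overgroup of odd index**: the involutory automorphisms of `S` are inner and
  `S ≅ Y` has a proper subgroup `C` of odd index such that every normal 2-subgroup `D` of `C` has elementary abelian
  subgroups of order at most 4 only.
* `deadG`, `dead`, `deadZ` : `Fi23`, `C = C(d) = 2.Fi22`.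
-/

set_option autoImplicit false

namespace Cfsg.Agent.Omega.ML.RowFi23

open Subgroup Cfsg Cfsg.Agent.ZN Cfsg.Agent.Omega.ML.Rows
open Cfsg.Agent.MinSimple.VModule (o2_isPGroup o2_le le_o2 le_normalizer_o2)

universe u v w

/-- Sylow: an isomorphism may be chosen such that `T` is mapped into `C`. -/
theorem exists_equiv {X : Type*} [Group X] [Finite X] {Y : Type*} [Group Y] (e : X ≃* Y) {T : Subgroup X}
    (hT : IsPGroup 2 T) {C : Subgroup Y} (hC : ¬ 2 ∣ C.index) :
    ∃ f : X ≃* Y, T ≤ C.comap f.toMonoidHom := by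
  have : Fact (Nat.Prime 2) := ⟨Nat.prime_two⟩
  have h1 : ¬ 2 ∣ (C.comap e.toMonoidHom).index := by
    rwa [index_comap_of_surjective _ e.surjective]
  obtain ⟨S, hS⟩ := Cfsg.Agent.Omega.Lie.CenTwo.exists_sylow_le h1
  obtain ⟨P, hP⟩ := hT.exists_le_sylow
  obtain ⟨g, hg⟩ := MulAction.exists_smul_eq X P S
  refine ⟨(MulAut.conj g).trans e, fun t ht => ?_⟩
  have h2 : g * t * g⁻¹ ∈ (S : Subgroup X) := by
    rw [← hg]
    exact ⟨t, hP ht, rfl⟩
  exact hS h2

/-- **One overgroup of odd index.** -/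
theorem card_le_of_sub {X : Type u} [Group X] [Finite X] {S T A : Subgroup X} (h : AS S T A)
    (hi : ∀ α : MulAut S, α ^ 2 = 1 → ∃ v : S, α = MulAut.conj v) {Y : Type w} [Group Y] (e : S ≃* Y) {C : Subgroup Y}
    (hC : ¬ 2 ∣ C.index) (hC1 : C ≠ ⊤)
    (hD : ∀ D : Subgroup Y, D ≤ C → IsPGroup 2 D → (∀ c ∈ C, ∀ d ∈ D, c * d * c⁻¹ ∈ D) → ∀ B ≤ D,
      (∀ b ∈ B, b * b = 1) → Nat.card B ≤ 4) : Nat.card A ≤ 4 := by
  have h1 : S = ⊤ := h.top_of_inner hi
  have e1 : X ≃* Y := (Subgroup.topEquiv.symm.trans (MulEquiv.subgroupCongr h1.symm)).trans e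
  obtain ⟨f, hf⟩ := exists_equiv e1 h.two hC
  have h2 : C.comap f.toMonoidHom ≠ ⊤ := by
    intro h3
    apply hC1
    have h4 : (C.comap f.toMonoidHom).map f.toMonoidHom = C :=
      map_comap_eq_self_of_surjective (f := f.toMonoidHom) f.surjective C
    rw [← h4, h3]
    exact map_top_of_surjective f.toMonoidHom f.surjective
  have h3 := h.low _ hf h2
  rw [← card_map_of_injective (K := A) (f := f.toMonoidHom) f.injective]
  refine hD ((o2 (C.comap f.toMonoidHom)).map f.toMonoidHom) ?_ ((o2_isPGroup _).map _) ?_ _ (map_mono h3) ?_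
  · rw [map_le_iff_le_comap]
    exact o2_le _
  · rintro c hc _ ⟨d, hd, rfl⟩
    obtain ⟨x, rfl⟩ := f.surjective c
    have h4 := le_normalizer_o2 (C.comap f.toMonoidHom) (show x ∈ C.comap f.toMonoidHom from hc)
    exact ⟨x * d * x⁻¹, (mem_normalizer_iff.1 h4 d).1 hd, by simp⟩
  · rintro _ ⟨a, ha, rfl⟩
    rw [← map_mul, h.el a ha, map_one]

theorem deadG_of_sub {𝒮 : ∀ (S : Type u) [Group S], Prop}
    (hs : ∀ (S : Type u) [Group S], Finite S → 𝒮 S →
      (∀ α : MulAut S, α ^ 2 = 1 → ∃ v : S, α = MulAut.conj v) ∧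
      ∃ (Y : Type w) (_ : Group Y) (_ : S ≃* Y) (C : Subgroup Y), ¬ 2 ∣ C.index ∧ C ≠ ⊤ ∧
        ∀ D : Subgroup Y, D ≤ C → IsPGroup 2 D → (∀ c ∈ C, ∀ d ∈ D, c * d * c⁻¹ ∈ D) → ∀ B ≤ D,
          (∀ b ∈ B, b * b = 1) → Nat.card B ≤ 4) : DeadG.{u} 𝒮 := by
  intro X _ _ S T A h hS
  obtain ⟨hi, Y, _, e, C, hC, hC1, hD⟩ := hs S inferInstance hS
  exact card_le_of_sub h hi e hC hC1 hD

/-- A normal 2-subgroup of a quasisimple group lies in the centre. -/
theorem le_center_of_quasi {G : Type*} [Group G] [Finite G] (h : IsQuasisimple G) {D : Subgroup G} [hn : D.Normal]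
    (h2 : IsPGroup 2 D) : D ≤ center G := by
  have : Fact (Nat.Prime 2) := ⟨Nat.prime_two⟩
  have hs : IsSimpleGroup (G ⧸ center G) := h.2
  have h3 : (D.map (QuotientGroup.mk' (center G))).Normal := hn.map _ (QuotientGroup.mk'_surjective _)
  rcases h3.eq_bot_or_eq_top with h4 | h4
  · rwa [Subgroup.map_eq_bot_iff, QuotientGroup.ker_mk'] at h4
  · exfalso
    have h5 : IsPGroup 2 (⊤ : Subgroup (G ⧸ center G)) := h4 ▸ h2.map _
    have h6 : IsPGroup 2 (G ⧸ center G) := h5.of_equiv Subgroup.topEquiv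
    have h7 : Nontrivial (center (G ⧸ center G)) := h6.center_nontrivial
    have h8 : center (G ⧸ center G) = ⊤ :=
      (hs.eq_bot_or_eq_top_of_normal _ inferInstance).resolve_left ((nontrivial_iff_ne_bot _).1 h7)
    have h9 : _root_.commutator G ≤ center G := by
      rw [_root_.commutator_def, commutator_le]
      intro a _ b _
      rw [← QuotientGroup.eq_one_iff, ← QuotientGroup.mk'_apply (center G), map_commutatorElement,
        commutatorElement_eq_one_iff_mul_comm]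
      have h10 : (QuotientGroup.mk' (center G)) b ∈ center (G ⧸ center G) := h8 ▸ mem_top _
      exact mem_center_iff.1 h10 _
    rw [h.1.commutator_eq_top] at h9
    obtain ⟨x, hx⟩ := exists_ne (1 : G ⧸ center G)
    obtain ⟨g, rfl⟩ := QuotientGroup.mk_surjective x
    exact hx ((QuotientGroup.eq_one_iff g).2 (h9 (mem_top g)))

/-- The subgroup form of `hD` for a quasisimple subgroup with a centre of order at most 4. -/
theorem card_le_of_quasi {Y : Type*} [Group Y] [Finite Y] {C : Subgroup Y} (h : IsQuasisimple C)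
    (hz : Nat.card (center C) ≤ 4) (D : Subgroup Y) (hDC : D ≤ C) (hD2 : IsPGroup 2 D)
    (hDn : ∀ c ∈ C, ∀ d ∈ D, c * d * c⁻¹ ∈ D) (B : Subgroup Y) (hB : B ≤ D) : Nat.card B ≤ 4 := by
  have h1 : (D.subgroupOf C).Normal := ⟨fun d hd c => hDn c c.2 d hd⟩
  have h2 : IsPGroup 2 (D.subgroupOf C) := hD2.comap_subtype
  have h3 := le_center_of_quasi h h2
  have h4 : Nat.card (D.subgroupOf C) = Nat.card D := Nat.card_congr (subgroupOfEquivOfLe hDC).toEquiv
  calc Nat.card B ≤ Nat.card D := card_le_of_le hB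
    _ = Nat.card (D.subgroupOf C) := h4.symm
    _ ≤ Nat.card (center C) := card_le_of_le h3
    _ ≤ 4 := hz

theorem iso : IsoClosed.{u} (fun S _ => Spor.IsoFi23 S) := by
  rintro S S' _ _ e ⟨f⟩
  exact ⟨e.symm.trans f⟩

open Cfsg.Agent.Fischer Cfsg.Agent.Fischer.Fi23Hom Cfsg.Agent.Fischer.Fi23Class Cfsg.Agent.Fischer.Fi23Z
open Cfsg.Agent.KFacts.FiTTh

/-- **The group-theoretic row `Fi23`.** -/
theorem deadG : DeadG.{u} (fun S _ => Spor.IsoFi23 S) := by
  refine deadG_of_sub.{u, 0} ?_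
  rintro S _ _ ⟨e⟩
  have hf : Finite Spor.Fi23 := Cfsg.Agent.Omega.Lie.Cen.finite_fi23
  refine ⟨fun α _ => ?_, Spor.Fi23, inferInstance, e, K,
    Cfsg.Agent.Omega.Lie.Cen.index_K, ?_, fun D h1 h2 h3 B h4 _ => ?_⟩
  · obtain ⟨g, hg⟩ := Has.inn ((e.symm.trans α).trans e)
    refine ⟨e.symm g, ?_⟩
    ext s
    have h1 := congrArg (fun β : MulAut Spor.Fi23 => e.symm (β (e s))) hg
    simpa using h1
  · intro h1
    have h2 := Cfsg.Agent.SporRec.Fi23Index.index_H
    rw [show Cfsg.Agent.SporRec.Fi23Index.H = ⊤ from h1, index_top] at h2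
    norm_num at h2
  · exact card_le_of_quasi Quasi.qs_K (by rw [Quasi.cover.1]; norm_num) D h1 h2 h3 B h4

/-- **The row `Fi23`.** -/
theorem dead : Dead.{u, v} (fun S _ => Spor.IsoFi23 S) := deadG.dead iso

/-- **field `fi23` of `RowsML`** -/
theorem deadZ : Cfsg.Agent.Omega.ML.LocRow.DeadZ.{u, v} @Spor.IsoFi23 := DeadG.deadZ iso deadG

end Cfsg.Agent.Omega.ML.RowFi23

end

section


/-!
# (ML), the K-list end: THEOREM EX, the module part (helper987)

* `TrivOn G E n` : `E ≤ G` acts trivially on all `G`-modules (elementary abelian 2-groups) of order at most `n`;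
* `core` : a 2-group `Q` normal in `G`, all of whose proper `E`-invariant subgroups have index at least `2 ^ (2w)`, acts
  trivially on every `G`-module of order at most `2 ^ (2w)` if `TrivOn G E (2 ^ w)`;
* `trivOn_of_lb` : `TrivOn L ⊤` for a perfect group `L` which is a cover of a simple group modulo a normal 2-subgroup.
-/

set_option autoImplicit false

namespace Cfsg.Agent.Omega.ML.ExCore

open Subgroup Cfsg.Agent.Omega.NOThree.NoOver

universe u v w u'

/-- `E` acts trivially on all elementary abelian 2-groups of order at most `n` with an action of `L` -/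
def TrivOn (L : Type u) [Group L] (E : Subgroup L) (n : ℕ) : Prop :=
  ∀ (V : Type v) [Group V] [Finite V] [MulDistribMulAction L V], (∀ x : V, x * x = 1) → Nat.card V ≤ n →
    ∀ l ∈ E, ∀ x : V, l • x = x

section act

variable {L : Type u} [Group L] {N : Type v} [Group N] [MulDistribMulAction L N]

/-- the action on an invariant subgroup -/
abbrev subA (V : Subgroup N) (hV : ∀ (l : L), ∀ x ∈ V, l • x ∈ V) : MulDistribMulAction L V where
  smul l x := ⟨l • (x : N), hV l x x.2⟩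
  one_smul x := Subtype.ext (one_smul L (x : N))
  mul_smul l k x := Subtype.ext (mul_smul l k (x : N))
  smul_mul l x y := Subtype.ext (smul_mul' l (x : N) y)
  smul_one l := Subtype.ext (smul_one l)

/-- the action on a quotient -/
abbrev quoA (U : Subgroup N) [U.Normal] (hU : ∀ (l : L), ∀ x ∈ U, l • x ∈ U) : MulDistribMulAction L (N ⧸ U) where
  smul l := QuotientGroup.map U U (MulDistribMulAction.toMonoidHom N l) fun x hx => hU l x hx
  one_smul q := by
    obtain ⟨x, rfl⟩ := QuotientGroup.mk_surjective q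
    exact congrArg (QuotientGroup.mk (s := U)) (one_smul L x)
  mul_smul l k q := by
    obtain ⟨x, rfl⟩ := QuotientGroup.mk_surjective q
    exact congrArg (QuotientGroup.mk (s := U)) (mul_smul l k x)
  smul_mul l p q := map_mul (QuotientGroup.map U U (MulDistribMulAction.toMonoidHom N l) fun x hx => hU l x hx) p q
  smul_one l := map_one (QuotientGroup.map U U (MulDistribMulAction.toMonoidHom N l) fun x hx => hU l x hx)

theorem comm_of_sq (sq : ∀ x : N, x * x = 1) (a b : N) : a * b = b * a := by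
  have h1 := sq (a * b)
  have h2 : a⁻¹ = a := inv_eq_of_mul_eq_one_right (sq a)
  have h3 : b⁻¹ = b := inv_eq_of_mul_eq_one_right (sq b)
  calc a * b = (a * b)⁻¹ := (inv_eq_of_mul_eq_one_right h1).symm
    _ = b⁻¹ * a⁻¹ := mul_inv_rev a b
    _ = b * a := by rw [h2, h3]

theorem normal_of_sq (sq : ∀ x : N, x * x = 1) (U : Subgroup N) : U.Normal :=
  ⟨fun u hu g => by rwa [comm_of_sq sq g u, mul_inv_cancel_right]⟩

theorem TrivOn.mono {E : Subgroup L} {m n : ℕ} (h : TrivOn.{u, v} L E n) (hmn : m ≤ n) : TrivOn.{u, v} L E m :=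
  fun V _ _ _ h2 hc => h V h2 (hc.trans hmn)

/-- the property for sections -/
theorem TrivOn.sec [Finite N] {E : Subgroup L} {n : ℕ} (h : TrivOn.{u, v} L E n) (sq : ∀ x : N, x * x = 1)
    {U V : Subgroup N} (hU : ∀ (l : L), ∀ x ∈ U, l • x ∈ U) (hV : ∀ (l : L), ∀ x ∈ V, l • x ∈ V) (hc : U.relIndex V ≤ n)
    {l : L} (hl : l ∈ E) {x : N} (hx : x ∈ V) : l • x * x⁻¹ ∈ U := by
  let _ := subA V hV
  have hn : (U.subgroupOf V).Normal := normal_of_sq (fun x => Subtype.ext (sq x)) _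
  let _ := quoA (L := L) (U.subgroupOf V) (fun l x hx => hU l x hx)
  have h1 := h (V ⧸ U.subgroupOf V) (by
    intro q
    obtain ⟨y, rfl⟩ := QuotientGroup.mk_surjective q
    exact congrArg (QuotientGroup.mk (s := U.subgroupOf V)) (Subtype.ext (sq y))) hc l hl
    (QuotientGroup.mk (⟨x, hx⟩ : V))
  have h2 : (QuotientGroup.mk (l • (⟨x, hx⟩ : V)) : V ⧸ U.subgroupOf V) = QuotientGroup.mk (⟨x, hx⟩ : V) := h1
  rw [eq_comm, QuotientGroup.eq] at h2
  have h3 : x⁻¹ * l • x ∈ U := h2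
  rwa [comm_of_sq sq] at h3

/-- `[V, Q]` -/
def br (N : Type v) [Group N] [MulDistribMulAction L N] (Q : Subgroup L) (V : Subgroup N) : Subgroup N :=
  closure {x | ∃ q ∈ Q, ∃ y ∈ V, x = q • y * y⁻¹}

theorem mem_br {Q : Subgroup L} {V : Subgroup N} {q : L} (hq : q ∈ Q) {y : N} (hy : y ∈ V) :
    q • y * y⁻¹ ∈ br N Q V := subset_closure ⟨q, hq, y, hy, rfl⟩

theorem br_le_iff {Q : Subgroup L} {V W : Subgroup N} : br N Q V ≤ W ↔ ∀ q ∈ Q, ∀ y ∈ V, q • y * y⁻¹ ∈ W := by
  rw [br, closure_le]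
  constructor
  · intro h q hq y hy
    exact h ⟨q, hq, y, hy, rfl⟩
  · rintro h _ ⟨q, hq, y, hy, rfl⟩
    exact h q hq y hy

theorem br_le {Q : Subgroup L} {V : Subgroup N} (hV : ∀ q ∈ Q, ∀ x ∈ V, q • x ∈ V) : br N Q V ≤ V :=
  br_le_iff.2 fun q hq y hy => V.mul_mem (hV q hq y hy) (V.inv_mem hy)

theorem smul_mem_br {Q : Subgroup L} (hQ : Q.Normal) {V : Subgroup N} (hV : ∀ (l : L), ∀ x ∈ V, l • x ∈ V) (l : L)
    {x : N} (hx : x ∈ br N Q V) : l • x ∈ br N Q V := by
  have h1 : br N Q V ≤ (br N Q V).comap (MulDistribMulAction.toMonoidHom N l) := by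
    rw [br_le_iff]
    intro q hq y hy
    rw [mem_comap]
    have h2 := mem_br (hQ.conj_mem q hq l) (hV l y hy)
    have h3 : (l * q * l⁻¹) • (l • y) = l • (q • y) := by rw [mul_smul, mul_smul, inv_smul_smul]
    rw [h3] at h2
    change l • (q • y * y⁻¹) ∈ _
    rwa [smul_mul', smul_inv']
  exact h1 hx

/-- the elements `q ∈ Q` with `[n, q] ∈ U` -/
def dn (Q : Subgroup L) (U : Subgroup N) (hU : ∀ q ∈ Q, ∀ x ∈ U, q • x ∈ U) (n : N) : Subgroup L where
  carrier := {q | q ∈ Q ∧ q • n * n⁻¹ ∈ U}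
  one_mem' := ⟨Q.one_mem, by rw [one_smul, mul_inv_cancel]; exact U.one_mem⟩
  mul_mem' := fun {a b} ha hb => ⟨Q.mul_mem ha.1 hb.1, by
    have h1 := U.mul_mem (hU a ha.1 _ hb.2) ha.2
    rwa [smul_mul', smul_inv', ← mul_assoc, inv_mul_cancel_right, ← mul_smul] at h1⟩
  inv_mem' := fun {a} ha => ⟨Q.inv_mem ha.1, by
    have h1 := U.inv_mem (hU a⁻¹ (Q.inv_mem ha.1) _ ha.2)
    rwa [smul_mul', smul_inv', inv_smul_smul, mul_inv_rev, inv_inv] at h1⟩

theorem mem_dn {Q : Subgroup L} {U : Subgroup N} {hU : ∀ q ∈ Q, ∀ x ∈ U, q • x ∈ U} {n : N} {q : L} :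
    q ∈ dn Q U hU n ↔ q ∈ Q ∧ q • n * n⁻¹ ∈ U := Iff.rfl

/-- `[n, Q] ≤ W` implies `|Q : dn| ≤ |W : U|` -/
theorem relIndex_dn_le [Finite L] [Finite N] (sq : ∀ x : N, x * x = 1) {Q : Subgroup L} {U W : Subgroup N}
    (hU : ∀ q ∈ Q, ∀ x ∈ U, q • x ∈ U) {n : N} (hn : ∀ q ∈ Q, q • n * n⁻¹ ∈ W)
    (hW : ∀ q ∈ Q, ∀ x ∈ W, q • x * x⁻¹ ∈ U) : (dn Q U hU n).relIndex Q ≤ U.relIndex W := by
  have hUn := normal_of_sq sq U
  let f : Q →* N ⧸ U :=
    { toFun := fun q => QuotientGroup.mk ((q : L) • n * n⁻¹)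
      map_one' := by
        change (QuotientGroup.mk ((1 : L) • n * n⁻¹) : N ⧸ U) = 1
        rw [one_smul, mul_inv_cancel]
        rfl
      map_mul' := fun a b => by
        change (QuotientGroup.mk (((a : L) * (b : L)) • n * n⁻¹) : N ⧸ U) =
          QuotientGroup.mk ((a : L) • n * n⁻¹) * QuotientGroup.mk ((b : L) • n * n⁻¹)
        have h1 := hW a a.2 _ (hn b b.2)
        have h2 : ((a : L) * (b : L)) • n * n⁻¹ =
            ((a : L) • ((b : L) • n * n⁻¹) * ((b : L) • n * n⁻¹)⁻¹) *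
              (((a : L) • n * n⁻¹) * ((b : L) • n * n⁻¹)) := by
          rw [comm_of_sq sq ((a : L) • n * n⁻¹), ← mul_assoc, inv_mul_cancel_right, smul_mul', smul_inv', ← mul_assoc,
            inv_mul_cancel_right, ← mul_smul]
        rw [h2, QuotientGroup.mk_mul, (QuotientGroup.eq_one_iff _).2 h1, one_mul, QuotientGroup.mk_mul] }
  have hk : f.ker = (dn Q U hU n).subgroupOf Q := by
    ext q
    rw [MonoidHom.mem_ker, mem_subgroupOf, mem_dn]
    change (QuotientGroup.mk ((q : L) • n * n⁻¹) : N ⧸ U) = 1 ↔ _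
    rw [QuotientGroup.eq_one_iff]
    exact ⟨fun h => ⟨q.2, h⟩, fun h => h.2⟩
  have h3 : (dn Q U hU n).relIndex Q = Nat.card f.range := by
    rw [relIndex, ← hk, index_ker]
  have h4 : f.range ≤ W.map (QuotientGroup.mk' U) := by
    rintro _ ⟨q, rfl⟩
    exact ⟨(q : L) • n * n⁻¹, hn q q.2, rfl⟩
  rw [h3]
  refine (card_le_of_le h4).trans ?_
  have h5 := relIndex_ker W (QuotientGroup.mk' U)
  rw [QuotientGroup.ker_mk'] at h5
  exact h5.ge

/-- the elements `n` with `[n, q] ∈ U` -/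
def cn (sq : ∀ x : N, x * x = 1) (q : L) (U : Subgroup N) : Subgroup N where
  carrier := {n | q • n * n⁻¹ ∈ U}
  one_mem' := by
    change q • (1 : N) * 1⁻¹ ∈ U
    rw [smul_one, one_mul, inv_one]
    exact U.one_mem
  mul_mem' := fun {a b} ha hb => by
    change q • (a * b) * (a * b)⁻¹ ∈ U
    have h1 : q • (a * b) * (a * b)⁻¹ = (q • a * a⁻¹) * (q • b * b⁻¹) := by
      rw [smul_mul', mul_inv_rev, comm_of_sq sq b⁻¹, mul_assoc, mul_assoc, ← mul_assoc (q • b),
        comm_of_sq sq (q • b), mul_assoc]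
    rw [h1]
    exact U.mul_mem ha hb
  inv_mem' := fun {a} ha => by
    change q • a⁻¹ * a⁻¹⁻¹ ∈ U
    have h1 := U.inv_mem ha
    rw [mul_inv_rev, ← smul_inv', comm_of_sq sq] at h1
    exact h1

theorem mem_cn {sq : ∀ x : N, x * x = 1} {q : L} {U : Subgroup N} {n : N} : n ∈ cn sq q U ↔ q • n * n⁻¹ ∈ U := Iff.rfl

/-- a fixed point in a section -/
theorem exists_fix [Finite N] (sq : ∀ x : N, x * x = 1) {Q : Subgroup L} (h2 : IsPGroup 2 Q) {X V : Subgroup N}
    (hX : ∀ q ∈ Q, ∀ x ∈ X, q • x ∈ X) (hV : ∀ q ∈ Q, ∀ x ∈ V, q • x ∈ V) (hlt : X < V) :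
    ∃ v ∈ V, v ∉ X ∧ ∀ q ∈ Q, q • v * v⁻¹ ∈ X := by
  have : Fact (Nat.Prime 2) := ⟨Nat.prime_two⟩
  let _ : MulDistribMulAction Q V := subA (L := Q) V fun q x hx => hV q q.2 x hx
  have hn : (X.subgroupOf V).Normal := normal_of_sq (fun x => Subtype.ext (sq x)) _
  let _ : MulDistribMulAction Q (V ⧸ X.subgroupOf V) :=
    quoA (L := Q) (X.subgroupOf V) (fun q x hx => hX q q.2 x hx)
  have hsq : ∀ q : V ⧸ X.subgroupOf V, q ^ 2 = 1 := by
    intro q
    obtain ⟨y, rfl⟩ := QuotientGroup.mk_surjective q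
    rw [pow_two]
    exact congrArg (QuotientGroup.mk (s := X.subgroupOf V)) (Subtype.ext (sq y))
  have hne : Nat.card (V ⧸ X.subgroupOf V) ≠ 1 := by
    intro h
    have h1 : X.relIndex V = 1 := h
    rw [relIndex_eq_one] at h1
    exact absurd h1 (not_le_of_gt hlt)
  have hcard : 2 ∣ Nat.card (V ⧸ X.subgroupOf V) := by
    have hp : IsPGroup 2 (V ⧸ X.subgroupOf V) := fun q => ⟨1, by rw [pow_one]; exact hsq q⟩
    obtain ⟨k, hk⟩ := IsPGroup.iff_card.1 hp
    rw [hk]
    refine dvd_pow_self 2 ?_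
    rintro rfl
    exact hne (by rw [hk, pow_zero])
  obtain ⟨b, hb1, hb2⟩ := h2.exists_fixed_point_of_prime_dvd_card_of_fixed_point (α := V ⧸ X.subgroupOf V) hcard
    (a := 1) (fun q => smul_one q)
  obtain ⟨v, rfl⟩ := QuotientGroup.mk_surjective b
  refine ⟨v, v.2, fun hv => hb2 ?_, fun q hq => ?_⟩
  · exact ((QuotientGroup.eq_one_iff v).2 hv).symm
  · have h3 := hb1 ⟨q, hq⟩
    have h4 : (QuotientGroup.mk ((⟨q, hq⟩ : Q) • v) : V ⧸ X.subgroupOf V) = QuotientGroup.mk v := h3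
    rw [eq_comm, QuotientGroup.eq] at h4
    have h5 : (v : N)⁻¹ * q • (v : N) ∈ X := h4
    rwa [comm_of_sq sq] at h5

/-- a maximal invariant subgroup -/
theorem exists_max [Finite N] {p : Subgroup N → Prop} {X₀ V : Subgroup N} (h0 : p X₀) (hlt : X₀ < V) :
    ∃ X, X₀ ≤ X ∧ p X ∧ X < V ∧ ∀ Y, X < Y → p Y → ¬ Y < V := by
  obtain ⟨X, hX, hm⟩ := Set.exists_max_image {X : Subgroup N | X₀ ≤ X ∧ p X ∧ X < V} (fun X => Nat.card X)
    (Set.toFinite _) ⟨X₀, le_rfl, h0, hlt⟩
  refine ⟨X, hX.1, hX.2.1, hX.2.2, fun Y hXY hpY hYV => ?_⟩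
  have h1 := hm Y ⟨hX.1.trans hXY.le, hpY, hYV⟩
  exact absurd (eq_of_le_of_card_ge hXY.le h1) hXY.ne

theorem le_sup_zpowers (X : Subgroup N) (v : N) : v ∈ X ⊔ zpowers v := (le_sup_right : zpowers v ≤ _) (mem_zpowers v)

/-- `[V, Q] < V` -/
theorem br_ne [Finite N] (sq : ∀ x : N, x * x = 1) {Q : Subgroup L} (h2 : IsPGroup 2 Q) {V : Subgroup N}
    (hV : ∀ q ∈ Q, ∀ x ∈ V, q • x ∈ V) (hne : V ≠ ⊥) : br N Q V ≠ V := by
  obtain ⟨X, -, hX, hXV, hmax⟩ := exists_max (p := fun X : Subgroup N => ∀ q ∈ Q, ∀ x ∈ X, q • x ∈ X) (X₀ := ⊥) (V := V)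
    (fun q _ x hx => by rw [mem_bot.1 hx, smul_one]; exact one_mem _) (bot_lt_iff_ne_bot.2 hne)
  obtain ⟨v, hv, hvX, hf⟩ := exists_fix sq h2 hX hV hXV
  have hlt : X < X ⊔ zpowers v := lt_of_le_of_ne le_sup_left fun h => hvX (h ▸ le_sup_zpowers X v)
  have hle : X ⊔ zpowers v ≤ V := sup_le hXV.le (zpowers_le.2 hv)
  have hcn : ∀ q ∈ Q, X ⊔ zpowers v ≤ cn sq q X := fun q hq =>
    sup_le (fun x hx => X.mul_mem (hX q hq x hx) (X.inv_mem hx)) (zpowers_le.2 (hf q hq))
  have hinv : ∀ q ∈ Q, ∀ x ∈ X ⊔ zpowers v, q • x ∈ X ⊔ zpowers v := by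
    intro q hq x hx
    have h1 : q • x * x⁻¹ ∈ X ⊔ zpowers v := hlt.le (hcn q hq hx)
    have h2 := mul_mem h1 hx
    rwa [inv_mul_cancel_right] at h2
  have hV' : X ⊔ zpowers v = V := by
    by_contra h
    exact hmax _ hlt hinv (lt_of_le_of_ne hle h)
  intro h
  have h3 : br N Q V ≤ X := by
    rw [br_le_iff, ← hV']
    exact fun q hq y hy => hcn q hq hy
  rw [h] at h3
  exact absurd h3 (not_le_of_gt hXV)

/-- the elements `q ∈ Q` with `[V, q] ≤ U` -/
def dv (Q : Subgroup L) (U : Subgroup N) (hU : ∀ q ∈ Q, ∀ x ∈ U, q • x ∈ U) (V : Subgroup N) : Subgroup L :=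
  Q ⊓ ⨅ n ∈ V, dn Q U hU n

theorem mem_dv {Q : Subgroup L} {U : Subgroup N} {hU : ∀ q ∈ Q, ∀ x ∈ U, q • x ∈ U} {V : Subgroup N} {q : L} :
    q ∈ dv Q U hU V ↔ q ∈ Q ∧ ∀ n ∈ V, q • n * n⁻¹ ∈ U := by
  simp only [dv, mem_inf, mem_iInf, mem_dn]
  exact ⟨fun h => ⟨h.1, fun n hn => (h.2 n hn).2⟩, fun h => ⟨h.1, fun n hn => ⟨h.1, h.2 n hn⟩⟩⟩

/-- the bound `|Q : dv| ≤ |V : N₁|` -/
theorem relIndex_dv_le [Finite L] [Finite N] (sq : ∀ x : N, x * x = 1) {Q : Subgroup L} {Y N₁ : Subgroup N}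
    (hY : ∀ q ∈ Q, ∀ x ∈ Y, q • x ∈ Y) (hN : ∀ (n : N), ∀ q ∈ Q, q • n * n⁻¹ ∈ N₁)
    (h1 : ∀ q ∈ Q, ∀ x ∈ N₁, q • x * x⁻¹ ∈ Y) (hY2 : Y.relIndex N₁ ≤ 2) (V : Subgroup N) (hV : N₁ ≤ V) :
    (dv Q Y hY V).relIndex Q ≤ N₁.relIndex V := by
  induction h : Nat.card V using Nat.strong_induction_on generalizing V with
  | _ k ih =>
    rcases hV.eq_or_lt with rfl | hlt
    · rw [relIndex_self]
      have h2 : Q ≤ dv Q Y hY N₁ := fun q hq => mem_dv.2 ⟨hq, h1 q hq⟩
      rw [relIndex_eq_one.2 h2]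
    · obtain ⟨V₀, h0, -, h0V, hmax⟩ := exists_max (p := fun _ => True) (X₀ := N₁) (V := V) trivial hlt
      obtain ⟨v, hv, hv0⟩ := SetLike.exists_of_lt h0V
      have hsup : V ≤ V₀ ⊔ zpowers v := by
        by_contra hc
        have h2 : V₀ < V₀ ⊔ zpowers v := lt_of_le_of_ne le_sup_left fun h => hv0 (h ▸ le_sup_zpowers V₀ v)
        have h3 : V₀ ⊔ zpowers v ≤ V := sup_le h0V.le (zpowers_le.2 hv)
        exact hmax _ h2 trivial (lt_of_le_of_ne h3 fun h4 => hc h4.ge)
      have hc : Nat.card V₀ < k := by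
        rw [← h]
        by_contra hc
        exact absurd (eq_of_le_of_card_ge h0V.le (not_lt.1 hc)) h0V.ne
      have h2 := ih _ hc V₀ h0 rfl
      have h3 : (dn Q Y hY v).relIndex Q ≤ 2 := (relIndex_dn_le sq hY (hN v) h1).trans hY2
      have h4 : dv Q Y hY V₀ ⊓ dn Q Y hY v ≤ dv Q Y hY V := by
        intro q hq
        have hq0 := (mem_dv.1 hq.1).1
        refine mem_dv.2 ⟨hq0, fun n hn => ?_⟩
        have h5 : V₀ ⊔ zpowers v ≤ cn sq q Y := sup_le (fun x hx => (mem_dv.1 hq.1).2 x hx)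
          (zpowers_le.2 hq.2.2)
        exact h5 (hsup hn)
      have h5 : 2 ≤ V₀.relIndex V := by
        have h6 : V₀.relIndex V ≠ 0 := relIndex_ne V₀ V
        have h7 : V₀.relIndex V ≠ 1 := fun h8 => absurd (relIndex_eq_one.1 h8) (not_le_of_gt h0V)
        omega
      calc (dv Q Y hY V).relIndex Q ≤ (dv Q Y hY V₀ ⊓ dn Q Y hY v).relIndex Q := by
            exact relIndex_le_of_le_left h4 (relIndex_ne _ _)
        _ ≤ (dv Q Y hY V₀).relIndex Q * (dn Q Y hY v).relIndex Q := relIndex_inf_le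
        _ ≤ N₁.relIndex V₀ * V₀.relIndex V := Nat.mul_le_mul h2 (h3.trans h5)
        _ = N₁.relIndex V := relIndex_mul_relIndex _ _ _ h0 h0V.le

/-- **The module part of THEOREM EX** -/
theorem core [Finite L] [Finite N] (sq : ∀ x : N, x * x = 1) {Q E : Subgroup L} (hQ : Q.Normal) (h2 : IsPGroup 2 Q)
    {w : ℕ} (hN : Nat.card N ≤ 2 ^ (2 * w))
    (irr : ∀ D ≤ Q, (∀ l ∈ E, ∀ q ∈ D, l * q * l⁻¹ ∈ D) → 2 ^ (2 * w) ≤ D.relIndex Q ∨ D = Q)
    (tr : TrivOn.{u, v} L E (2 ^ w)) : ∀ q ∈ Q, ∀ n : N, q • n = n := by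
  by_contra hcon
  push Not at hcon
  obtain ⟨q₀, hq₀, n₀, hn₀⟩ := hcon
  obtain ⟨N₁, hN₁⟩ : ∃ N₁, N₁ = br N Q ⊤ := ⟨_, rfl⟩
  have hinv1 : ∀ (l : L), ∀ x ∈ N₁, l • x ∈ N₁ := by
    rw [hN₁]
    exact fun l x hx => smul_mem_br hQ (fun _ _ _ => mem_top _) l hx
  obtain ⟨N₂, hN₂⟩ : ∃ N₂, N₂ = br N Q N₁ := ⟨_, rfl⟩
  have hinv2 : ∀ (l : L), ∀ x ∈ N₂, l • x ∈ N₂ := by
    rw [hN₂]
    exact fun l x hx => smul_mem_br hQ hinv1 l hx
  have hb1 : ∀ q ∈ Q, ∀ n : N, q • n * n⁻¹ ∈ N₁ := fun q hq n => by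
    rw [hN₁]; exact mem_br hq (mem_top n)
  have hb2 : ∀ q ∈ Q, ∀ n ∈ N₁, q • n * n⁻¹ ∈ N₂ := fun q hq n hn => by
    rw [hN₂]; exact mem_br hq hn
  have hne1 : N₁ ≠ ⊥ := by
    intro h
    have h1 := hb1 q₀ hq₀ n₀
    rw [h, mem_bot, mul_inv_eq_one] at h1
    exact hn₀ h1
  have htop : (⊤ : Subgroup N) ≠ ⊥ := fun h => hne1 (le_bot_iff.1 (h ▸ le_top))
  have hne2 : N₁ ≠ ⊤ := by
    rw [hN₁]
    exact br_ne sq h2 (fun _ _ _ _ => mem_top _) htop
  have hlt2 : N₂ < N₁ := by
    refine lt_of_le_of_ne ?_ ?_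
    · rw [hN₂]
      exact br_le fun q _ x hx => hinv1 q x hx
    · rw [hN₂]
      exact br_ne sq h2 (fun q _ x hx => hinv1 q x hx) hne1
  have hcard := card_mul_index N₁
  have hi : 2 ≤ N₁.index := by
    have h3 : N₁.index ≠ 0 := index_ne_zero_of_finite
    have h4 : N₁.index ≠ 1 := fun e => hne2 (index_eq_one.1 e)
    omega
  have hc : 2 ≤ Nat.card N₁ := (one_lt_card_iff_ne_bot N₁).2 hne1
  have hc1 : Nat.card N₁ < 2 ^ (2 * w) := by
    refine lt_of_lt_of_le ?_ hN
    rw [← hcard]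
    nlinarith
  have hi1 : N₁.index < 2 ^ (2 * w) := by
    refine lt_of_lt_of_le ?_ hN
    rw [← hcard]
    nlinarith
  by_cases hcase : N₁.index ≤ 2 ^ w
  · -- `L` is trivial on `N / N₁`
    have htr : ∀ l ∈ E, ∀ x : N, l • x * x⁻¹ ∈ N₁ := fun l hl x =>
      tr.sec sq hinv1 (V := ⊤) (fun _ _ _ => mem_top _) (by rwa [relIndex_top_right]) hl (mem_top x)
    obtain ⟨n, q₁, hq₁, hn⟩ : ∃ n : N, ∃ q ∈ Q, q • n * n⁻¹ ∉ N₂ := by
      by_contra hc
      push Not at hc
      have h3 : N₁ ≤ N₂ := by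
        rw [hN₁, br_le_iff]
        exact fun q hq y _ => hc y q hq
      exact absurd h3 (not_le_of_gt hlt2)
    have hU : ∀ q ∈ Q, ∀ x ∈ N₂, q • x ∈ N₂ := fun q _ x hx => hinv2 q x hx
    have hD : ∀ l ∈ E, ∀ q ∈ dn Q N₂ hU n, l * q * l⁻¹ ∈ dn Q N₂ hU n := by
      refine fun l hl q hq => ⟨hQ.conj_mem q hq.1 l, ?_⟩
      have h3 := hb2 q hq.1 _ (htr l⁻¹ (E.inv_mem hl) n)
      have h4 : l⁻¹ • n = (l⁻¹ • n * n⁻¹) * n := by group
      have h5 : q • (l⁻¹ • n) * (l⁻¹ • n)⁻¹ ∈ N₂ := by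
        have h6 : (l⁻¹ • n * n⁻¹) * n ∈ cn sq q N₂ := mul_mem h3 hq.2
        rw [← h4] at h6
        exact h6
      have h7 := hinv2 l _ h5
      rw [smul_mul', smul_inv', smul_inv_smul, ← mul_smul, ← mul_smul] at h7
      exact h7
    rcases irr (dn Q N₂ hU n) (fun q hq => hq.1) hD with h3 | h3
    · have h4 := relIndex_dn_le sq hU (W := N₁) (fun q hq => hb1 q hq n) hb2
      have h5 : N₂.relIndex N₁ ≤ Nat.card N₁ := Nat.le_of_dvd Nat.card_pos (relIndex_dvd_card _ _)
      omega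
    · have h4 : q₁ ∈ dn Q N₂ hU n := by rw [h3]; exact hq₁
      exact hn h4.2
  · -- `L` is trivial on `N₁`
    have hcase' : Nat.card N₁ ≤ 2 ^ w := by
      by_contra hc'
      rw [not_le] at hcase hc'
      have h3 : 2 ^ w * 2 ^ w < Nat.card N₁ * N₁.index := Nat.mul_lt_mul'' hc' hcase
      rw [hcard, ← pow_add, ← two_mul] at h3
      omega
    have htr : ∀ l ∈ E, ∀ x ∈ N₁, l • x = x := by
      intro l hl x hx
      have h3 := tr.sec sq (U := ⊥) (V := N₁) (fun l x hx => by rw [mem_bot.1 hx, smul_one]; exact one_mem _)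
        hinv1 (by rwa [relIndex_bot_left]) hl hx
      rwa [mem_bot, mul_inv_eq_one] at h3
    obtain ⟨Y, hY1, -, hY2, hY3⟩ := exists_max (p := fun _ => True) trivial hlt2
    obtain ⟨v, hv, hvY⟩ := SetLike.exists_of_lt hY2
    have hsup : N₁ = Y ⊔ zpowers v := by
      by_contra hc
      have h2 : Y < Y ⊔ zpowers v := lt_of_le_of_ne le_sup_left fun h => hvY (h ▸ le_sup_zpowers Y v)
      have h3 : Y ⊔ zpowers v ≤ N₁ := sup_le hY2.le (zpowers_le.2 hv)
      exact hY3 _ h2 trivial (lt_of_le_of_ne h3 (Ne.symm hc))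
    have hYi : Y.relIndex N₁ ≤ 2 := by
      have hn := normal_of_sq sq Y
      rw [hsup, sup_comm, relIndex_sup_right]
      have h3 : Y.relIndex (zpowers v) ≤ Nat.card (zpowers v) := Nat.le_of_dvd Nat.card_pos (relIndex_dvd_card _ _)
      rw [Nat.card_zpowers] at h3
      exact h3.trans (orderOf_le_of_pow_eq_one (by norm_num) (by rw [pow_two]; exact sq v))
    have hYinv : ∀ l ∈ E, ∀ x ∈ Y, l • x ∈ Y := fun l hl x hx => by rwa [htr l hl x (hY2.le hx)]
    have hU : ∀ q ∈ Q, ∀ x ∈ Y, q • x ∈ Y := fun q hq x hx => by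
      have h3 := Y.mul_mem (hY1 (hb2 q hq x (hY2.le hx))) hx
      rwa [inv_mul_cancel_right] at h3
    have hD : ∀ l ∈ E, ∀ q ∈ dv Q Y hU ⊤, l * q * l⁻¹ ∈ dv Q Y hU ⊤ := by
      intro l hl q hq
      rw [mem_dv] at hq ⊢
      refine ⟨hQ.conj_mem q hq.1 l, fun n _ => ?_⟩
      have h7 := hYinv l hl _ (hq.2 (l⁻¹ • n) (mem_top _))
      rwa [smul_mul', smul_inv', smul_inv_smul, ← mul_smul, ← mul_smul] at h7
    rcases irr (dv Q Y hU ⊤) (fun q hq => (mem_dv.1 hq).1) hD with h3 | h3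
    · have h4 := relIndex_dv_le sq hU (N₁ := N₁) (fun n q hq => hb1 q hq n) (fun q hq x hx => hY1 (hb2 q hq x hx)) hYi ⊤
        le_top
      rw [relIndex_top_right] at h4
      omega
    · have h4 : N₁ ≤ Y := by
        rw [hN₁, br_le_iff]
        intro q hq n _
        rw [← h3] at hq
        exact (mem_dv.1 hq).2 n (mem_top n)
      exact absurd h4 (not_le_of_gt hY2)

end act

/-! ### `TrivOn` from the lower bound `LB` -/

section lb

open Cfsg.Agent.Omega.Lie.Heis

variable {K : Type u'} [Group K] {L : Type u} [Group L] [Finite L]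

/-- `TrivOn L ⊤` for a perfect group which is a cover of `K` modulo a normal 2-subgroup -/
theorem trivOn_of_lb {m n : ℕ} (hlb : LB.{u', u, v} K m) (hnm : n < m) (hL : commutator L = ⊤) {Q : Subgroup L}
    (hQ : Q.Normal) (h2 : IsPGroup 2 Q) (π : L →* K) (hπ : Function.Surjective π) (hQπ : Q ≤ π.ker)
    (hc : ∀ x ∈ π.ker, ∀ y : L, x * y * x⁻¹ * y⁻¹ ∈ Q) (ho : Odd (Q.relIndex π.ker)) :
    TrivOn.{u, v} L ⊤ (2 ^ n) := by
  intro V _ _ _ sq hV l _ x
  have hcomm : ∀ a b : V, a * b = b * a := comm_of_sq sq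
  let _ : CommGroup V := { (inferInstance : Group V) with mul_comm := hcomm }
  by_contra hne
  let φ : L →* MulAut V := MulDistribMulAction.toMulAut L V
  have hφ : φ ≠ 1 := fun h => hne (by
    have h1 := DFunLike.congr_fun (DFunLike.congr_fun h l) x
    exact h1)
  have hp : IsPGroup 2 V := fun y => ⟨1, by rw [pow_one, pow_two]; exact sq y⟩
  obtain ⟨W, _, _, ψ, h3, h4, h5, h6⟩ := exists_irr hL φ hφ hp
  -- `Q` is trivial on `W`
  have hWne : Nontrivial W := by
    by_contra hc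
    rw [not_nontrivial_iff_subsingleton] at hc
    exact h4 (by ext g y; exact Subsingleton.elim _ _)
  have hQ1 : ∀ q ∈ Q, ψ q = 1 := by
    let _ : MulDistribMulAction L W := MulDistribMulAction.compHom W ψ
    have hsm : ∀ (g : L) (y : W), g • y = ψ g y := fun _ _ => rfl
    have : Fact (Nat.Prime 2) := ⟨Nat.prime_two⟩
    have hcard : 2 ∣ Nat.card W := by
      obtain ⟨k, hk⟩ := IsPGroup.iff_card.1 h3
      rw [hk]
      refine dvd_pow_self 2 ?_
      rintro rfl
      have h7 : 1 < Nat.card W := Finite.one_lt_card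
      rw [hk, pow_zero] at h7
      omega
    obtain ⟨b, hb1, hb2⟩ := h2.exists_fixed_point_of_prime_dvd_card_of_fixed_point (α := W) hcard (a := 1)
      (fun q => smul_one (q : L))
    let U : Subgroup W :=
      { carrier := {y | ∀ q ∈ Q, ψ q y = y}
        one_mem' := fun q _ => map_one _
        mul_mem' := fun {a b} ha hb q hq => by rw [map_mul, ha q hq, hb q hq]
        inv_mem' := fun {a} ha q hq => by rw [map_inv, ha q hq] }
    have hU : ∀ g, ∀ y ∈ U, ψ g y ∈ U := by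
      intro g y hy q hq
      have h7 := hy (g⁻¹ * q * g) (by
        have h8 := hQ.conj_mem q hq g⁻¹
        rwa [inv_inv] at h8)
      have h8 : q * g = g * (g⁻¹ * q * g) := by group
      rw [← MulAut.mul_apply, ← map_mul, h8, map_mul, MulAut.mul_apply, h7]
    rcases h5 U hU with h7 | h7
    · exfalso
      have h8 : b ∈ U := fun q hq => hb1 ⟨q, hq⟩
      rw [h7, mem_bot] at h8
      exact hb2 h8.symm
    · intro q hq
      ext y
      have h8 : y ∈ U := h7 ▸ mem_top y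
      exact h8 q hq
  let ψ' : L ⧸ Q →* MulAut W := QuotientGroup.lift Q ψ hQ1
  let π' : L ⧸ Q →* K := QuotientGroup.lift Q π fun q hq => hQπ hq
  have hk : π'.ker = π.ker.map (QuotientGroup.mk' Q) := by
    ext y
    obtain ⟨g, rfl⟩ := QuotientGroup.mk_surjective y
    constructor
    · intro hg
      exact ⟨g, hg, rfl⟩
    · rintro ⟨a, ha, hag⟩
      have h8 : (a : L ⧸ Q) = (g : L ⧸ Q) := hag
      rw [MonoidHom.mem_ker, ← h8]
      exact ha
  have h7 := hlb (L ⧸ Q) π' (by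
      intro k
      obtain ⟨g, rfl⟩ := hπ k
      exact ⟨g, rfl⟩) (by
      rw [hk]
      rintro _ ⟨a, ha, rfl⟩
      rw [mem_center_iff]
      intro y
      obtain ⟨g, rfl⟩ := QuotientGroup.mk_surjective y
      change (QuotientGroup.mk (g * a) : L ⧸ Q) = QuotientGroup.mk (a * g)
      rw [eq_comm, QuotientGroup.eq]
      have h9 := hQ.conj_mem _ (hc a⁻¹ (π.ker.inv_mem ha) g) g⁻¹
      have h10 : (a * g)⁻¹ * (g * a) = g⁻¹ * (a⁻¹ * g * a⁻¹⁻¹ * g⁻¹) * g⁻¹⁻¹ := by group
      rwa [h10]) (by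
      rw [hk]
      have h8 := relIndex_ker π.ker (QuotientGroup.mk' Q)
      rw [QuotientGroup.ker_mk'] at h8
      rwa [h8] at ho) (by
      rw [eq_top_iff]
      rintro y -
      obtain ⟨g, rfl⟩ := QuotientGroup.mk_surjective y
      have h8 : g ∈ commutator L := hL ▸ mem_top g
      have h9 : (commutator L).map (QuotientGroup.mk' Q) ≤ commutator (L ⧸ Q) := by
        rw [_root_.commutator_def, _root_.commutator_def, map_commutator]
        exact commutator_mono le_top le_top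
      exact h9 ⟨g, h8, rfl⟩) W h3 ψ' (by
      intro h8
      apply h4
      ext g y
      have h9 := DFunLike.congr_fun (DFunLike.congr_fun h8 (QuotientGroup.mk g)) y
      exact h9)
  have h8 : 2 ^ n < 2 ^ m := Nat.pow_lt_pow_right (by norm_num) hnm
  omega

end lb

end Cfsg.Agent.Omega.ML.ExCore

end

section


/-!
# (ML), the K-list end: THEOREM EX, the record (helper987)

* `Rec C P R w` : `R` is a nonabelian group of order `2 ^ (2w + 1)`, normal in `C`, `P ≤ C` perfect, irreducible on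
  `R` modulo a subgroup of order 2, and for every odd central cover `G` of `C` the group `⁅P̂, P̂⁆` (`P̂` the preimage of
  `P`) acts trivially on the elementary abelian `G`-modules of order at most `2 ^ w`;
* `Rec.of_sheet` : `Rec` from helper915's sheet `SheetX z P R` (`C = C_S(z)`);
* `TrivC C P w` : the last field;  `trivC_of_lb` : it follows from `LB P (w + 1)`, also from `LB L (w + 1)` for a
  quotient `L` of `P` by a 2-subgroup.
-/

set_option autoImplicit false

namespace Cfsg.Agent.Omega.ML.ExRec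

open Subgroup Cfsg Cfsg.Agent.OddHalf.D8.Sheet Cfsg.Agent.OddHalf.D8.JTwo.Sheet Cfsg.Agent.Omega.ML.ExCore

universe u v w

/-- the modules of order at most `2 ^ n` of the odd central covers of `C` are trivial for `⁅P̂, P̂⁆` -/
def TrivC {X : Type w} [Group X] (C P : Subgroup X) (n : ℕ) : Prop :=
  ∀ (G : Type u) [Group G] [Finite G] (p : G →* C), Function.Surjective p → p.ker ≤ center G →
    Odd (Nat.card p.ker) →
    TrivOn.{u, v} G ⁅(P.subgroupOf C).comap p, (P.subgroupOf C).comap p⁆ (2 ^ n)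

/-- the record of THEOREM EX -/
structure Rec {X : Type w} [Group X] (C P R : Subgroup X) (n : ℕ) : Prop where
  PC : P ≤ C
  RC : R ≤ C
  nR : ∀ c ∈ C, ∀ r ∈ R, c * r * c⁻¹ ∈ R
  card : Nat.card R = 2 ^ (2 * n + 1)
  nab : ∃ a ∈ R, ∃ b ∈ R, a * b ≠ b * a
  perf : ⁅P, P⁆ = P
  irr : ∀ B : Subgroup X, B ≤ R → (∀ x ∈ P, ∀ b ∈ B, x * b * x⁻¹ ∈ B) → Nat.card B ≤ 2 ∨ B = R
  triv : TrivC.{u, v, w} C P n

end Cfsg.Agent.Omega.ML.ExRec

end

section


/-!
# (ML), the K-list end: the facts of THEOREM EX for `Fi24'`, abstract part (helper39)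

`C = C_K(z) = 2^{1+12}.3.U₄(3).2`, `P = E = C^∞`, `R = 2^{1+12}`, `w = 6`.

* `not27` : a subgroup of `E` which centralises `E/R` has order not divisible by 27 (an element of order 3 acts
  fixed point freely on `R/⟨z⟩`);
* `E_le` : a normal subgroup of `E` of index not divisible by `3^5` is `E`;
* `trivC` : `TrivC C P 6` (`3^5` does not divide `|GL_6(2)|`).
-/

set_option autoImplicit false

namespace Cfsg.Agent.Omega.ML.ExFi24

open Subgroup Cfsg Cfsg.Agent.KFacts.FiTF Cfsg.Agent.Omega.ML.ExCore Cfsg.Agent.Omega.ML.ExRec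

universe u v w w'

section gen

theorem card_dvd_of_free {E X : Type*} [Group E] [Finite E] [MulAction E X] [Finite X]
    (h : ∀ (z : E) (x : X), z • x = x → z = 1) : Nat.card E ∣ Nat.card X := by
  classical
  have _ := Fintype.ofFinite E
  have _ := Fintype.ofFinite X
  have e := MulAction.selfEquivSigmaOrbits E X
  rw [Nat.card_congr e, Nat.card_sigma]
  refine Finset.dvd_sum fun ω _ => ?_
  have h1 : Nat.card (MulAction.orbit E (Quotient.out ω : X)) = Nat.card E := by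
    refine (Nat.card_congr (Equiv.ofBijective
      (fun z : E => (⟨z • (Quotient.out ω : X), MulAction.mem_orbit _ z⟩ :
        MulAction.orbit E (Quotient.out ω : X))) ⟨?_, ?_⟩)).symm
    · intro z w hzw
      have h2 : z • (Quotient.out ω : X) = w • (Quotient.out ω : X) := congrArg Subtype.val hzw
      have h3 : (w⁻¹ * z) • (Quotient.out ω : X) = Quotient.out ω := by
        rw [mul_smul, h2, ← mul_smul, inv_mul_cancel, one_smul]
      have h4 := h _ _ h3
      exact (inv_mul_eq_one.1 h4).symm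
    · rintro ⟨y, z, rfl⟩
      exact ⟨z, rfl⟩
  rw [h1]

/-- the order of `GL_n(2)` -/
theorem card_mulAut {V : Type v} [Group V] [Finite V] (sq : ∀ x : V, x * x = 1) {n : ℕ} (hc : Nat.card V = 2 ^ n) :
    Nat.card (MulAut V) = ∏ i ∈ Finset.range n, (2 ^ n - 2 ^ i) := by
  have : Fact (Nat.Prime 2) := ⟨Nat.prime_two⟩
  let _ : CommGroup V := { (inferInstance : Group V) with mul_comm := comm_of_sq sq }
  obtain ⟨e⟩ := Cfsg.Agent.Lib.ElemAbGL.mulAut_equiv_GL (V := V) 2 n (fun x => by rw [pow_two]; exact sq x) hc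
  have h := Matrix.card_GL_field (𝔽 := ZMod 2) (n := n)
  rw [ZMod.card, Fin.prod_univ_eq_prod_range (fun i => 2 ^ n - 2 ^ i) n] at h
  rw [← h]
  exact Nat.card_congr e.toEquiv

/-- `3^5` does not divide `|GL_n(2)|`, `n ≤ 6` -/
theorem not_dvd {V : Type v} [Group V] [Finite V] (sq : ∀ x : V, x * x = 1) (hV : Nat.card V ≤ 2 ^ 6) :
    ¬ 243 ∣ Nat.card (MulAut V) := by
  have : Fact (Nat.Prime 2) := ⟨Nat.prime_two⟩
  have hp : IsPGroup 2 V := fun x => ⟨1, by rw [pow_one, pow_two]; exact sq x⟩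
  obtain ⟨n, hn⟩ := IsPGroup.iff_card.1 hp
  have hn6 : n ≤ 6 := by
    rw [hn] at hV
    exact (Nat.pow_le_pow_iff_right (by norm_num)).1 hV
  rw [card_mulAut sq hn]
  interval_cases n <;> decide +kernel

variable {G : Type u} [Group G] {P : Type w} [Group P] {f : G →* P}

/-- the index of the image of the kernel of an action divides `|Aut V|` -/
theorem relIndex_dvd {A : Type v} [Group A] (φ : G →* A) (hf : Function.Surjective f) (M : Subgroup P) :
    (φ.ker.map f).relIndex M ∣ Nat.card A := by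
  have h1 : (φ.ker.map f).relIndex M = ((φ.ker.map f).comap f).relIndex (M.comap f) := by
    rw [relIndex_comap, map_comap_eq_self_of_surjective hf]
  have h2 : ((φ.ker.map f).comap f).relIndex (M.comap f) ∣ φ.ker.relIndex (M.comap f) :=
    relIndex_dvd_of_le_left _ (le_comap_map f φ.ker)
  rw [h1]
  refine h2.trans ?_
  rw [relIndex_ker]
  exact card_subgroup_dvd_card _

/-- commutators of the preimage of a subgroup covered by the kernel -/
theorem comm_le {A : Type v} [Group A] {φ : G →* A} (hc : f.ker ≤ center G) {M : Subgroup P} (hM : M ≤ φ.ker.map f) :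
    ⁅M.comap f, M.comap f⁆ ≤ φ.ker := by
  rw [commutator_le]
  intro a ha b hb
  obtain ⟨a', ha', hfa⟩ := hM ha
  obtain ⟨b', hb', hfb⟩ := hM hb
  have h1 : a * a'⁻¹ ∈ center G := hc (by
    rw [MonoidHom.mem_ker, map_mul, map_inv, hfa]
    exact mul_inv_cancel _)
  have h2 : b * b'⁻¹ ∈ center G := hc (by
    rw [MonoidHom.mem_ker, map_mul, map_inv, hfb]
    exact mul_inv_cancel _)
  have ha1 : φ a' = 1 := ha'
  have e1 : φ a = φ (a * a'⁻¹) := by rw [map_mul, map_inv, ha1, inv_one, mul_one]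
  rw [MonoidHom.mem_ker]
  rw [map_commutatorElement, commutatorElement_eq_one_iff_mul_comm, e1, ← map_mul, ← map_mul]
  congr 1
  exact (mem_center_iff.1 h1 b).symm

/-- **`TrivC` from indices**: `m ∤ |Aut V|` for `|V| ≤ 2 ^ n`, and a normal subgroup of `P` of index not divisible by `m`
is `P` -/
theorem trivC_of_index {X : Type w} [Group X] {C P : Subgroup X} {n m : ℕ} (hPC : P ≤ C)
    (hm : ∀ (V : Type v) [Group V] [Finite V], (∀ x : V, x * x = 1) → Nat.card V ≤ 2 ^ n → ¬ m ∣ Nat.card (MulAut V))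
    (hN : ∀ N ≤ P, (∀ x ∈ P, ∀ y ∈ N, x * y * x⁻¹ ∈ N) → ¬ m ∣ N.relIndex P → N = P) : TrivC.{u, v, w} C P n := by
  intro G _ _ p hp hc _ V _ _ _ sq hV l hl x
  let φ : G →* MulAut V := MulDistribMulAction.toMulAut G V
  have hNn : (φ.ker.map p).Normal := (MonoidHom.normal_ker φ).map p hp
  set N : Subgroup C := φ.ker.map p with hNdef
  have h1 : ((N ⊓ P.subgroupOf C).map C.subtype) = P := by
    refine hN _ ?_ ?_ ?_
    · rintro _ ⟨y, hy, rfl⟩
      exact hy.2
    · rintro x hx _ ⟨y, hy, rfl⟩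
      exact ⟨(⟨x, hPC hx⟩ : C) * y * (⟨x, hPC hx⟩ : C)⁻¹, ⟨hNn.conj_mem _ hy.1 _,
        P.mul_mem (P.mul_mem hx hy.2) (P.inv_mem hx)⟩, rfl⟩
    · have h2 : ((N ⊓ P.subgroupOf C).map C.subtype).relIndex P = N.relIndex (P.subgroupOf C) := by
        have h3 : (P.subgroupOf C).map C.subtype = P := by
          rw [subgroupOf_map_subtype, inf_of_le_left hPC]
        conv_lhs => rw [← h3]
        rw [relIndex_map_map_of_injective _ _ C.subtype_injective, h3, inf_relIndex_right]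
      rw [h2]
      exact fun h3 => hm V sq hV (h3.trans (relIndex_dvd φ hp _))
  have h2 : P.subgroupOf C ≤ N := by
    intro y hy
    have h3 : (y : X) ∈ (N ⊓ P.subgroupOf C).map C.subtype := by rw [h1]; exact hy
    obtain ⟨y', hy', he⟩ := h3
    have h4 : y' = y := Subtype.ext he
    rw [← h4]
    exact hy'.1
  have h5 : φ l = 1 := comm_le hc h2 hl
  exact DFunLike.congr_fun h5 x

/-- transport -/
theorem TrivC.map {X : Type w} [Group X] {Y : Type w'} [Group Y] (e : X ≃* Y) {C P : Subgroup X} {n : ℕ}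
    (h : TrivC.{u, v, w} C P n) : TrivC.{u, v, w'} (C.map e.toMonoidHom) (P.map e.toMonoidHom) n := by
  intro G _ _ p hp hc ho
  let f : C ≃* C.map e.toMonoidHom := C.equivMapOfInjective e.toMonoidHom e.injective
  have hf : ∀ c : C, ((f c : C.map e.toMonoidHom) : Y) = e c := fun _ => rfl
  have hk : (f.symm.toMonoidHom.comp p).ker = p.ker := by
    ext g
    rw [MonoidHom.mem_ker, MonoidHom.mem_ker, MonoidHom.comp_apply]
    exact f.symm.map_eq_one_iff
  have h1 := h G (f.symm.toMonoidHom.comp p) (f.symm.surjective.comp hp) (by rw [hk]; exact hc) (by rw [hk]; exact ho)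
  have h2 : (P.subgroupOf C).comap (f.symm.toMonoidHom.comp p) =
      ((P.map e.toMonoidHom).subgroupOf (C.map e.toMonoidHom)).comap p := by
    ext g
    rw [mem_comap, mem_comap, mem_subgroupOf, mem_subgroupOf]
    change ((f.symm (p g) : C) : X) ∈ P ↔ _
    obtain ⟨c, hc⟩ := f.surjective (p g)
    rw [← hc, f.symm_apply_apply, hf]
    constructor
    · intro h3
      exact ⟨_, h3, rfl⟩
    · rintro ⟨y, hy, he⟩
      have h4 : y = c := e.injective he
      rwa [← h4]
  rwa [h2] at h1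

end gen

section abs

variable {F : Type*} [Group F] {K : Subgroup F} {z : F} {R E : Subgroup F} {Om : Set F}

/-- an element of order 3 centralising `E/R` acts fixed point freely on `R/⟨z⟩` -/
theorem free (h : Frame K z R E Om) {t : F} (htE : t ∈ E) (ht3 : t * t * t = 1) (ht1 : t ≠ 1)
    (hc : ∀ g ∈ E, t * g * t⁻¹ * g⁻¹ ∈ R) {r : F} (hr : r ∈ R) (hf : t * r * t⁻¹ = r) : r = 1 ∨ r = z := by
  have htz : t * z = z * t := h.Ez t htE
  have hz2 : z⁻¹ = z := inv_eq_of_mul_eq_one_right h.zz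
  have hRz : ∀ s ∈ R, s * z = z * s := fun s hs => h.Ez s (h.RE hs)
  let B : Subgroup F :=
    { carrier := {s | s ∈ R ∧ (t * s * t⁻¹ = s ∨ t * s * t⁻¹ = s * z)}
      one_mem' := ⟨R.one_mem, Or.inl (by group)⟩
      mul_mem' := by
        rintro a b ⟨ha, ha'⟩ ⟨hb, hb'⟩
        refine ⟨R.mul_mem ha hb, ?_⟩
        have e1 : t * (a * b) * t⁻¹ = (t * a * t⁻¹) * (t * b * t⁻¹) := by group
        rw [e1]
        rcases ha' with ha' | ha' <;> rcases hb' with hb' | hb' <;> rw [ha', hb']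
        · exact Or.inl rfl
        · exact Or.inr (by group)
        · right
          rw [mul_assoc, mul_assoc, ← hRz b hb]
        · left
          calc a * z * (b * z) = a * (z * b) * z := by group
            _ = a * (b * z) * z := by rw [hRz b hb]
            _ = a * b * (z * z) := by group
            _ = a * b := by rw [h.zz, mul_one]
      inv_mem' := by
        rintro a ⟨ha, ha'⟩
        refine ⟨R.inv_mem ha, ?_⟩
        have e1 : t * a⁻¹ * t⁻¹ = (t * a * t⁻¹)⁻¹ := by group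
        rw [e1]
        rcases ha' with ha' | ha' <;> rw [ha']
        · exact Or.inl rfl
        · right
          rw [mul_inv_rev, hz2, ← hRz a⁻¹ (R.inv_mem ha)] }
  have hB : ∀ s, s ∈ B ↔ s ∈ R ∧ (t * s * t⁻¹ = s ∨ t * s * t⁻¹ = s * z) := fun _ => Iff.rfl
  rcases h.irr B (fun s hs => hs.1) (by
      rintro g hg b ⟨hb, hb'⟩
      have hgz := h.Ez g hg
      have hgb : g * b * g⁻¹ ∈ R := h.norm g hgz b hb
      refine ⟨hgb, ?_⟩
      have hs := hc g hg
      set s := t * g * t⁻¹ * g⁻¹ with hsdef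
      have e1 : t * (g * b * g⁻¹) * t⁻¹ = s * (g * (t * b * t⁻¹) * g⁻¹) * s⁻¹ := by
        rw [hsdef]; group
      have e2 : g * (t * b * t⁻¹) * g⁻¹ = g * b * g⁻¹ ∨ g * (t * b * t⁻¹) * g⁻¹ = g * b * g⁻¹ * z := by
        rcases hb' with hb' | hb' <;> rw [hb']
        · exact Or.inl rfl
        · right
          have h1 : g⁻¹ * z = z * g⁻¹ := h.Ez g⁻¹ (E.inv_mem hg)
          calc g * (b * z) * g⁻¹ = g * b * (z * g⁻¹) := by group
            _ = g * b * (g⁻¹ * z) := by rw [h1]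
            _ = g * b * g⁻¹ * z := by group
      have e3 : ∀ y ∈ R, s * y * s⁻¹ = y ∨ s * y * s⁻¹ = y * z := by
        intro y hy
        rcases h.com s hs y hy with h1 | h1
        · left; rw [h1, mul_inv_cancel_right]
        · right; rw [h1, ← mul_assoc, mul_inv_cancel_right, hRz y hy]
      rw [e1]
      rcases e2 with e2 | e2 <;> rw [e2]
      · exact e3 _ hgb
      · have h1 : s * (g * b * g⁻¹ * z) * s⁻¹ = (s * (g * b * g⁻¹) * s⁻¹) * z := by
          have h2 : z * s⁻¹ = s⁻¹ * z := (hRz s⁻¹ (R.inv_mem hs)).symm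
          calc s * (g * b * g⁻¹ * z) * s⁻¹ = s * (g * b * g⁻¹) * (z * s⁻¹) := by group
            _ = s * (g * b * g⁻¹) * (s⁻¹ * z) := by rw [h2]
            _ = _ := by group
        rw [h1]
        rcases e3 _ hgb with h2 | h2 <;> rw [h2]
        · exact Or.inr rfl
        · left
          rw [mul_assoc (g * b * g⁻¹), h.zz, mul_one]) with h1 | h1
  · exact h1 r ((hB r).2 ⟨hr, Or.inl hf⟩)
  · exfalso
    have hcen : ∀ s ∈ R, t * s = s * t := by
      intro s hs
      rw [← h1, hB] at hs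
      rcases hs.2 with h2 | h2
      · exact mul_inv_eq_iff_eq_mul.1 h2
      · exfalso
        have h3 : t * s = s * z * t := mul_inv_eq_iff_eq_mul.1 h2
        have h4 : t * t * t * s = s * z * (t * t * t) := by
          calc t * t * t * s = t * t * (t * s) := by group
            _ = t * t * (s * z * t) := by rw [h3]
            _ = t * (t * s) * z * t := by group
            _ = t * (s * z * t) * z * t := by rw [h3]
            _ = (t * s) * z * (t * z) * t := by group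
            _ = (s * z * t) * z * (z * t) * t := by rw [h3, htz]
            _ = s * z * t * (z * z) * t * t := by group
            _ = s * z * (t * t * t) := by rw [h.zz]; group
        rw [ht3, one_mul, mul_one] at h4
        have h5 : s * 1 = s * z := by rw [mul_one]; exact h4
        exact h.z1 (mul_left_cancel h5).symm
    rcases h.cent t hcen with h2 | h2
    · exact ht1 h2
    · rw [h2, h.zz, one_mul] at ht3
      exact h.z1 ht3

/-- a subgroup of `E` centralising `E/R` has order not divisible by 27 -/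
theorem not27 [Finite F] (h : Frame K z R E Om) {N : Subgroup F} (hN : N ≤ E)
    (hc : ∀ n ∈ N, ∀ g ∈ E, n * g * n⁻¹ * g⁻¹ ∈ R) : ¬ 27 ∣ Nat.card N := by
  intro h27
  have : Fact (Nat.Prime 3) := ⟨Nat.prime_three⟩
  obtain ⟨T, hT⟩ := Sylow.exists_subgroup_card_pow_prime (G := N) 3 (n := 3) (by norm_num; exact h27)
  let Ω : Type _ := {r : F // r ∈ (R : Set F) \ {1, z}}
  have hmem : ∀ (t : T) (r : Ω), ((t : N) : F) * r.1 * ((t : N) : F)⁻¹ ∈ (R : Set F) \ {1, z} := by
    intro t r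
    have htE : ((t : N) : F) ∈ E := hN t.1.2
    have htz := h.Ez _ htE
    refine ⟨h.norm _ htz _ r.2.1, ?_⟩
    rintro (h1 | h1)
    · have h2 : r.1 = 1 := by
        rw [mul_inv_eq_one] at h1
        exact mul_left_cancel (a := ((t : N) : F)) (by rw [h1, mul_one])
      exact r.2.2 (Or.inl h2)
    · have h1' : ((t : N) : F) * r.1 * ((t : N) : F)⁻¹ = z := h1
      have h2 : ((t : N) : F) * r.1 = ((t : N) : F) * z := by
        rw [htz]; exact mul_inv_eq_iff_eq_mul.1 h1'
      exact r.2.2 (Or.inr (mul_left_cancel h2))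
  let _ : MulAction T Ω :=
    { smul := fun t r => ⟨_, hmem t r⟩
      one_smul := fun r => Subtype.ext (by
        show ((1 : N) : F) * r.1 * ((1 : N) : F)⁻¹ = r.1
        rw [Subgroup.coe_one, one_mul, inv_one, mul_one])
      mul_smul := fun a b r => Subtype.ext (by
        show (((a : N) * (b : N) : N) : F) * r.1 * (((a : N) * (b : N) : N) : F)⁻¹ =
          ((a : N) : F) * (((b : N) : F) * r.1 * ((b : N) : F)⁻¹) * ((a : N) : F)⁻¹
        rw [Subgroup.coe_mul]; group) }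
  have hsm : ∀ (t : T) (r : Ω), ((t • r : Ω) : F) = ((t : N) : F) * r.1 * ((t : N) : F)⁻¹ := fun _ _ => rfl
  have hfree : ∀ (t : T) (r : Ω), t • r = r → t = 1 := by
    intro t r htr
    by_contra ht
    have hord : orderOf t ∣ 3 ^ 3 := by rw [← hT]; exact orderOf_dvd_natCard t
    obtain ⟨k, _, hk⟩ := (Nat.dvd_prime_pow Nat.prime_three).1 hord
    have hk0 : k ≠ 0 := by
      rintro rfl
      rw [pow_zero, orderOf_eq_one_iff] at hk
      exact ht hk
    obtain ⟨j, rfl⟩ := Nat.exists_eq_succ_of_ne_zero hk0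
    set s : T := t ^ (3 ^ j) with hs
    have hs3 : s * s * s = 1 := by
      have h1 : s ^ 3 = 1 := by
        rw [hs, ← pow_mul, ← pow_succ, ← hk]
        exact pow_orderOf_eq_one t
      rw [pow_succ, pow_two] at h1
      exact h1
    have hs1 : s ≠ 1 := by
      intro h1
      have h2 := orderOf_dvd_of_pow_eq_one h1
      rw [hk] at h2
      have h3 := Nat.le_of_dvd (by positivity) h2
      exact absurd h3 (not_le_of_gt (Nat.pow_lt_pow_right (by norm_num) (Nat.lt_succ_self j)))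
    have hsr : s • r = r := by
      have h1 : ∀ n : ℕ, t ^ n • r = r := by
        intro n
        induction n with
        | zero => rw [pow_zero, one_smul]
        | succ n ih => rw [pow_succ, mul_smul, htr, ih]
      exact h1 _
    have h1 : ((s : N) : F) * r.1 * ((s : N) : F)⁻¹ = r.1 := by rw [← hsm, hsr]
    rcases free h (hN s.1.2) (t := ((s : N) : F)) (by
        have h2 := congrArg (fun x : T => ((x : N) : F)) hs3
        exact h2) (fun h2 => hs1 (Subtype.ext (Subtype.ext h2)))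
        (fun g hg => hc _ s.1.2 g hg) r.2.1 h1 with h2 | h2
    · exact r.2.2 (Or.inl h2)
    · exact r.2.2 (Or.inr h2)
  have hdvd := card_dvd_of_free hfree
  have hΩ : Nat.card Ω = 8190 := by
    have h1 : Nat.card Ω = ((R : Set F) \ {1, z}).ncard := Nat.card_coe_set_eq _
    have h2 : ({1, z} : Set F) ⊆ (R : Set F) := by
      rintro x (rfl | rfl)
      · exact R.one_mem
      · exact h.zR
    have h3 : ({1, z} : Set F).ncard = 2 := Set.ncard_pair h.z1.symm
    have h4 : (R : Set F).ncard = 8192 := by rw [← h.cardR]; rfl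
    rw [h1, Set.ncard_diff h2 (Set.toFinite _), h3, h4]
  rw [hT, hΩ] at hdvd
  norm_num at hdvd

/-- **a normal subgroup of `E` of index not divisible by `3^5` is `E`** -/
theorem E_le [Finite F] (h : Frame K z R E Om) (hE : 3 ^ 7 ∣ Nat.card E)
    (hd : ∀ N : Subgroup F, N ≤ E → R ≤ N → (∀ e ∈ E, ∀ n ∈ N, e * n * e⁻¹ ∈ N) →
      (∀ n ∈ N, ∀ g ∈ E, n * g * n⁻¹ * g⁻¹ ∈ R) ∨ N = E)
    {N : Subgroup F} (hN : N ≤ E) (hn : ∀ e ∈ E, ∀ n ∈ N, e * n * e⁻¹ ∈ N) (hi : ¬ 243 ∣ N.relIndex E) : N = E := by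
  have hRn : ∀ e ∈ E, ∀ r ∈ R, e * r * e⁻¹ ∈ R := fun e he r hr => h.norm e (h.Ez e he) r hr
  rcases hd (N ⊔ R) (sup_le hN h.RE) le_sup_right (by
      intro e he
      have h1 : N ⊔ R ≤ (N ⊔ R).comap (MulAut.conj e).toMonoidHom :=
        sup_le (fun n hn' => mem_sup_left (hn e he n hn')) (fun r hr => mem_sup_right (hRn e he r hr))
      exact fun n hn' => h1 hn') with h1 | h1
  · exfalso
    have h2 := not27 h (sup_le hN h.RE) h1
    apply hi
    have h3 : (N ⊔ R).relIndex E ∣ N.relIndex E := relIndex_dvd_of_le_left _ le_sup_left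
    refine dvd_trans ?_ h3
    have h4 : Nat.card (N ⊔ R : Subgroup F) * (N ⊔ R).relIndex E = Nat.card E := by
      have h5 := relIndex_mul_relIndex ⊥ (N ⊔ R) E bot_le (sup_le hN h.RE)
      rwa [relIndex_bot_left, relIndex_bot_left] at h5
    rw [← h4] at hE
    have hp : Fact (Nat.Prime 3) := ⟨Nat.prime_three⟩
    have ha : Nat.card (N ⊔ R : Subgroup F) ≠ 0 := Nat.card_pos.ne'
    have hb : (N ⊔ R).relIndex E ≠ 0 := by
      intro h5
      rw [h5, mul_zero] at h4
      exact Nat.card_pos.ne h4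
    rw [padicValNat_dvd_iff_le (mul_ne_zero ha hb), padicValNat.mul ha hb] at hE
    have h5 : ¬ 3 ≤ padicValNat 3 (Nat.card (N ⊔ R : Subgroup F)) := by
      rw [← padicValNat_dvd_iff_le ha]
      norm_num
      exact h2
    have h6 : 3 ^ 5 ∣ (N ⊔ R).relIndex E := by
      rw [padicValNat_dvd_iff_le hb]
      omega
    norm_num at h6
    exact h6
  · apply le_antisymm hN
    have hR2 : IsPGroup 2 R := by
      have : Fact (Nat.Prime 2) := ⟨Nat.prime_two⟩
      exact IsPGroup.iff_card.2 ⟨13, by rw [h.cardR]; norm_num⟩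
    have hsol : Group.IsSolvable R := by
      have : Fact (Nat.Prime 2) := ⟨Nat.prime_two⟩
      have h2 : Group.IsNilpotent R := hR2.isNilpotent
      infer_instance
    refine Cfsg.Agent.OddHalf.D7Out.Cz.le_of_perfect_of_le_sup h.perf hsol ?_ (by rw [sup_comm, h1])
    intro r hr
    rw [mem_normalizer_iff]
    intro x
    refine ⟨fun hx => hn r (h.RE hr) x hx, fun hx => ?_⟩
    have h2 := hn r⁻¹ (E.inv_mem (h.RE hr)) _ hx
    have e1 : r⁻¹ * (r * x * r⁻¹) * r⁻¹⁻¹ = x := by group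
    rwa [e1] at h2

/-- **`TrivC C P 6`** -/
theorem trivC {F : Type w} [Group F] [Finite F] {K : Subgroup F} {z : F} {R E : Subgroup F} {Om : Set F}
    (h : Frame K z R E Om) (hE : 3 ^ 7 ∣ Nat.card E)
    (hd : ∀ N : Subgroup F, N ≤ E → R ≤ N → (∀ e ∈ E, ∀ n ∈ N, e * n * e⁻¹ ∈ N) →
      (∀ n ∈ N, ∀ g ∈ E, n * g * n⁻¹ * g⁻¹ ∈ R) ∨ N = E) {C : Subgroup K} (hC : E.subgroupOf K ≤ C) :
    TrivC.{u, v, w} C (E.subgroupOf K) 6 := by
  refine trivC_of_index (m := 243) hC (fun V _ _ sq hV => not_dvd sq hV) fun N hN hn hi => ?_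
  have h1 := E_le h hE hd (N := N.map K.subtype) (by
      rintro _ ⟨x, hx, rfl⟩
      exact hN hx) (by
      rintro e he _ ⟨x, hx, rfl⟩
      exact ⟨(⟨e, h.EK he⟩ : K) * x * (⟨e, h.EK he⟩ : K)⁻¹, hn _ he _ hx, rfl⟩) (by
      have h2 : (N.map K.subtype).relIndex E = N.relIndex (E.subgroupOf K) := by
        have h3 : (E.subgroupOf K).map K.subtype = E := by
          rw [subgroupOf_map_subtype, inf_of_le_left h.EK]
        conv_lhs => rw [← h3]
        exact relIndex_map_map_of_injective _ _ K.subtype_injective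
      rw [h2]; exact hi)
  apply le_antisymm hN
  intro x hx
  have h2 : (x : F) ∈ N.map K.subtype := by rw [h1]; exact hx
  obtain ⟨y, hy, he⟩ := h2
  have h3 : y = x := Subtype.ext he
  rwa [← h3]

end abs

end Cfsg.Agent.Omega.ML.ExFi24

end

section


/-!
# (ML), the K-list end: THEOREM EX (helper987)

* `Dat H M G E Q n` : the situation in `H`;  `Dat.false` : **THEOREM EX**: no strict subgroup `A ≤ Q` with `|A| > 2`;
* `lift2` : the 2-part of the preimage of a 2-group under a cover with central kernel of odd order;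
* `false_of_rec` : the record `Rec` (in a central quotient of `H`) excludes the strict group `A`;
* `dead_of_rec`, `dead_of_sheet` : the rows.
-/

set_option autoImplicit false

namespace Cfsg.Agent.Omega.ML.ExRow

open Subgroup Cfsg Cfsg.Agent.ClassTwoFusion.Quad Cfsg.Agent.Omega.NOThree.NoOver Cfsg.Agent.Omega.ML.CD
open Cfsg.Agent.ZN (o2)
open Cfsg.Agent.Omega.ML.Rows Cfsg.Agent.Omega.ML.ExCore Cfsg.Agent.Omega.ML.ExRec
open Cfsg.Agent.MinSimple.VModule (o2_isPGroup o2_le le_o2 le_normalizer_o2)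

universe u v w

/-- The situation in `H`. -/
structure Dat (H : Type u) [Group H] (G E Q : Subgroup H) (n : ℕ) : Prop where
  QG : Q ≤ G
  EG : E ≤ G
  nQ : ∀ g ∈ G, ∀ q ∈ Q, g * q * g⁻¹ ∈ Q
  card : Nat.card Q = 2 ^ (2 * n + 1)
  nab : ∃ a ∈ Q, ∃ b ∈ Q, a * b ≠ b * a
  irr : ∀ D : Subgroup H, D ≤ Q → (∀ l ∈ E, ∀ x ∈ D, l * x * l⁻¹ ∈ D) → Nat.card D ≤ 2 ∨ D = Q
  triv : TrivOn.{u, v} G (E.subgroupOf G) (2 ^ n)

section

variable {H : Type u} [Group H] [Finite H] {M : Type v} [Group M] [Finite M] [MulDistribMulAction H M]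
  {G E Q A : Subgroup H} {n : ℕ}

omit [Finite H] in
theorem Dat.two (D : Dat.{u, v} H G E Q n) : IsPGroup 2 Q := IsPGroup.of_card D.card

omit [Finite H] in
/-- subgroups of order at most 2 have index at least `2 ^ (2n)` -/
theorem Dat.le_relIndex (D : Dat.{u, v} H G E Q n) {B : Subgroup H} (hB : B ≤ Q) (h2 : Nat.card B ≤ 2) :
    2 ^ (2 * n) ≤ B.relIndex Q := by
  have h1 : Nat.card B * B.relIndex Q = Nat.card Q := by
    rw [← relIndex_bot_left, ← relIndex_bot_left Q]
    exact relIndex_mul_relIndex _ _ _ bot_le hB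
  rw [D.card, pow_succ] at h1
  by_contra hc
  rw [not_le] at hc
  have h3 : Nat.card B * B.relIndex Q < 2 * 2 ^ (2 * n) := by
    calc Nat.card B * B.relIndex Q ≤ 2 * B.relIndex Q := Nat.mul_le_mul_right _ h2
      _ < 2 * 2 ^ (2 * n) := by omega
  omega

/-- **THEOREM EX** -/
theorem Dat.false (D : Dat.{u, v} H G E Q n) (sq : ∀ m : M, m * m = 1) (faith : ∀ h : H, (∀ m : M, h • m = m) → h = 1)
    (hAQ : A ≤ Q) (hs : Strict (fab M 1 1) A) (h2 : 2 < Nat.card A) : False := by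
  have hf := ls_fab (H := H) M 1 1
  have hcomm := ExCore.comm_of_sq (N := M) sq
  -- `Q` is strict
  have hlo : lo (fab M 1 1) Q = Q := by
    have h3 : A ≤ lo (fab M 1 1) Q := hs.le_lo hf hAQ
    have h4 : G ≤ normalizer (Q : Set H) := by
      intro g hg
      rw [mem_normalizer_iff]
      intro x
      refine ⟨fun hx => D.nQ g hg x hx, fun hx => ?_⟩
      have h5 := D.nQ g⁻¹ (G.inv_mem hg) _ hx
      have h6 : g⁻¹ * (g * x * g⁻¹) * g⁻¹⁻¹ = x := by group
      rwa [h6] at h5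
    have h5 := h4.trans (hf.normalizer_le_lo Q)
    refine (D.irr _ (hf.lo_le_self Q) fun l hl x hx => ?_).resolve_left fun h6 => ?_
    · exact (mem_normalizer_iff.1 (h5 (D.EG hl)) x).1 hx
    · have h7 := card_le_of_le h3
      omega
  have hQs : Strict (fab M 1 1) Q := by
    have := hf.strict_lo Q
    rwa [hlo] at this
  have hQne : Q ≠ ⊥ := by
    rintro rfl
    obtain ⟨a, ha, b, hb, hab⟩ := D.nab
    rw [mem_bot.1 ha, mem_bot.1 hb] at hab
    exact hab rfl
  obtain ⟨F, hF⟩ : ∃ F : Subgroup M, F = cv M (Q : Set H) := ⟨_, rfl⟩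
  have hmF : ∀ {m : M}, m ∈ F ↔ ∀ q ∈ Q, q • m = m := by
    intro m
    rw [hF]
    exact Iff.rfl
  have hidx : F.index < 2 ^ (2 * n + 1) := by
    have h1 := hQs ⊥ (bot_lt_iff_ne_bot.2 hQne)
    rwa [fab_lt_iff bot_le, pow_one, pow_one, relIndex_bot_left, cv_bot, relIndex_top_right, ← hF, D.card] at h1
  have hFn : F.Normal := normal_of_sq sq F
  have hMp : IsPGroup 2 (M ⧸ F) := by
    intro x
    obtain ⟨m, rfl⟩ := QuotientGroup.mk_surjective x
    refine ⟨1, ?_⟩
    rw [pow_one, pow_two]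
    exact congrArg (QuotientGroup.mk (s := F)) (sq m)
  have hidx' : Nat.card (M ⧸ F) ≤ 2 ^ (2 * n) := by
    obtain ⟨k, hk⟩ := (IsPGroup.iff_card (p := 2)).1 hMp
    have h1 : F.index = 2 ^ k := hk
    rw [h1] at hidx
    have h2 : k < 2 * n + 1 := (Nat.pow_lt_pow_iff_right (by norm_num)).1 hidx
    rw [hk]
    exact Nat.pow_le_pow_right (by norm_num) (by omega)
  -- `G` acts on `M / F`
  have hFG : ∀ (g : G), ∀ x ∈ F, g • x ∈ F := by
    intro g x hx
    rw [hmF] at hx ⊢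
    intro q hq
    have h1 := D.nQ _ (G.inv_mem g.2) q hq
    rw [inv_inv] at h1
    have h2 := hx _ h1
    change q • (g : H) • x = (g : H) • x
    rw [mul_smul, mul_smul, inv_smul_eq_iff] at h2
    exact h2
  let _ : MulDistribMulAction G (M ⧸ F) := quoA (L := G) F hFG
  have hQn : (Q.subgroupOf G).Normal := ⟨fun q hq g => D.nQ g g.2 q hq⟩
  have hcore := core (L := G) (N := M ⧸ F) (fun x => by
      obtain ⟨m, rfl⟩ := QuotientGroup.mk_surjective x
      exact congrArg (QuotientGroup.mk (s := F)) (sq m)) (Q := Q.subgroupOf G) (E := E.subgroupOf G) hQn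
    (D.two.comap_of_injective _ G.subtype_injective) hidx' (by
      intro B hB hBE
      have h1 : B.map G.subtype ≤ Q := by
        rintro _ ⟨b, hb, rfl⟩
        exact hB hb
      have h3 : Nat.card (B.map G.subtype) = Nat.card B := card_map_of_injective G.subtype_injective
      have h4 : B.relIndex (Q.subgroupOf G) = (B.map G.subtype).relIndex Q := by
        have h5 : (Q.subgroupOf G).map G.subtype = Q := by rw [subgroupOf_map_subtype, inf_eq_left.2 D.QG]
        rw [← relIndex_map_map_of_injective B (Q.subgroupOf G) G.subtype_injective, h5]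
      rcases D.irr _ h1 (by
        rintro l hl _ ⟨b, hb, rfl⟩
        exact ⟨⟨l, D.EG hl⟩ * b * ⟨l, D.EG hl⟩⁻¹, hBE ⟨l, D.EG hl⟩ hl b hb, rfl⟩) with h6 | h6
      · left
        rw [h4]
        exact D.le_relIndex h1 h6
      · right
        ext x
        rw [mem_subgroupOf, ← h6]
        constructor
        · intro hx
          exact ⟨x, hx, rfl⟩
        · rintro ⟨y, hy, hyx⟩
          rwa [← Subtype.ext hyx]) D.triv
  have hQF : ∀ q ∈ Q, ∀ m : M, q • m * m⁻¹ ∈ F := by
    intro q hq m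
    have h1 := hcore ⟨q, D.QG hq⟩ hq (QuotientGroup.mk m)
    have h2 : (QuotientGroup.mk (q • m) : M ⧸ F) = QuotientGroup.mk m := h1
    rw [eq_comm, QuotientGroup.eq] at h2
    rwa [hcomm] at h2
  obtain ⟨a, ha, b, hb, hab⟩ := D.nab
  apply hab
  have key : ∀ a ∈ Q, ∀ b ∈ Q, ∀ m : M, (a * b) • m = (b • m * m⁻¹) * ((a • m * m⁻¹) * m) := by
    intro a ha b hb m
    have h1 := hmF.1 (hQF b hb m) a ha
    have h3 : b • m = (b • m * m⁻¹) * m := by rw [inv_mul_cancel_right]
    rw [mul_smul]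
    conv_lhs => rw [h3, smul_mul', h1]
    rw [inv_mul_cancel_right]
  have h1 : (b * a)⁻¹ * (a * b) = 1 := by
    apply faith
    intro m
    rw [mul_smul, inv_smul_eq_iff, key a ha b hb, key b hb a ha, ← mul_assoc (b • m * m⁻¹),
      hcomm (b • m * m⁻¹) (a • m * m⁻¹), mul_assoc]
  exact (inv_mul_eq_one.1 h1).symm

end

/-! ### The 2-part of the preimage of a 2-group -/

section lift2

variable {G : Type*} [Group G] [Finite G]

/-- in a nilpotent subgroup the 2-elements lie in `O₂` -/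
theorem mem_o2_of_nilp {N : Subgroup G} (hN : Group.IsNilpotent N) {x : G} (hx : x ∈ N) {k : ℕ} (hk : x ^ 2 ^ k = 1) :
    x ∈ o2 N := by
  have : Fact (Nat.Prime 2) := ⟨Nat.prime_two⟩
  have h1 : IsPGroup 2 (zpowers (⟨x, hx⟩ : N)) := by
    intro y
    refine ⟨k, ?_⟩
    obtain ⟨y, hy⟩ := y
    obtain ⟨m, rfl⟩ := mem_zpowers_iff.1 hy
    apply Subtype.ext
    apply Subtype.ext
    change ((x ^ m) ^ 2 ^ k : G) = 1
    rw [← zpow_natCast, ← zpow_mul, mul_comm, zpow_mul, zpow_natCast, hk, one_zpow]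
  obtain ⟨P, hP⟩ := h1.exists_le_sylow
  have hPn : (P : Subgroup N).Normal := inferInstance
  have h2 : (P : Subgroup N).map N.subtype ≤ o2 N := by
    refine le_o2 (map_subtype_le _) (P.2.map _) ?_
    intro n hn
    rw [mem_normalizer_iff]
    intro y
    constructor
    · rintro ⟨z, hz, rfl⟩
      exact ⟨⟨n, hn⟩ * z * ⟨n, hn⟩⁻¹, hPn.conj_mem z hz _, rfl⟩
    · rintro ⟨z, hz, hzy⟩
      refine ⟨⟨n, hn⟩⁻¹ * z * ⟨n, hn⟩⁻¹⁻¹, hPn.conj_mem z hz _, ?_⟩
      change n⁻¹ * (z : G) * n⁻¹⁻¹ = y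
      have h3 : (z : G) = n * y * n⁻¹ := hzy
      rw [h3]
      group
  exact h2 ⟨⟨x, hx⟩, hP (mem_zpowers _), rfl⟩

omit [Finite G] in
theorem exists_pow_of_mem_o2 {N : Subgroup G} {x : G} (hx : x ∈ o2 N) : ∃ k : ℕ, x ^ 2 ^ k = 1 := by
  obtain ⟨k, hk⟩ := o2_isPGroup N ⟨x, hx⟩
  exact ⟨k, congrArg Subtype.val hk⟩

variable {X : Type*} [Group X] {f : G →* X}

omit [Finite G] in
theorem nilp_comap (hc : f.ker ≤ center G) {R : Subgroup X} (hR : IsPGroup 2 R) [Finite R] :
    Group.IsNilpotent (R.comap f) := by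
  have : Fact (Nat.Prime 2) := ⟨Nat.prime_two⟩
  have hRn := hR.isNilpotent
  refine Subgroup.isNilpotent_of_ker_le_center (f.subgroupComap R) ?_
  intro x hx
  have h1 : (x : G) ∈ f.ker := congrArg Subtype.val hx
  rw [mem_center_iff]
  intro y
  exact Subtype.ext (mem_center_iff.1 (hc h1) y)

/-- membership in the lift of `R` -/
theorem mem_lift2 (hc : f.ker ≤ center G) {R : Subgroup X} (hR : IsPGroup 2 R) [Finite R] {x : G} :
    x ∈ o2 (R.comap f) ↔ f x ∈ R ∧ ∃ k : ℕ, x ^ 2 ^ k = 1 :=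
  ⟨fun h => ⟨o2_le (R.comap f) h, exists_pow_of_mem_o2 h⟩, fun h => h.2.elim fun _ hk => mem_o2_of_nilp (nilp_comap hc hR) h.1 hk⟩

omit [Finite G] in
theorem eq_one_of_two (ho : Odd (Nat.card f.ker)) {x : G} (hx : f x = 1) {k : ℕ} (hk : x ^ 2 ^ k = 1) : x = 1 := by
  have h1 : orderOf x ∣ 2 ^ k := orderOf_dvd_of_pow_eq_one hk
  have h2 : orderOf x ∣ Nat.card f.ker := by
    have h3 := orderOf_dvd_natCard (⟨x, hx⟩ : f.ker)
    rwa [← Subgroup.orderOf_coe] at h3
  have h3 : Nat.Coprime (2 ^ k) (Nat.card f.ker) := (Nat.coprime_two_left.2 ho).pow_left k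
  exact orderOf_eq_one_iff.1 (Nat.eq_one_of_dvd_coprimes h3 h1 h2)

omit [Finite G] in
/-- `f` is injective on the lift -/
theorem lift2_inj (ho : Odd (Nat.card f.ker)) {N : Subgroup G} {x y : G} (hx : x ∈ o2 N) (hy : y ∈ o2 N)
    (h : f x = f y) : x = y := by
  obtain ⟨k, hk⟩ := exists_pow_of_mem_o2 (mul_mem hx (inv_mem hy))
  exact mul_inv_eq_one.1 (eq_one_of_two ho (by rw [map_mul, map_inv, h, mul_inv_cancel]) hk)

omit [Finite G] in
theorem card_map_lift2 (ho : Odd (Nat.card f.ker)) {N D : Subgroup G} (hD : D ≤ o2 N) :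
    Nat.card (D.map f) = Nat.card D := by
  have h1 : Function.Injective (f.comp D.subtype) := by
    intro x y hxy
    exact Subtype.ext (lift2_inj ho (hD x.2) (hD y.2) hxy)
  have h2 : D.map f = (f.comp D.subtype).range := by
    rw [MonoidHom.range_comp, range_subtype]
  rw [h2]
  exact (Nat.card_congr (MonoidHom.ofInjective h1).toEquiv).symm

/-- the lift maps onto `R` -/
theorem map_lift2 (hf : Function.Surjective f) (hc : f.ker ≤ center G) (ho : Odd (Nat.card f.ker)) {R : Subgroup X}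
    (hR : IsPGroup 2 R) [Finite R] : (o2 (R.comap f)).map f = R := by
  refine le_antisymm ?_ ?_
  · rintro _ ⟨x, hx, rfl⟩
    exact o2_le (R.comap f) hx
  · intro r hr
    obtain ⟨k, hk⟩ := hR ⟨r, hr⟩
    have hk' : r ^ 2 ^ k = 1 := congrArg Subtype.val hk
    obtain ⟨x, hx, hx1⟩ := Cfsg.Agent.Omega.Lie.Heis.exists_lift hf hc
      ((Nat.coprime_two_left.2 ho).pow_left k : Nat.Coprime (2 ^ k) (Nat.card f.ker)) hk'
    refine ⟨x, (mem_lift2 hc hR).2 ⟨?_, k, hx1⟩, hx⟩
    rw [hx]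
    exact hr

theorem card_lift2 (hf : Function.Surjective f) (hc : f.ker ≤ center G) (ho : Odd (Nat.card f.ker)) {R : Subgroup X}
    (hR : IsPGroup 2 R) [Finite R] : Nat.card (o2 (R.comap f)) = Nat.card R := by
  rw [← card_map_lift2 ho le_rfl, map_lift2 hf hc ho hR]

/-- the lift is normalised by the preimage of `N_X(R)` -/
theorem conj_lift2 (hc : f.ker ≤ center G) {R : Subgroup X} (hR : IsPGroup 2 R) [Finite R] {g x : G}
    (hg : ∀ r ∈ R, f g * r * (f g)⁻¹ ∈ R) (hx : x ∈ o2 (R.comap f)) : g * x * g⁻¹ ∈ o2 (R.comap f) := by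
  rw [mem_lift2 hc hR] at hx ⊢
  obtain ⟨h1, k, hk⟩ := hx
  refine ⟨?_, k, ?_⟩
  · rw [map_mul, map_mul, map_inv]
    exact hg _ h1
  · rw [conj_pow, hk, mul_one, mul_inv_cancel]

end lift2

/-! ### From the record to the situation -/

section record

variable {H : Type u} [Group H] [Finite H] {X : Type w} [Group X] {π : H →* X} {C P R : Subgroup X} {n : ℕ}

/-- the lift of `P` -/
def ee (π : H →* X) (C P : Subgroup X) : Subgroup H :=
  (⁅(P.subgroupOf C).comap (π.subgroupComap C), (P.subgroupOf C).comap (π.subgroupComap C)⁆).map (C.comap π).subtype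

omit [Finite H] in
theorem map_ee (hf : Function.Surjective π) (hPC : P ≤ C) (hP : ⁅P, P⁆ = P) : (ee π C P).map π = P := by
  have h1 : π.comp (C.comap π).subtype = C.subtype.comp (π.subgroupComap C) := rfl
  have h2 : Function.Surjective (π.subgroupComap C) := MonoidHom.subgroupComap_surjective_of_surjective π C hf
  rw [ee, map_map, h1, ← map_map, map_commutator, map_comap_eq_self_of_surjective h2, map_commutator,
    subgroupOf_map_subtype, inf_eq_left.2 hPC, hP]

/-- the situation in `H` -/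
theorem dat_of_rec (hf : Function.Surjective π) (hc : π.ker ≤ center H) (ho : Odd (Nat.card π.ker))
    (h : Rec.{u, v, w} C P R n) : Dat.{u, v} H (C.comap π) (ee π C P) (o2 (R.comap π)) n := by
  have hR : IsPGroup 2 R := IsPGroup.of_card h.card
  have hX : Finite X := Finite.of_surjective π hf
  have h2 : Function.Surjective (π.subgroupComap C) := MonoidHom.subgroupComap_surjective_of_surjective π C hf
  refine ⟨?_, map_subtype_le _, ?_, ?_, ?_, ?_, ?_⟩
  · intro x hx
    exact h.RC (o2_le (R.comap π) hx)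
  · intro g hg q hq
    exact conj_lift2 hc hR (fun r hr => h.nR _ hg r hr) hq
  · rw [card_lift2 hf hc ho hR, h.card]
  · obtain ⟨a, ha, b, hb, hab⟩ := h.nab
    rw [← map_lift2 hf hc ho hR] at ha hb
    obtain ⟨a', ha', rfl⟩ := ha
    obtain ⟨b', hb', rfl⟩ := hb
    refine ⟨a', ha', b', hb', fun h1 => hab ?_⟩
    rw [← map_mul, h1, map_mul]
  · intro D hD hE
    have h3 : D.map π ≤ R := by
      rw [← map_lift2 hf hc ho hR]
      exact Subgroup.map_mono hD
    rcases h.irr _ h3 (by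
      rintro x hx _ ⟨d, hd, rfl⟩
      rw [← map_ee hf h.PC h.perf] at hx
      obtain ⟨l, hl, rfl⟩ := hx
      exact ⟨_, hE l hl d hd, by rw [map_mul, map_mul, map_inv]⟩) with h4 | h4
    · left
      rwa [card_map_lift2 ho hD] at h4
    · right
      refine eq_of_le_of_card_ge hD ?_
      rw [card_lift2 hf hc ho hR, ← h4, card_map_lift2 ho hD]
  · have h3 : (ee π C P).subgroupOf (C.comap π) =
        ⁅(P.subgroupOf C).comap (π.subgroupComap C), (P.subgroupOf C).comap (π.subgroupComap C)⁆ :=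
      comap_map_eq_self_of_injective (C.comap π).subtype_injective _
    rw [h3]
    refine h.triv _ _ h2 ?_ ?_
    · intro x hx
      have h4 : (x : H) ∈ π.ker := congrArg Subtype.val hx
      rw [mem_center_iff]
      intro y
      exact Subtype.ext (mem_center_iff.1 (hc h4) y)
    · have h4 : ((π.subgroupComap C).ker).map (C.comap π).subtype ≤ π.ker := by
        rintro _ ⟨x, hx, rfl⟩
        exact congrArg Subtype.val hx
      have h5 := card_dvd_of_le h4
      rw [card_map_of_injective (C.comap π).subtype_injective] at h5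
      exact Odd.of_dvd_nat ho h5

/-- **the record excludes the strict group** -/
theorem false_of_rec {M : Type v} [Group M] [Finite M] [MulDistribMulAction H M] {A : Subgroup H}
    (sq : ∀ m : M, m * m = 1) (faith : ∀ h : H, (∀ m : M, h • m = m) → h = 1) (hs : Strict (fab M 1 1) A)
    (el : ∀ a ∈ A, a * a = 1) (hA2 : 2 < Nat.card A) (hf : Function.Surjective π) (hc : π.ker ≤ center H)
    (ho : Odd (Nat.card π.ker)) (h : Rec.{u, v, w} C P R n) {g : X} (hg : ∀ a ∈ A, g * π a * g⁻¹ ∈ R) : False := by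
  have hR : IsPGroup 2 R := IsPGroup.of_card h.card
  have hX : Finite X := Finite.of_surjective π hf
  obtain ⟨g, rfl⟩ := hf g
  refine (dat_of_rec hf hc ho h).false (A := cj g A) sq faith ?_ (hs.cj (ls_fab (H := H) M 1 1) g) ?_
  · rintro _ ⟨a, ha, rfl⟩
    rw [mem_lift2 hc hR]
    refine ⟨?_, 1, ?_⟩
    · change π (g * a * g⁻¹) ∈ R
      rw [map_mul, map_mul, map_inv]
      exact hg a ha
    · change (g * a * g⁻¹) ^ 2 ^ 1 = 1
      rw [pow_one, pow_two]
      have h1 : g * a * g⁻¹ * (g * a * g⁻¹) = g * (a * a) * g⁻¹ := by group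
      rw [h1, el a ha, mul_one, mul_inv_cancel]
  · rw [cj, card_map_of_injective (MulAut.conj g).injective]
    exact hA2

end record

section rows

open Cfsg.Agent.OddHalf.D8.Sheet Cfsg.Agent.OddHalf.D8.JTwo.Sheet

/-- the record from helper915's sheet -/
theorem _root_.Cfsg.Agent.Omega.ML.ExRec.Rec.of_sheet {S : Type w} [Group S] {z : S} {P R : Subgroup S} {n : ℕ}
    (h : SheetX z P R) (hcard : Nat.card R = 2 ^ (2 * n + 1)) (ht : TrivC.{u, v, w} (centralizer ({z} : Set S)) P n) :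
    Rec.{u, v, w} (centralizer ({z} : Set S)) P R n where
  PC := fun x hx => mem_centralizer_singleton_iff.2 (h.cen x hx)
  RC := fun x hx => mem_centralizer_singleton_iff.2 (h.cen x (h.RP hx))
  nR := by
    intro c hc r hr
    have hcz : c * z = z * c := mem_centralizer_singleton_iff.1 hc
    -- `c` normalises `P` and so `R`
    have hα : (MulAut.conj c) z = z := by rw [MulAut.conj_apply, hcz, mul_inv_cancel_right]
    have hP : ∀ x ∈ P, c * x * c⁻¹ ∈ P := fun x hx => map_P h.perf h.cen h.der (MulAut.conj c) hα hx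
    have hα' : (MulAut.conj c⁻¹) z = z := by
      rw [MulAut.conj_apply, inv_inv, mul_assoc, ← hcz, ← mul_assoc, inv_mul_cancel, one_mul]
    have hP' : ∀ x ∈ P, c⁻¹ * x * c ∈ P := fun x hx => by
      have h1 := map_P h.perf h.cen h.der (MulAut.conj c⁻¹) hα' hx
      rwa [MulAut.conj_apply, inv_inv] at h1
    have h1 : R.map (MulAut.conj c).toMonoidHom ≤ R := by
      apply h.Rmax
      · rintro _ ⟨x, hx, rfl⟩
        exact hP x (h.RP hx)
      · exact h.R2.map _
      · rintro x hx _ ⟨b, hb, rfl⟩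
        refine ⟨c⁻¹ * x * c * b * (c⁻¹ * x * c)⁻¹, h.Rn _ (hP' x hx) b hb, ?_⟩
        change c * (c⁻¹ * x * c * b * (c⁻¹ * x * c)⁻¹) * c⁻¹ = x * (c * b * c⁻¹) * x⁻¹
        group
    exact h1 ⟨r, hr, rfl⟩
  card := hcard
  nab := h.Rna
  perf := h.perf
  irr := by
    intro B hB hP
    rcases h.Rmin B hB hP with h1 | h1
    · left
      have h2 : (B : Set S) ⊆ {1, z} := fun b hb => by
        rcases h1 b hb with h3 | h3
        · exact Or.inl h3
        · exact Or.inr h3
      have h3 := Set.ncard_le_ncard h2 (Set.toFinite _)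
      have h4 : ({1, z} : Set S).ncard ≤ 2 := (Set.ncard_insert_le _ _).trans (by rw [Set.ncard_singleton])
      exact h3.trans h4
    · exact Or.inr h1
  triv := ht

/-- **The row of a class of groups with a sheet of type (E).** -/
theorem dead_of_sheet {𝒮 : ∀ (S : Type u) [Group S], Prop} (h𝒮 : IsoClosed.{u} 𝒮)
    (hS : ∀ (S : Type u) [Group S] [Finite S], 𝒮 S → ∃ (z : S) (P R : Subgroup S) (n : ℕ), SheetX z P R ∧
      Nat.card R = 2 ^ (2 * n + 1) ∧ TrivC.{u, v, u} (centralizer ({z} : Set S)) P n) : Dead.{u, v} 𝒮 := by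
  intro H _ _ M _ _ _ K T A h hK
  have hZ := h.normalZ
  have has := h.as hZ
  obtain ⟨z, P, R, n, hsh, hcard, ht⟩ := hS _ (h𝒮 _ _ (equivZ hZ) hK)
  have htop := ShE.eq_top has hsh
  obtain ⟨g, hg⟩ := ShE.le_conj has hsh
  -- `H → S`
  have hmem : ∀ x : H, QuotientGroup.mk' (centralizer (K : Set H)) x ∈
      K.map (QuotientGroup.mk' (centralizer (K : Set H))) := fun x => by
    rw [htop]; exact mem_top _
  let π : H →* (K.map (QuotientGroup.mk' (centralizer (K : Set H))) : Subgroup _) :=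
    (QuotientGroup.mk' (centralizer (K : Set H))).codRestrict _ hmem
  have hker : π.ker = centralizer (K : Set H) := by
    ext x
    rw [MonoidHom.mem_ker]
    constructor
    · intro h1
      exact (QuotientGroup.eq_one_iff x).1 (congrArg Subtype.val h1)
    · intro h1
      exact Subtype.ext ((QuotientGroup.eq_one_iff x).2 h1)
  have hf : Function.Surjective π := by
    rintro ⟨y, hy⟩
    obtain ⟨x, rfl⟩ := QuotientGroup.mk_surjective y
    exact ⟨x, rfl⟩
  have hgm : g ∈ K.map (QuotientGroup.mk' (centralizer (K : Set H))) := by rw [htop]; exact mem_top g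
  refine false_of_rec (π := π) h.sq h.faith h.strict h.el (lt_of_lt_of_le (by norm_num) h.eight) hf ?_ ?_
    (Rec.of_sheet hsh hcard ht) (g := ⟨g, hgm⟩⁻¹) ?_
  · intro x hx
    rw [hker] at hx
    rw [mem_center_iff]
    intro y
    exact h.zen x hx y
  · rw [hker, h.card_centralizer]
    exact h.odd
  · intro a ha
    obtain ⟨r, hr, hr'⟩ := hg _ ⟨a, ha, rfl⟩
    have h1 : (⟨g, hgm⟩ : (K.map (QuotientGroup.mk' (centralizer (K : Set H))) : Subgroup _))⁻¹ * π a *
        (⟨g, hgm⟩⁻¹)⁻¹ = r := by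
      apply Subtype.ext
      rw [inv_inv]
      exact hr'.symm
    rw [h1]
    exact hr

end rows

end Cfsg.Agent.Omega.ML.ExRow

end

section


/-!
# (ML), the K-list end: the row `Fi24'` by THEOREM EX (helper39)

* `facts` : the sheet, `|R| = 2^13`, `TrivC` for all `S ≅ Fi24'`;
* `dead` : the row.
-/

set_option autoImplicit false

namespace Cfsg.Agent.Omega.ML.RowFi24

open Subgroup Cfsg Cfsg.Agent.Omega.ML.Rows Cfsg.Agent.Omega.ML.ExRec Cfsg.Agent.Omega.ML.ExFi24
open Cfsg.Agent.OddHalf Cfsg.Agent.OddHalf.D8.JTwo.Sheet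
open Cfsg.Agent.KFacts.FiTF Cfsg.Agent.KFacts.FiTF.Defs

universe u v

/-- normal subgroups of `E` containing `R` -/
theorem dich (N : Subgroup Spor.Fi24) (hN : N ≤ E) (hR : R ≤ N) (hn : ∀ e ∈ E, ∀ n ∈ N, e * n * e⁻¹ ∈ N) :
    (∀ n ∈ N, QuasiA.Fixes n) ∨ N = E := by
  have : Finite Spor.Fi24 := Cfsg.Agent.R08.FiTwentyFour.finite_Fi24
  exact (QuasiBInst.hyp FixZ.tran FixZ.ncard_Dz Order.card (Cent.cent FixZ.tran) (PerfE.perf FixZ.tran)
    (fun M h1 h2 h3 => QuasiA.dichW h2 h3 FixZ.tran SubOrb.quasi1 SubOrb.quasi2 h1)).dich_E hN hR hn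

theorem three_dvd : 3 ^ 7 ∣ Nat.card E := by
  have : Finite Spor.Fi24 := Cfsg.Agent.R08.FiTwentyFour.finite_Fi24
  have h1 := Abs.card_CK frame
  have h2 := Abs.rel_mul frame
  rw [Order.card] at h1
  rcases Abs.relIndex_E frame Order.card SheetMFi.card_E with h3 | h3
  · rw [h3] at h2
    exact ⟨73400320, by norm_num; omega⟩
  · rw [h3] at h2
    exact ⟨36700160, by norm_num; omega⟩

/-- `TrivC` in `Fi24'` -/
theorem triv : TrivC.{u, v, 0} (centralizer ({Abs.zK frame} : Set (commutator Spor.Fi24)))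
    (E.subgroupOf (commutator Spor.Fi24)) 6 := by
  have : Finite Spor.Fi24 := Cfsg.Agent.R08.FiTwentyFour.finite_Fi24
  refine trivC frame three_dvd (fun N h1 h2 h3 => ?_) (Abs.E_le_CK frame)
  exact (dich N h1 h2 h3).imp (fun h4 n hn e he => SheetMFi.fixes_R FixZ.tran (h4 n hn) e he) id

/-- **the facts of THEOREM EX for `Fi24'`** -/
theorem facts (S : Type u) [Group S] (e : Spor.IsoFi24' S) :
    ∃ (z : S) (P R : Subgroup S) (n : ℕ), SheetX z P R ∧ Nat.card R = 2 ^ (2 * n + 1) ∧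
      TrivC.{u, v, u} (centralizer ({z} : Set S)) P n := by
  have : Finite Spor.Fi24 := Cfsg.Agent.R08.FiTwentyFour.finite_Fi24
  obtain ⟨e⟩ := e
  refine ⟨_, _, _, 6, of_sheetE (D8.SheetMap.sheetE_map e.symm sheetE), ?_, ?_⟩
  · have h1 := Abs.card_RK frame
    rw [← Nat.card_congr (equivMapOfInjective _ e.symm.toMonoidHom e.symm.injective).toEquiv]
    rw [h1]; norm_num
  · rw [D8.SheetMap.centralizer_map]
    exact TrivC.map e.symm triv

/-- **the row `Fi24'` (`Fi24`, `3.Fi24'`)** -/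
theorem dead : Dead.{u, v} (fun S _ => Spor.IsoFi24' S) :=
  ExRow.dead_of_sheet (fun _ _ _ _ e h => h.map fun f => e.symm.trans f) fun S _ _ h => facts S h

end Cfsg.Agent.Omega.ML.RowFi24

end

section


/-!
# (ML), the K-list end: `TrivC` from the lower bound `LB` (helper987)

* `trivC_of_lb` : `P ≤ C` perfect, `R` a normal 2-subgroup of `P`, `ρ : P → L` onto with kernel central modulo `R` and
  containing `R` with odd index: `LB L (n + 1)` implies `TrivC C P n`.
-/

set_option autoImplicit false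

namespace Cfsg.Agent.Omega.ML.ExTriv

open Subgroup Cfsg
open Cfsg.Agent.ZN (o2)
open Cfsg.Agent.Omega.ML.ExCore Cfsg.Agent.Omega.ML.ExRec Cfsg.Agent.Omega.ML.ExRow
open Cfsg.Agent.MinSimple.VModule (o2_isPGroup o2_le le_o2 le_normalizer_o2)

open scoped commutatorElement

universe u v w u'

/-- a perfect subgroup is perfect as a group -/
theorem commutator_coe_eq_top {G : Type*} [Group G] {E : Subgroup G} (h : ⁅E, E⁆ = E) :
    _root_.commutator E = ⊤ := by
  rw [eq_top_iff]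
  rintro ⟨x, hx⟩ -
  have h1 : (_root_.commutator E).map E.subtype = E := by
    rw [_root_.commutator_def, map_commutator, ← MonoidHom.range_eq_map, range_subtype, h]
  have h2 : x ∈ (_root_.commutator E).map E.subtype := by rw [h1]; exact hx
  obtain ⟨y, hy, hyx⟩ := h2
  have h3 : y = ⟨x, hx⟩ := Subtype.ext hyx
  rwa [← h3]

/-- Grün: an element of the second centre of a perfect group is central (modulo the normal subgroup `Q`). -/
theorem gruen {E : Type*} [Group E] (hE : _root_.commutator E = ⊤) {Q : Subgroup E} (hQ : Q.Normal) {x : E}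
    (h : ∀ y : E, ∃ z ∈ center E, x * y * x⁻¹ * y⁻¹ * z ∈ Q) (y : E) : x * y * x⁻¹ * y⁻¹ ∈ Q := by
  have hcen : ∀ y g : E, (QuotientGroup.mk (x * y * x⁻¹ * y⁻¹) : E ⧸ Q) * QuotientGroup.mk g =
      QuotientGroup.mk g * QuotientGroup.mk (x * y * x⁻¹ * y⁻¹) := by
    intro y g
    obtain ⟨z, hz, h1⟩ := h y
    have h2 : (QuotientGroup.mk (x * y * x⁻¹ * y⁻¹) : E ⧸ Q) = QuotientGroup.mk z⁻¹ := by
      rw [eq_comm, QuotientGroup.eq, inv_inv]
      have h3 := hQ.conj_mem _ h1 z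
      have h4 : z * (x * y * x⁻¹ * y⁻¹ * z) * z⁻¹ = z * (x * y * x⁻¹ * y⁻¹) := by group
      rwa [h4] at h3
    rw [h2, ← QuotientGroup.mk_mul, ← QuotientGroup.mk_mul, mem_center_iff.1 ((center E).inv_mem hz) g]
  let f : E →* E ⧸ Q :=
    { toFun := fun y => QuotientGroup.mk (x * y * x⁻¹ * y⁻¹)
      map_one' := by
        change (QuotientGroup.mk (x * 1 * x⁻¹ * 1⁻¹) : E ⧸ Q) = 1
        rw [mul_one, mul_inv_cancel, inv_one, mul_one, QuotientGroup.mk_one]
      map_mul' := fun a b => by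
        have h1 : x * (a * b) * x⁻¹ * (a * b)⁻¹ = (x * a * x⁻¹ * a⁻¹) * (a * (x * b * x⁻¹ * b⁻¹) * a⁻¹) := by group
        have h2 : (QuotientGroup.mk (a * (x * b * x⁻¹ * b⁻¹) * a⁻¹) : E ⧸ Q) = QuotientGroup.mk (x * b * x⁻¹ * b⁻¹) := by
          change (QuotientGroup.mk a : E ⧸ Q) * QuotientGroup.mk (x * b * x⁻¹ * b⁻¹) * (QuotientGroup.mk a)⁻¹ = _
          rw [← hcen b a, mul_inv_cancel_right]
        rw [h1, QuotientGroup.mk_mul, h2] }
  have hk : _root_.commutator E ≤ f.ker := by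
    rw [_root_.commutator_def, commutator_le]
    intro a _ b _
    rw [MonoidHom.mem_ker, map_commutatorElement, commutatorElement_eq_one_iff_mul_comm]
    obtain ⟨c, hc⟩ := QuotientGroup.mk_surjective (f b)
    rw [← hc]
    exact hcen a c
  have h1 : y ∈ f.ker := hk (hE ▸ mem_top y)
  exact (QuotientGroup.eq_one_iff _).1 h1

/-- **`TrivC` from `LB`** -/
theorem trivC_of_lb {X : Type w} [Group X] {C P R : Subgroup X} {n : ℕ} (hPC : P ≤ C) (hR2 : IsPGroup 2 R)
    [Finite R] (hRn : ∀ x ∈ P, ∀ r ∈ R, x * r * x⁻¹ ∈ R) (hP : ⁅P, P⁆ = P) {L : Type u'} [Group L] (ρ : P →* L)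
    (hρ : Function.Surjective ρ) (hρR : ∀ x : P, (x : X) ∈ R → ρ x = 1)
    (hcen : ∀ x : P, ρ x = 1 → ∀ y : P, (x * y * x⁻¹ * y⁻¹ : X) ∈ R)
    (hodd : Odd ((R.subgroupOf P).relIndex ρ.ker)) (hlb : Cfsg.Agent.Omega.Lie.Heis.LB.{u', u, v} L (n + 1)) :
    TrivC.{u, v, w} C P n := by
  intro G _ _ p hp hc ho V _ _ _ sq hV l hl x
  obtain ⟨Ph, hPh⟩ : ∃ Ph : Subgroup G, Ph = (P.subgroupOf C).comap p := ⟨_, rfl⟩
  rw [← hPh] at hl
  obtain ⟨E, hE⟩ : ∃ E : Subgroup G, E = ⁅Ph, Ph⁆ := ⟨_, rfl⟩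
  rw [← hE] at hl
  have hEP : E ≤ Ph := by rw [hE]; exact commutator_le_self Ph
  have hEp : E.map p = P.subgroupOf C := by
    have h1 : (E.map p).map C.subtype = P := by
      rw [hE, map_commutator, hPh, map_comap_eq_self_of_surjective hp, map_commutator, subgroupOf_map_subtype,
        inf_eq_left.2 hPC, hP]
    have h2 := congrArg (comap C.subtype) h1
    rwa [comap_map_eq_self_of_injective C.subtype_injective] at h2
  -- `E` is perfect
  have hEE : ⁅E, E⁆ = E := by
    refine le_antisymm (commutator_le_self E) ?_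
    conv_lhs => rw [hE]
    rw [commutator_le]
    have key : ∀ y ∈ Ph, ∃ e ∈ E, ∃ z ∈ center G, y = e * z := by
      intro y hy
      have h1 : p y ∈ E.map p := by
        rw [hEp]
        rw [hPh] at hy
        exact hy
      obtain ⟨e, he, hey⟩ := h1
      exact ⟨e, he, e⁻¹ * y, hc (by rw [MonoidHom.mem_ker, map_mul, map_inv, hey, inv_mul_cancel]), by group⟩
    intro a ha b hb
    obtain ⟨e, he, z, hz, rfl⟩ := key a ha
    obtain ⟨e', he', z', hz', rfl⟩ := key b hb
    have h1 : ⁅e * z, e' * z'⁆ = ⁅e, e'⁆ := by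
      have hz1 := mem_center_iff.1 hz
      have hz2 := mem_center_iff.1 hz'
      have hz3 := mem_center_iff.1 ((center G).inv_mem hz)
      have hz4 := mem_center_iff.1 ((center G).inv_mem hz')
      rw [commutatorElement_def, commutatorElement_def, mul_inv_rev, mul_inv_rev]
      calc e * z * (e' * z') * (z⁻¹ * e⁻¹) * (z'⁻¹ * e'⁻¹)
          = e * (z * (e' * z')) * (z⁻¹ * e⁻¹) * (z'⁻¹ * e'⁻¹) := by group
        _ = e * (e' * z' * z) * (z⁻¹ * e⁻¹) * (z'⁻¹ * e'⁻¹) := by rw [hz1 (e' * z')]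
        _ = e * e' * (z' * (e⁻¹ * z'⁻¹)) * e'⁻¹ := by group
        _ = e * e' * (e⁻¹ * z'⁻¹ * z') * e'⁻¹ := by rw [hz2 (e⁻¹ * z'⁻¹)]
        _ = _ := by group
    rw [h1]
    exact commutator_mem_commutator he he'
  have hEc := commutator_coe_eq_top hEE
  -- `E → P`
  let f : E →* P :=
    { toFun := fun e => ⟨(p e : X), by
        have h1 := hEP e.2
        rw [hPh] at h1
        exact h1⟩
      map_one' := Subtype.ext (by
        change ((p (1 : G) : C) : X) = 1
        rw [map_one]; rfl)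
      map_mul' := fun a b => Subtype.ext (by
        change ((p ((a : G) * b) : C) : X) = (p a : X) * (p b : X)
        rw [map_mul]; rfl) }
  have hfp : ∀ e : E, ((f e : P) : X) = (p e : X) := fun _ => rfl
  have hfk : ∀ {e : E}, f e = 1 → (e : G) ∈ p.ker := by
    intro e he
    have h1 : ((p e : C) : X) = 1 := congrArg Subtype.val he
    exact Subtype.ext h1
  have hf : Function.Surjective f := by
    rintro ⟨y, hy⟩
    have h1 : (⟨y, hPC hy⟩ : C) ∈ E.map p := by rw [hEp]; exact hy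
    obtain ⟨e, he, hey⟩ := h1
    exact ⟨⟨e, he⟩, Subtype.ext (show (p e : X) = y from congrArg Subtype.val hey)⟩
  have hfc : f.ker ≤ center E := by
    intro e he
    rw [mem_center_iff]
    intro y
    exact Subtype.ext (mem_center_iff.1 (hc (hfk he)) y)
  have hfo : Odd (Nat.card f.ker) := by
    have h4 : f.ker.map E.subtype ≤ p.ker := by
      rintro _ ⟨y, hy, rfl⟩
      exact hfk hy
    have h5 := card_dvd_of_le h4
    rw [card_map_of_injective E.subtype_injective] at h5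
    exact Odd.of_dvd_nat ho h5
  -- the lift of `R`
  have hR' : IsPGroup 2 (R.subgroupOf P) := hR2.comap_of_injective _ P.subtype_injective
  have hRf : Finite (R.subgroupOf P) := Finite.of_injective (fun x => (⟨((x : P) : X), x.2⟩ : R)) fun a b hab =>
    Subtype.ext (Subtype.ext (show ((a : P) : X) = ((b : P) : X) from congrArg (fun r : R => (r : X)) hab))
  obtain ⟨Q, hQ⟩ : ∃ Q : Subgroup E, Q = o2 ((R.subgroupOf P).comap f) := ⟨_, rfl⟩
  have hQR : ∀ q ∈ Q, f q ∈ R.subgroupOf P := fun q hq => by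
    rw [hQ] at hq
    exact o2_le ((R.subgroupOf P).comap f) hq
  have hQn : Q.Normal := ⟨fun q hq g => by
    rw [hQ] at hq ⊢
    exact conj_lift2 hfc hR' (fun r hr => hRn _ (f g).2 _ hr) hq⟩
  have hQm : Q.map f = R.subgroupOf P := by rw [hQ]; exact map_lift2 hf hfc hfo hR'
  have hQk : Q ≤ (ρ.comp f).ker := fun q hq => hρR _ (hQR q hq)
  have h1 := trivOn_of_lb (K := L) (L := E) hlb (Nat.lt_succ_self n) hEc hQn (by rw [hQ]; exact o2_isPGroup _) (ρ.comp f)
    (hρ.comp hf) hQk ?_ ?_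
  · exact h1 V sq hV ⟨l, hl⟩ (mem_top _) x
  · intro y hy e
    refine gruen hEc hQn (fun e => ?_) e
    have h2 : f (y * e * y⁻¹ * e⁻¹) ∈ Q.map f := by
      rw [hQm, map_mul, map_mul, map_mul, map_inv, map_inv]
      exact hcen (f y) hy (f e)
    obtain ⟨q, hq, hq'⟩ := h2
    refine ⟨(y * e * y⁻¹ * e⁻¹)⁻¹ * q, hfc ?_, ?_⟩
    · rw [MonoidHom.mem_ker, map_mul, map_inv, hq', inv_mul_cancel]
    · rwa [mul_inv_cancel_left]
  · have hQle : Q ≤ (R.subgroupOf P).comap f := hQR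
    have hle : (R.subgroupOf P).comap f ≤ (ρ.comp f).ker := fun e he => hρR _ he
    rw [← relIndex_mul_relIndex _ _ _ hQle hle]
    refine Odd.mul ?_ ?_
    · have hk : f.ker ≤ (R.subgroupOf P).comap f := fun e he => by
        rw [mem_comap, MonoidHom.mem_ker.1 he]; exact one_mem _
      have h2 : Nat.card f.ker * f.ker.relIndex ((R.subgroupOf P).comap f) = Nat.card ((R.subgroupOf P).comap f) := by
        rw [← relIndex_bot_left, ← relIndex_bot_left ((R.subgroupOf P).comap f)]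
        exact relIndex_mul_relIndex _ _ _ bot_le hk
      have h3 : Nat.card Q * Q.relIndex ((R.subgroupOf P).comap f) = Nat.card ((R.subgroupOf P).comap f) := by
        rw [← relIndex_bot_left, ← relIndex_bot_left ((R.subgroupOf P).comap f)]
        exact relIndex_mul_relIndex _ _ _ bot_le hQle
      have h4 : f.ker.relIndex ((R.subgroupOf P).comap f) = Nat.card Q := by
        rw [relIndex_ker, map_comap_eq_self_of_surjective hf, hQ, card_lift2 hf hfc hfo hR']
      rw [h4, ← h3, mul_comm] at h2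
      have h5 := Nat.eq_of_mul_eq_mul_left Nat.card_pos h2
      rw [← h5]
      exact hfo
    · have h2 : (ρ.comp f).ker = ρ.ker.comap f := by
        ext e
        rfl
      rw [h2, relIndex_comap, map_comap_eq_self_of_surjective hf]
      exact hodd

end Cfsg.Agent.Omega.ML.ExTriv

end
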