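import Mathlib.Tactic
import Cfsg.Agent.Mrg.Omega.TwoF.RowPsl
import Cfsg.Agent.Mrg.Omega.Lie.HeisF
import Cfsg.Agent.ClassicalGeometry.AutPSpCount
import Cfsg.Agent.LieClassical.SympCount
import Cfsg.Agent.S0814
import Cfsg.Agent.Mrg.Omega.ML.InOf
import Cfsg.Agent.Omega.KFacts

-- merged: Cfsg.Agent.Omega.ML.PspNum
section

/-!
# (ML), the K-list end, the row `PSp_2m(q)`, `q` odd: the arithmetic (helper532)
-/

set_option autoImplicit false

namespace Cfsg.Agent.Omega.ML.PspNum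

theorem cube_lt {q : ℕ} (hq : 5 ≤ q) : q ^ 3 < 2 ^ (q + 2) := by
  induction q, hq using Nat.le_induction with
  | base => norm_num
  | succ n hn ih =>
    have h1 : (n + 1) ^ 3 ≤ 2 * n ^ 3 := by nlinarith [Nat.mul_le_mul hn hn, Nat.mul_le_mul hn (Nat.mul_le_mul hn hn)]
    calc (n + 1) ^ 3 ≤ 2 * n ^ 3 := h1
      _ < 2 * 2 ^ (n + 2) := by omega
      _ = 2 ^ (n + 1 + 2) := by ring

theorem cube_lt' {q : ℕ} (hq : q = 3 ∨ 5 ≤ q) : q ^ 3 < 2 ^ (q + 2) := by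
  rcases hq with rfl | hq
  · norm_num
  · exact cube_lt hq

theorem four_le {q : ℕ} (hq : 11 ≤ q) : q ^ 4 ≤ 2 ^ (q + 3) := by
  induction q, hq using Nat.le_induction with
  | base => norm_num
  | succ n hn ih =>
    have h1 : (n + 1) ^ 4 ≤ 2 * n ^ 4 := by
      have h2 : (n + 1) * 11 ≤ 12 * n := by omega
      have h3 : ((n + 1) * 11) ^ 4 ≤ (12 * n) ^ 4 := Nat.pow_le_pow_left h2 4
      rw [mul_pow, mul_pow] at h3
      norm_num at h3
      omega
    calc (n + 1) ^ 4 ≤ 2 * n ^ 4 := h1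
      _ ≤ 2 * 2 ^ (n + 3) := by omega
      _ = 2 ^ (n + 1 + 3) := by ring

theorem four_le' {q : ℕ} (hq : 27 ≤ q) : q ^ 4 * 2 ^ 7 ≤ 2 ^ q := by
  induction q, hq using Nat.le_induction with
  | base => norm_num
  | succ n hn ih =>
    have h1 : (n + 1) ^ 4 ≤ 2 * n ^ 4 := by
      have h2 : (n + 1) * 11 ≤ 12 * n := by omega
      have h3 : ((n + 1) * 11) ^ 4 ≤ (12 * n) ^ 4 := Nat.pow_le_pow_left h2 4
      rw [mul_pow, mul_pow] at h3
      norm_num at h3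
      omega
    calc (n + 1) ^ 4 * 2 ^ 7 ≤ 2 * (n ^ 4 * 2 ^ 7) := by omega
      _ ≤ 2 * 2 ^ n := by omega
      _ = 2 ^ (n + 1) := by ring

/-- the left-hand side of the comparison of exponents, `m = k + 3` -/
def L (q k : ℕ) : ℕ := (q + 2) * ((k + 3) * (2 * k + 5) * (2 * k + 7)) + 3 * ((2 * k + 5) * (4 * k + 11))

theorem L_succ (q k : ℕ) : L q (k + 1) ≤ 3 * L q k := by
  unfold L
  have h1 : (k + 1 + 3) * (2 * (k + 1) + 7) ≤ 3 * ((k + 3) * (2 * k + 5)) := by nlinarith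
  have h2 : (2 * (k + 1) + 5) * (4 * (k + 1) + 11) ≤ 3 * ((2 * k + 5) * (4 * k + 11)) := by nlinarith
  have h3 := Nat.mul_le_mul_left ((q + 2) * (2 * k + 7)) h1
  calc (q + 2) * ((k + 1 + 3) * (2 * (k + 1) + 5) * (2 * (k + 1) + 7)) + 3 * ((2 * (k + 1) + 5) * (4 * (k + 1) + 11))
      = (q + 2) * (2 * k + 7) * ((k + 1 + 3) * (2 * (k + 1) + 7)) +
          3 * ((2 * (k + 1) + 5) * (4 * (k + 1) + 11)) := by ring
    _ ≤ (q + 2) * (2 * k + 7) * (3 * ((k + 3) * (2 * k + 5))) + 3 * (3 * ((2 * k + 5) * (4 * k + 11))) :=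
        Nat.add_le_add h3 (Nat.mul_le_mul_left 3 h2)
    _ = _ := by ring

theorem L_step {q k : ℕ} (hq : 3 ≤ q) (h : L q k ≤ 12 * (k + 3) * q ^ (k + 2)) :
    L q (k + 1) ≤ 12 * (k + 1 + 3) * q ^ (k + 1 + 2) := by
  refine (L_succ q k).trans ((Nat.mul_le_mul_left 3 h).trans ?_)
  have h1 : q ^ (k + 1 + 2) = q ^ (k + 2) * q := pow_succ q (k + 2)
  rw [h1]
  calc 3 * (12 * (k + 3) * q ^ (k + 2)) = 12 * (k + 3) * (q ^ (k + 2) * 3) := by ring
    _ ≤ 12 * (k + 1 + 3) * (q ^ (k + 2) * q) :=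
      Nat.mul_le_mul (by omega) (Nat.mul_le_mul_left _ hq)

theorem L_le {q k : ℕ} (h : 5 ≤ q ∨ (3 ≤ q ∧ 2 ≤ k)) : L q k ≤ 12 * (k + 3) * q ^ (k + 2) := by
  rcases h with h | ⟨h, hk⟩
  · induction k with
    | zero =>
      unfold L
      simp only [mul_zero, zero_add]
      nlinarith
    | succ k ih => exact L_step (by omega) ih
  · induction k, hk using Nat.le_induction with
    | base =>
      unfold L
      have h1 : 27 * q ≤ q ^ 4 := by
        have h2 : 3 ^ 3 * q ≤ q ^ 3 * q := Nat.mul_le_mul_right q (Nat.pow_le_pow_left h 3)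
        calc 27 * q = 3 ^ 3 * q := by norm_num
          _ ≤ q ^ 3 * q := h2
          _ = q ^ 4 := by ring
      norm_num
      omega
    | succ k hk ih => exact L_step h ih

/-- **`m ≥ 3`**: `a = b = 2m`, `n ≥ 2 q^(m-1)`, `|S| ≤ q^(m(2m+1))`. -/
theorem big {q k c n : ℕ} (hq : 5 ≤ q ∨ (q = 3 ∧ 2 ≤ k)) (hc : c ≤ q ^ ((k + 3) * (2 * k + 7)))
    (hn : 2 * q ^ (k + 2) ≤ n) :
    c ^ (2 * k + 6 - 1) * 2 ^ ((2 * k + 6 - 1) * (2 * k + 6 - 1 + (2 * k + 6))) < 2 ^ ((2 * k + 6) * n) := by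
  have h1 : q ^ 3 < 2 ^ (q + 2) := cube_lt' (by omega)
  have h2 := L_le (q := q) (k := k) (by omega)
  have h3 : 2 * k + 6 - 1 = 2 * k + 5 := by omega
  rw [h3]
  refine lt_of_lt_of_le ?_ (Nat.pow_le_pow_right (by norm_num) (Nat.mul_le_mul_left (2 * k + 6) hn))
  refine lt_of_pow_lt_pow_left₀ 3 (Nat.zero_le _) ?_
  have h4 : (c ^ (2 * k + 5)) ^ 3 ≤ (q ^ 3) ^ ((k + 3) * (2 * k + 5) * (2 * k + 7)) := by
    calc (c ^ (2 * k + 5)) ^ 3 ≤ ((q ^ ((k + 3) * (2 * k + 7))) ^ (2 * k + 5)) ^ 3 :=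
          Nat.pow_le_pow_left (Nat.pow_le_pow_left hc _) _
      _ = _ := by
        rw [← pow_mul, ← pow_mul, ← pow_mul]
        congr 1
        ring
  have h5 : (q ^ 3) ^ ((k + 3) * (2 * k + 5) * (2 * k + 7)) < (2 ^ (q + 2)) ^ ((k + 3) * (2 * k + 5) * (2 * k + 7)) :=
    Nat.pow_lt_pow_left h1 (by positivity)
  calc (c ^ (2 * k + 5) * 2 ^ ((2 * k + 5) * (2 * k + 5 + (2 * k + 6)))) ^ 3
      = (c ^ (2 * k + 5)) ^ 3 * (2 ^ ((2 * k + 5) * (2 * k + 5 + (2 * k + 6)))) ^ 3 := by rw [mul_pow]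
    _ < (2 ^ (q + 2)) ^ ((k + 3) * (2 * k + 5) * (2 * k + 7)) *
        (2 ^ ((2 * k + 5) * (2 * k + 5 + (2 * k + 6)))) ^ 3 :=
        Nat.mul_lt_mul_of_pos_right (lt_of_le_of_lt h4 h5) (by positivity)
    _ = 2 ^ L q k := by
        rw [← pow_mul, ← pow_mul, ← pow_add]
        congr 1
        unfold L
        ring
    _ ≤ 2 ^ (12 * (k + 3) * q ^ (k + 2)) := Nat.pow_le_pow_right (by norm_num) h2
    _ = (2 ^ ((2 * k + 6) * (2 * q ^ (k + 2)))) ^ 3 := by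
        rw [← pow_mul]
        congr 1
        ring

/-- **`m = 2`**: `a = b = 5`. -/
theorem two {q c n : ℕ} (hc : c ≤ q ^ 10) (hn : (11 ≤ q ∧ 4 * q ≤ n) ∨ (27 ≤ q ∧ 2 * q ≤ n)) :
    c ^ (5 - 1) * 2 ^ ((5 - 1) * (5 - 1 + 5)) < 2 ^ (5 * n) := by
  have h0 : c ^ (5 - 1) ≤ (q ^ 4) ^ 10 := by
    calc c ^ (5 - 1) ≤ (q ^ 10) ^ 4 := Nat.pow_le_pow_left hc 4
      _ = _ := by rw [← pow_mul, ← pow_mul]
  rcases hn with ⟨hq, hn⟩ | ⟨hq, hn⟩
  · calc c ^ (5 - 1) * 2 ^ ((5 - 1) * (5 - 1 + 5)) ≤ (2 ^ (q + 3)) ^ 10 * 2 ^ 36 :=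
        Nat.mul_le_mul (h0.trans (Nat.pow_le_pow_left (four_le hq) 10)) (le_of_eq (by norm_num))
      _ = 2 ^ ((q + 3) * 10 + 36) := by rw [← pow_mul, ← pow_add]
      _ < 2 ^ (5 * n) := Nat.pow_lt_pow_right (by norm_num) (by omega)
  · have h1 : (q ^ 4) ^ 10 * 2 ^ 70 ≤ 2 ^ (q * 10) := by
      calc (q ^ 4) ^ 10 * 2 ^ 70 = (q ^ 4 * 2 ^ 7) ^ 10 := by rw [mul_pow, ← pow_mul 2 7 10]
        _ ≤ (2 ^ q) ^ 10 := Nat.pow_le_pow_left (four_le' hq) 10
        _ = 2 ^ (q * 10) := by rw [← pow_mul]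
    calc c ^ (5 - 1) * 2 ^ ((5 - 1) * (5 - 1 + 5)) ≤ (q ^ 4) ^ 10 * 2 ^ 36 :=
        Nat.mul_le_mul h0 (le_of_eq (by norm_num))
      _ < (q ^ 4) ^ 10 * 2 ^ 70 := Nat.mul_lt_mul_of_pos_left (by norm_num) (by positivity)
      _ ≤ 2 ^ (q * 10) := h1
      _ ≤ 2 ^ (5 * n) := Nat.pow_le_pow_right (by norm_num) (by omega)

set_option exponentiation.threshold 400 in
/-- `PSp_8(3)`: `a = 7`, `b = 1`, `n = 54`. -/
theorem eight_three {c n : ℕ} (hc : 2 * c = 3 ^ 16 * (8 * 80 * 728 * 6560)) (hn : 54 ≤ n) :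
    c ^ (7 - 1) * 2 ^ ((7 - 1) * (7 - 1 + 1)) < 2 ^ (7 * n) := by
  obtain rfl : c = 3 ^ 16 * (4 * 80 * 728 * 6560) := by omega
  refine lt_of_lt_of_le ?_ (Nat.pow_le_pow_right (by norm_num) (Nat.mul_le_mul_left 7 hn))
  refine lt_of_lt_of_eq (b := 2 ^ 189 * 2 ^ 189) ?_ (pow_add 2 189 189).symm
  norm_num

/-- `PSp_4(5)`: `a = 4`, `b = 1`, `n = 20`. -/
theorem four_five {c n : ℕ} (hc : 2 * c = 5 ^ 4 * (24 * 624)) (hn : 20 ≤ n) :
    c ^ (4 - 1) * 2 ^ ((4 - 1) * (4 - 1 + 1)) < 2 ^ (4 * n) := by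
  obtain rfl : c = 5 ^ 4 * (12 * 624) := by omega
  refine lt_of_lt_of_le ?_ (Nat.pow_le_pow_right (by norm_num) (Nat.mul_le_mul_left 4 hn))
  norm_num

end Cfsg.Agent.Omega.ML.PspNum

end

-- merged: Cfsg.Agent.Mrg.Omega.ML.RowPsp
section

/-!
# (ML), the K-list end: the row `PSp_2m(q)`, `q` odd (helper532)

All `m ≥ 3` except `PSp_6(3)`, and `m = 2`, `q = 5` or `q ≥ 11`.  `LB` : `ord_p(2) q^(m-1)` (`TwoF.PspOdd`),
`RK` : `2m` (5 for `m = 2`) (`TwoF.RkPSp`); `PSp_8(3)` and `PSp_4(5)` with the exact order and `|Out| = 2`.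
-/

set_option autoImplicit false

namespace Cfsg.Agent.Omega.ML.RowPsp

open Cfsg Subgroup Cfsg.Agent.Omega.TwoF.RkLin Cfsg.Agent.Omega.TwoF.RkPSL Cfsg.Agent.Omega.TwoF.RkPSp
open Cfsg.Agent.Omega.TwoF

universe u v w

/-! ### orders -/

section card

variable {F : Type v} [Field F] [Fintype F] {m : ℕ}

theorem two_card (hq : Odd (Fintype.card F)) (hm : 1 ≤ m) :
    2 * Nat.card (PSp m F) =
      Fintype.card F ^ (m ^ 2) * ∏ i ∈ Finset.range m, (Fintype.card F ^ (2 * (i + 1)) - 1) := by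
  have h1 := Cfsg.Agent.ClassicalGeometry.AutPSpCount.card_sp (F := F) (m := m) hm
  rw [Cfsg.Agent.LieClassical.SympCount.card_symplecticGroup] at h1
  have h2 : Nat.gcd 2 (Fintype.card F - 1) = 2 := by
    obtain ⟨k, hk⟩ := hq
    rw [hk, Nat.add_sub_cancel]
    exact Nat.gcd_mul_right_right 2 k ▸ by simp
  rw [h2] at h1
  exact h1.symm

theorem prod_le (q m : ℕ) : ∏ i ∈ Finset.range m, (q ^ (2 * (i + 1)) - 1) ≤ q ^ (m * (m + 1)) := by
  induction m with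
  | zero => simp
  | succ m ih =>
    rw [Finset.prod_range_succ]
    calc _ ≤ q ^ (m * (m + 1)) * q ^ (2 * (m + 1)) := Nat.mul_le_mul ih (Nat.sub_le _ _)
      _ = q ^ ((m + 1) * (m + 1 + 1)) := by
        rw [← pow_add]
        congr 1
        ring

theorem card_le (hq : Odd (Fintype.card F)) (hm : 1 ≤ m) :
    Nat.card (PSp m F) ≤ Fintype.card F ^ (m * (2 * m + 1)) := by
  have h1 := two_card (F := F) hq hm
  have h2 : 2 * Nat.card (PSp m F) ≤ Fintype.card F ^ (m * (2 * m + 1)) := by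
    rw [h1]
    calc _ ≤ Fintype.card F ^ (m ^ 2) * Fintype.card F ^ (m * (m + 1)) :=
          Nat.mul_le_mul_left _ (prod_le _ _)
      _ = _ := by
        rw [← pow_add]
        congr 1
        ring
  omega

end card

/-! ### `ord_p(2)` -/

theorem four_le_ord {p : ℕ} [hp : Fact p.Prime] (h2 : p ≠ 2) (h3 : p ≠ 3) (h7 : p ≠ 7) :
    4 ≤ orderOf (2 : ZMod p) := by
  have h0 : (2 : ZMod p) ≠ 0 := by
    intro h0
    have h1 : ((2 : ℕ) : ZMod p) = 0 := by exact_mod_cast h0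
    rw [ZMod.natCast_eq_zero_iff] at h1
    exact h2 ((Nat.prime_dvd_prime_iff_eq hp.out Nat.prime_two).1 h1)
  have h4 : 0 < orderOf (2 : ZMod p) := by
    rw [orderOf_pos_iff, isOfFinOrder_iff_pow_eq_one]
    exact ⟨p - 1, by have := hp.out.two_le; omega, ZMod.pow_card_sub_one_eq_one h0⟩
  have key : ∀ k : ℕ, orderOf (2 : ZMod p) = k → p ∣ 2 ^ k - 1 := by
    intro k hk
    have h5 : (2 : ZMod p) ^ k = 1 := by rw [← hk]; exact pow_orderOf_eq_one _
    rw [← ZMod.natCast_eq_zero_iff, Nat.cast_sub Nat.one_le_two_pow]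
    push_cast
    rw [h5, sub_self]
  by_contra h6
  have h7' : orderOf (2 : ZMod p) = 1 ∨ orderOf (2 : ZMod p) = 2 ∨ orderOf (2 : ZMod p) = 3 := by omega
  rcases h7' with h | h | h
  · have := key 1 h
    norm_num at this
    exact hp.out.one_lt.ne' this
  · have := key 2 h
    norm_num at this
    exact h3 ((Nat.prime_dvd_prime_iff_eq hp.out Nat.prime_three).1 this)
  · have := key 3 h
    norm_num at this
    exact h7 ((Nat.prime_dvd_prime_iff_eq hp.out (by norm_num)).1 this)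

theorem two_le_ord {p : ℕ} [hp : Fact p.Prime] (h2 : p ≠ 2) : 2 ≤ orderOf (2 : ZMod p) := by
  have h0 : (2 : ZMod p) ≠ 0 := by
    intro h0
    have h1 : ((2 : ℕ) : ZMod p) = 0 := by exact_mod_cast h0
    rw [ZMod.natCast_eq_zero_iff] at h1
    exact h2 ((Nat.prime_dvd_prime_iff_eq hp.out Nat.prime_two).1 h1)
  have h4 : 0 < orderOf (2 : ZMod p) := by
    rw [orderOf_pos_iff, isOfFinOrder_iff_pow_eq_one]
    exact ⟨p - 1, by have := hp.out.two_le; omega, ZMod.pow_card_sub_one_eq_one h0⟩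
  have h5 : orderOf (2 : ZMod p) ≠ 1 := by
    intro h
    rw [orderOf_eq_one_iff] at h
    have h6 : (1 : ZMod p) = 0 := by
      have : (2 : ZMod p) = 1 + 1 := by norm_num
      rw [this] at h
      simp at h
    exact one_ne_zero h6
  omega

/-! ### automorphisms -/

theorem rk_of_aut {K : Type v} [Group K] {a : ℕ} (h : RkAut K a) : Rk.RK.{u} K a :=
  fun _ _ _ _ _ ⟨e⟩ hC A hA => h.of_normal e hC A hA

/-- no automorphisms of order 2 of a field of prime order -/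
theorem field_trivial {F : Type v} [Field F] [Fintype F] {p : ℕ} (hp : p.Prime) (h : Fintype.card F = p)
    (σ : F ≃+* F) : σ = 1 := by
  have : Fact p.Prime := ⟨hp⟩
  have hchar : CharP F p := by
    obtain ⟨r, hr⟩ := CharP.exists F
    obtain ⟨n, hrp, hn⟩ := FiniteField.card F r
    have h1 : r ∣ p := by
      rw [← h, hn]
      exact dvd_pow_self r n.pos.ne'
    have h2 : r = p := (Nat.prime_dvd_prime_iff_eq hrp hp).1 h1
    rwa [← h2]
  have hinj : Function.Injective (fun i : Fin p => ((i : ℕ) : F)) := by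
    intro i j hij
    exact Fin.ext (CharP.natCast_injOn_Iio F p i.2 j.2 hij)
  have hcard : Fintype.card (Fin p) = Fintype.card F := by rw [h, Fintype.card_fin]
  ext x
  obtain ⟨k, rfl⟩ := ((Fintype.bijective_iff_injective_and_card _).2 ⟨hinj, hcard⟩).2 x
  show σ ((k : ℕ) : F) = (k : ℕ)
  rw [map_natCast]

/-- `|X : N| ≤ 2` if `|Aut N| = 2 |N|`. -/
theorem index_le_two {K : Type v} [Group K] [Finite K] (h : Nat.card (MulAut K) = 2 * Nat.card K) {X : Type u}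
    [Group X] [Finite X] (N : Subgroup X) [N.Normal] (f : N ≃* K) (hc : centralizer (N : Set X) = ⊥) :
    N.index ≤ 2 := by
  have h1 := Rk.card_dvd N f hc
  rw [h, ← Nat.card_congr f.toEquiv, ← N.card_mul_index, mul_comm 2] at h1
  exact Nat.le_of_dvd two_pos (Nat.dvd_of_mul_dvd_mul_left Nat.card_pos h1)

/-! ### the criterion -/

open Cfsg.Agent.Omega.ML.Num Cfsg.Agent.Omega.Lie

theorem OutB.congr {S : Type v} [Group S] {S' : Type w} [Group S'] {b : ℕ} (h : OutB.{u} S b) (e : S ≃* S') :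
    OutB.{u} S' b :=
  fun X _ _ N _ hN hc A hA hX => h X N (hN.map fun f => f.trans e.symm) hc A hA hX

theorem numML_congr {K : Type u} [Group K] {S : Type w} [Group S] (e : K ≃* S) {n a b : ℕ}
    (h1 : Heis.LB.{w, u, v} S n) (h2 : Rk.RK.{u} S a) (h3 : OutB.{u} S b)
    (h4 : Nat.card S ^ (a - 1) * 2 ^ ((a - 1) * (a - 1 + b)) < 2 ^ (a * n)) : NumML.{u, v} K :=
  ⟨n, a, b, h1.congr e.symm, h2.of_equiv e.symm, OutB.congr h3 e.symm, by rwa [Nat.card_congr e.toEquiv]⟩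

section rows

variable {F : Type w} [Field F] [Fintype F] {p : ℕ} [Fact p.Prime] [CharP F p] {K : Type u} [Group K]

omit [Fintype F] in
theorem two_ne (hp2 : p ≠ 2) : (2 : F) ≠ 0 := by
  intro h
  have h3 : ((2 : ℕ) : F) = 0 := by exact_mod_cast h
  rw [CharP.cast_eq_zero_iff F p] at h3
  exact hp2 ((Nat.prime_dvd_prime_iff_eq Fact.out Nat.prime_two).1 h3)

omit [Fact p.Prime] in
theorem odd_card (hp2 : p ≠ 2) : Odd (Fintype.card F) := by
  obtain ⟨n, hp, hn⟩ := FiniteField.card F p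
  rw [hn]
  exact (hp.odd_of_ne_two hp2).pow

/-- **`m ≥ 3`**, `q ≥ 5` or `m ≥ 5`. -/
theorem big (hp2 : p ≠ 2) {m : ℕ} (hm : (3 ≤ m ∧ 5 ≤ Fintype.card F) ∨ (5 ≤ m ∧ Fintype.card F = 3))
    (e : K ≃* PSp m F) : NumML.{u, v} K := by
  obtain ⟨k, rfl⟩ : ∃ k, m = k + 3 := ⟨m - 3, by omega⟩
  have h2 : (2 : F) ≠ 0 := two_ne (p := p) hp2
  have h3 : rk (k + 3 + (k + 3)) + 1 = 2 * k + 6 := by
    rw [rk, if_neg (by omega)]
    omega
  have h4 : Rk.RK.{u} (PSp (k + 3) F) (2 * k + 6) := h3 ▸ rk_of_aut (rkAut h2 (by omega))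
  refine numML_congr e (PspOdd.lb.{w, u, v} (F := F) (p := p) hp2 (by omega)) h4 (OutB.of_rk h4) ?_
  refine PspNum.big (q := Fintype.card F) (k := k) (by omega) ?_ ?_
  · have h5 := card_le (F := F) (m := k + 3) (odd_card (p := p) hp2) (by omega)
    rwa [show 2 * (k + 3) + 1 = 2 * k + 7 by ring] at h5
  · rw [Nat.card_eq_fintype_card, show k + 3 - 1 = k + 2 from rfl]
    exact Nat.mul_le_mul_right _ (two_le_ord hp2)

/-- **`PSp_8(3)`** -/
theorem eight_three (hp2 : p ≠ 2) (hF : Fintype.card F = 3) (e : K ≃* PSp 4 F) : NumML.{u, v} K := by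
  have h2 : (2 : F) ≠ 0 := two_ne (p := p) hp2
  have h3 : rk (4 + 4) = 7 := by decide
  have h4 : Rk.RK.{u} (PSp 4 F) 7 :=
    h3 ▸ rk_of_aut (rkAut_odd h2 (by omega) fun σ _ => field_trivial Nat.prime_three hF σ)
  have h5 := two_card (F := F) (m := 4) (by rw [hF]; decide) (by omega)
  rw [hF] at h5
  have h6 : Nat.card (MulAut (PSp 4 F)) = 2 * Nat.card (PSp 4 F) := by
    have : Fact (Nat.Prime 3) := ⟨Nat.prime_three⟩
    have h7 := S0814.result (F := F) 3 1 le_rfl (by rw [hF]; rfl) 4 (by omega) (by omega)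
    rw [h7]
    norm_num
  refine numML_congr e (PspOdd.lb.{w, u, v} (F := F) (p := p) hp2 (by omega)) h4
    (b := 1) (fun X _ _ N _ ⟨f⟩ hc A _ _ => index_le_two h6 N f hc) ?_
  refine PspNum.eight_three ?_ ?_
  · rw [h5]
    norm_num [Finset.prod_range_succ]
  · rw [Nat.card_eq_fintype_card, hF]
    have := two_le_ord (p := p) hp2
    norm_num
    omega

/-- **`PSp_4(5)`** -/
theorem four_five (hp2 : p ≠ 2) (hF : Fintype.card F = 5) (e : K ≃* PSp 2 F) : NumML.{u, v} K := by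
  have hp5 : p = 5 := by
    obtain ⟨n, hp, hn⟩ := FiniteField.card F p
    rw [hF] at hn
    exact (Nat.prime_dvd_prime_iff_eq hp Nat.prime_five).1 (hn ▸ dvd_pow_self p n.pos.ne')
  have h2 : (2 : F) ≠ 0 := two_ne (p := p) hp2
  have h3 : rk (2 + 2) = 4 := by decide
  have h4 : Rk.RK.{u} (PSp 2 F) 4 :=
    h3 ▸ rk_of_aut (rkAut_odd h2 (by omega) fun σ _ => field_trivial Nat.prime_five hF σ)
  have h5 := two_card (F := F) (m := 2) (by rw [hF]; decide) (by omega)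
  rw [hF] at h5
  have h6 : Nat.card (MulAut (PSp 2 F)) = 2 * Nat.card (PSp 2 F) := by
    have : Fact (Nat.Prime 5) := ⟨Nat.prime_five⟩
    have h7 := S0814.result (F := F) 5 1 le_rfl (by rw [hF]; rfl) 2 (by omega) (by omega)
    rw [h7]
    norm_num
  refine numML_congr e (PspOdd.lb.{w, u, v} (F := F) (p := p) hp2 (by omega)) h4
    (b := 1) (fun X _ _ N _ ⟨f⟩ hc A _ _ => index_le_two h6 N f hc) ?_
  refine PspNum.four_five ?_ ?_
  · rw [h5]
    norm_num [Finset.prod_range_succ]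
  · rw [Nat.card_eq_fintype_card, hF]
    have := four_le_ord (p := p) hp2 (by omega) (by omega)
    norm_num
    omega

/-- **`m = 2`, `q ≥ 11`** -/
theorem four (hp2 : p ≠ 2) (hF : 11 ≤ Fintype.card F) (e : K ≃* PSp 2 F) : NumML.{u, v} K := by
  have h2 : (2 : F) ≠ 0 := two_ne (p := p) hp2
  have h3 : rk (2 + 2) + 1 = 5 := by decide
  have h4 : Rk.RK.{u} (PSp 2 F) 5 := h3 ▸ rk_of_aut (rkAut h2 (by omega))
  refine numML_congr e (PspOdd.lb.{w, u, v} (F := F) (p := p) hp2 (by omega)) h4 (OutB.of_rk h4) ?_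
  refine PspNum.two (q := Fintype.card F) ?_ ?_
  · exact card_le (F := F) (m := 2) (odd_card (p := p) hp2) (by omega)
  · rw [Nat.card_eq_fintype_card, show 2 - 1 = 1 from rfl, pow_one]
    by_cases h37 : p = 3 ∨ p = 7
    · right
      refine ⟨?_, Nat.mul_le_mul_right _ (two_le_ord hp2)⟩
      obtain ⟨n, hp, hn⟩ := FiniteField.card F p
      rw [hn] at hF ⊢
      rcases h37 with rfl | rfl
      · have : 3 ≤ (n : ℕ) := by
          by_contra hlt
          have h5 : 3 ^ (n : ℕ) ≤ 3 ^ 2 := Nat.pow_le_pow_right (by norm_num) (by omega)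
          omega
        exact (by norm_num : 27 ≤ 3 ^ 3).trans (Nat.pow_le_pow_right (by norm_num) this)
      · have : 2 ≤ (n : ℕ) := by
          by_contra hlt
          have h5 : 7 ^ (n : ℕ) ≤ 7 ^ 1 := Nat.pow_le_pow_right (by norm_num) (by omega)
          omega
        exact (by norm_num : 27 ≤ 7 ^ 2).trans (Nat.pow_le_pow_right (by norm_num) this)
    · push Not at h37
      left
      exact ⟨hF, Nat.mul_le_mul_right _ (four_le_ord hp2 h37.1 h37.2)⟩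

end rows

/-- The exceptions of the numerical criterion: `PSp_4(3)` (`= PSU_4(2)`), `PSp_4(7)`, `PSp_4(9)`, `PSp_6(3)`. -/
def Exc (K : Type u) [Group K] : Prop :=
  ∃ (F : Type) (_ : Field F) (_ : Fintype F),
    ((Fintype.card F = 3 ∨ Fintype.card F = 7 ∨ Fintype.card F = 9) ∧ Nonempty (K ≃* PSp 2 F)) ∨
      (Fintype.card F = 3 ∧ Nonempty (K ≃* PSp 3 F))

/-- **The row `PSp_2m(q)`, `q` odd.** -/
theorem row (K : Type u) [Group K] (h : KFacts.OddChar @IsPSpChar K) : NumML.{u, v} K ∨ Exc K := by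
  obtain ⟨p, hp, hp2, F, _, _, _, m, hm, -, ⟨e⟩⟩ := h
  have : Fact p.Prime := ⟨hp⟩
  have h3 : Odd (Fintype.card F) := odd_card (p := p) hp2
  have h4 : 1 < Fintype.card F := Fintype.one_lt_card
  rcases Nat.lt_or_ge m 3 with h5 | h5
  · obtain rfl : m = 2 := by omega
    rcases Nat.lt_or_ge (Fintype.card F) 11 with h6 | h6
    · obtain ⟨k, hk⟩ := h3
      have h7 : Fintype.card F = 3 ∨ Fintype.card F = 5 ∨ Fintype.card F = 7 ∨ Fintype.card F = 9 := by omega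
      rcases h7 with h7 | h7 | h7 | h7
      · exact Or.inr ⟨F, _, _, Or.inl ⟨Or.inl h7, ⟨e⟩⟩⟩
      · exact Or.inl (four_five (p := p) hp2 h7 e)
      · exact Or.inr ⟨F, _, _, Or.inl ⟨Or.inr (Or.inl h7), ⟨e⟩⟩⟩
      · exact Or.inr ⟨F, _, _, Or.inl ⟨Or.inr (Or.inr h7), ⟨e⟩⟩⟩
    · exact Or.inl (four (p := p) hp2 h6 e)
  · rcases Nat.lt_or_ge (Fintype.card F) 5 with h6 | h6
    · obtain ⟨k, hk⟩ := h3
      have h7 : Fintype.card F = 3 := by omega
      rcases Nat.lt_or_ge m 5 with h8 | h8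
      · obtain rfl | rfl : m = 3 ∨ m = 4 := by omega
        · exact Or.inr ⟨F, _, _, Or.inr ⟨h7, ⟨e⟩⟩⟩
        · exact Or.inl (eight_three (p := p) hp2 h7 e)
      · exact Or.inl (big (p := p) hp2 (Or.inr ⟨h8, h7⟩) e)
    · exact Or.inl (big (p := p) hp2 (Or.inl ⟨h5, h6⟩) e)

end Cfsg.Agent.Omega.ML.RowPsp

end
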