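import Cfsg.Agent.Mrg.Omega.ML.AltDead
import Cfsg.Agent.Mrg.Omega.ML.LocM24
import Cfsg.Agent.Mrg.Omega.ML.RowsList
import Cfsg.Agent.KFacts.Co3.Sheet
import Cfsg.Agent.Lib.ComponentSolvable
import Cfsg.Agent.OddHalf.NI3.K.Sp
import Cfsg.Agent.LieClassical.SympCount
import Cfsg.Agent.LieClassical.FieldTransfer
import Cfsg.Agent.Lib.FieldThree
import Cfsg.Agent.ClassicalGeometry.SympGamma
import Cfsg.Agent.ClassicalGeometry.SympAutExists
import Cfsg.Agent.ClassicalGeometry.SympAutRecog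
import Cfsg.Agent.S0814
import Cfsg.Agent.Mrg.Omega.TwoF.RowPSp
import Cfsg.Agent.S0269
import Cfsg.Agent.S0270

-- merged: Cfsg.Agent.Mrg.Omega.ML.RowCo3
section

/-!
# (ML), the K-list end: quasisimple centralisers, the row `Co3` (helper232)

* `o2_central` : `O₂(C)` is central if `C` is quasisimple;
* `card_le_of_quasi` : `S = X`, `z` 2-central, `Z(C_S(z)) = ⟨z⟩`, `C_S(z)` quasisimple: `|A| ≤ 2`;
* `deadG`, `deadZ` : the row `Co3` (`Out(Co3) = 1`, `C(z) = 2·Sp₆(2)`).
-/

set_option autoImplicit false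

namespace Cfsg.Agent.Omega.ML.RowCo3

open Subgroup Cfsg Cfsg.Agent.OddHalf.D8.Sheet Cfsg.Agent.Omega.ML.Rows
open Cfsg.Agent.ZN Cfsg.Agent.Omega.ML.LocRow
open Cfsg.Agent.MinSimple.VModule (o2_isPGroup o2_le le_o2 le_normalizer_o2)

universe u v

/-- `O₂` of a quasisimple subgroup is central. -/
theorem o2_central {X : Type*} [Group X] [Finite X] {C : Subgroup X} (hq : IsQuasisimple C) :
    ∀ x ∈ o2 C, ∀ y ∈ C, y * x = x * y := by
  have hp : Fact (Nat.Prime 2) := ⟨Nat.prime_two⟩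
  have h1 : (((o2 C).subgroupOf C)).Normal := by
    refine ⟨fun x hx g => ?_⟩
    exact (mem_normalizer_iff.1 (le_normalizer_o2 C g.2) x).1 hx
  have h2 : IsPGroup 2 ((o2 C).subgroupOf C) := (o2_isPGroup C).comap_subtype
  have h3 : Group.IsSolvable ((o2 C).subgroupOf C) :=
    have := h2.isNilpotent
    inferInstance
  intro x hx y hy
  have h4 : (⟨x, o2_le C hx⟩ : C) ∈ center C :=
    Cfsg.Agent.Lib.ComponentSolvable.quasisimple_solvable_normal_le_center hq h1 h3 hx
  exact congrArg Subtype.val (mem_center_iff.1 h4 ⟨y, hy⟩)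

/-- `S = X`, `z` 2-central, `C_S(z)` quasisimple with centre `⟨z⟩`. -/
theorem card_le_of_quasi {X : Type*} [Group X] [Finite X] {S T A : Subgroup X} (h : AS S T A) (hS : S = ⊤) {z : S}
    (hz1 : z ≠ 1)
    (hz : ∃ S₀ : Sylow 2 S, z ∈ S₀ ∧ (∀ x ∈ S₀, x * z = z * x) ∧ ∀ y ∈ S₀, (∀ x ∈ S₀, x * y = y * x) → y = 1 ∨ y = z)
    (hq : ∀ x ∈ o2 (centralizer ({z} : Set S)), x = 1 ∨ x = z) : Nat.card A ≤ 2 := by
  classical
  obtain ⟨g, hg⟩ := ShE.exists_conj h.norm h.two h.syl hz
  set w : S := g * z * g⁻¹ with hw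
  have hw' : ((g : X) * z * ((g⁻¹ : S) : X)) = (w : X) := rfl
  rw [hw'] at hg
  have hne : centralizer ({(w : X)} : Set X) ≠ ⊤ := by
    intro h1
    have h2 : (w : X) ∈ centralizer (S : Set X) := by
      rw [mem_centralizer_iff]
      intro y _
      exact mem_centralizer_singleton_iff.1 (h1 ▸ mem_top y)
    rw [h.cen, mem_bot] at h2
    have h3 : w = 1 := Subtype.ext h2
    apply hz1
    calc z = g⁻¹ * w * g := by rw [hw]; group
      _ = 1 := by rw [h3]; group
  have hle := h.low _ hg hne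
  -- every element of `A` is `1` or `w`
  have key : ∀ a ∈ A, a = 1 ∨ a = (w : X) := by
    intro a ha
    have haS : a ∈ S := hS ▸ mem_top a
    let N : Subgroup S := (o2 (centralizer ({(w : X)} : Set X))).comap (S.subtype.comp (MulAut.conj g).toMonoidHom)
    have hmem : ∀ x : S, x ∈ N ↔ ((g * x * g⁻¹ : S) : X) ∈ o2 (centralizer ({(w : X)} : Set X)) := fun x => Iff.rfl
    have hN : N ≤ o2 (centralizer ({z} : Set S)) := by
      refine le_o2 ?_ ?_ ?_
      · intro x hx
        rw [hmem] at hx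
        have h1 := mem_centralizer_singleton_iff.1 (o2_le _ hx)
        rw [mem_centralizer_singleton_iff]
        have h2 : (g * x * g⁻¹) * w = w * (g * x * g⁻¹) := Subtype.ext h1
        calc x * z = g⁻¹ * ((g * x * g⁻¹) * w) * g := by rw [hw]; group
          _ = g⁻¹ * (w * (g * x * g⁻¹)) * g := by rw [h2]
          _ = z * x := by rw [hw]; group
      · exact (o2_isPGroup _).comap_of_injective _ (S.subtype_injective.comp (MulAut.conj g).injective)
      · have hk : ∀ x ∈ centralizer ({z} : Set S), ∀ y ∈ N, x * y * x⁻¹ ∈ N := by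
          intro x hx y hy
          rw [hmem] at hy ⊢
          have h1 : ((g * x * g⁻¹ : S) : X) ∈ centralizer ({(w : X)} : Set X) := by
            rw [mem_centralizer_singleton_iff] at hx ⊢
            refine congrArg (Subtype.val (p := (· ∈ S))) (?_ : (g * x * g⁻¹) * w = w * (g * x * g⁻¹))
            calc (g * x * g⁻¹) * w = g * (x * z) * g⁻¹ := by rw [hw]; group
              _ = g * (z * x) * g⁻¹ := by rw [hx]
              _ = _ := by rw [hw]; group
          have h2 := (mem_normalizer_iff.1 (le_normalizer_o2 _ h1) _).1 hy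
          have h3 : ((g * (x * y * x⁻¹) * g⁻¹ : S) : X) = ((g * x * g⁻¹ : S) : X) * ((g * y * g⁻¹ : S) : X) *
              ((g * x * g⁻¹ : S) : X)⁻¹ := by
            rw [← Subgroup.coe_inv, ← Subgroup.coe_mul, ← Subgroup.coe_mul]
            congr 1
            group
          rwa [h3]
        intro x hx
        rw [mem_normalizer_iff]
        intro y
        refine ⟨fun hy => hk x hx y hy, fun hy => ?_⟩
        have h3 := hk x⁻¹ (inv_mem hx) _ hy
        have h4 : x⁻¹ * (x * y * x⁻¹) * x⁻¹⁻¹ = y := by group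
        rwa [h4] at h3
    have h1 : (g⁻¹ * ⟨a, haS⟩ * g) ∈ N := by
      rw [hmem]
      have h2 : ((g * (g⁻¹ * ⟨a, haS⟩ * g) * g⁻¹ : S) : X) = a := by
        have h3 : (g * (g⁻¹ * ⟨a, haS⟩ * g) * g⁻¹ : S) = ⟨a, haS⟩ := by group
        rw [h3]
      rw [h2]
      exact hle ha
    have h5 : (⟨a, haS⟩ : S) = g * (g⁻¹ * ⟨a, haS⟩ * g) * g⁻¹ := by group
    rcases hq _ (hN h1) with h2 | h2
    · left
      rw [h2, mul_one, mul_inv_cancel] at h5
      exact congrArg Subtype.val h5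
    · right
      rw [h2] at h5
      exact congrArg Subtype.val h5
  have h1 : (A : Set X) ⊆ ({1, (w : X)} : Finset X) := by
    intro a ha
    rcases key a ha with h1 | h1 <;> simp [h1]
  calc Nat.card A = (A : Set X).ncard := rfl
    _ ≤ ((({1, (w : X)} : Finset X) : Set X)).ncard := Set.ncard_le_ncard h1 (Finset.finite_toSet _)
    _ = (({1, (w : X)} : Finset X)).card := Set.ncard_coe_finset _
    _ ≤ 2 := Finset.card_le_two

theorem iso : IsoClosed.{u} (fun S _ => Spor.IsoCo3 S) := by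
  rintro S S' _ _ e ⟨f⟩
  exact ⟨e.symm.trans f⟩

/-- **The row `Co3`.** -/
theorem deadG : DeadG.{u} (fun S _ => Spor.IsoCo3 S) := by
  intro X _ _ S T A h hS
  obtain ⟨z, hz⟩ := Cfsg.Agent.KFacts.Co3.Sheet.exists_facts hS
  have htop : S = ⊤ := h.top_of_inner fun α _ => hz.inner α
  refine (card_le_of_quasi h htop hz.basic.z1 hz.basic.syl fun x hx => ?_).trans (by norm_num)
  exact hz.center x (o2_le _ hx) (o2_central hz.quasi x hx)

theorem dead : Dead.{u, v} (fun S _ => Spor.IsoCo3 S) := deadG.dead iso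

theorem deadZ : DeadZ.{u, v} @Spor.IsoCo3 := deadG.deadZ iso

end Cfsg.Agent.Omega.ML.RowCo3

end

-- merged: Cfsg.Agent.Mrg.Omega.ML.RowPspSix
section

/-!
# (ML), the K-list end: the row `PSp₆(3)` (helper232)

* `exists_conj_of_aut` : if `|S : C_S(z)|` is odd and all automorphisms of `S` fix the class of `z`, then `T` centralises
  a conjugate of `z`;
* `card_le_of_facts` : if moreover `z` is the only involution of `O₂(C_S(z))`: `|A ∩ S| ≤ 2`, `|A| ≤ 2 |Aut(S) : Inn(S)|`;
* `deadG` : the row `PSp₆(3)`.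
-/

set_option autoImplicit false

namespace Cfsg.Agent.Omega.ML.RowPspSix

open Matrix Subgroup Cfsg Cfsg.Agent.Omega.ML.Rows Cfsg.Agent.ZN
open Cfsg.Agent.MinSimple.VModule (o2_isPGroup o2_le le_o2 le_normalizer_o2)

universe u v

/-! ### Abstract part -/

theorem index_cent {S : Type*} [Group S] (z : S) :
    (centralizer ({z} : Set S)).index = {x : S | IsConj z x}.ncard := by
  have h1 : (MulAction.stabilizer (ConjAct S) z).comap (ConjAct.toConjAct : S ≃* ConjAct S).toMonoidHom =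
      centralizer ({z} : Set S) := by
    ext g
    rw [mem_comap, MulAction.mem_stabilizer_iff, mem_centralizer_singleton_iff]
    change ConjAct.toConjAct g • z = z ↔ _
    rw [ConjAct.toConjAct_smul, mul_inv_eq_iff_eq_mul]
  have h2 : MulAction.orbit (ConjAct S) z = {x : S | IsConj z x} := by
    ext x
    rw [MulAction.mem_orbit_iff, Set.mem_ofPred_eq, isConj_iff]
    rfl
  rw [← h1, ← h2, index_comap_of_surjective _ (ConjAct.toConjAct : S ≃* ConjAct S).surjective]
  exact MulAction.index_stabilizer (ConjAct S) z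

/-- **`T` centralises a conjugate of `z`.** -/
theorem exists_conj_of_aut {X : Type*} [Group X] [Finite X] {S T : Subgroup X} (hS : S.Normal) (hT : IsPGroup 2 T)
    {z : S} (hodd : ¬ 2 ∣ (centralizer ({z} : Set S)).index) (haut : ∀ α : MulAut S, IsConj z (α z)) :
    ∃ g : S, T ≤ centralizer ({((g * z * g⁻¹ : S) : X)} : Set X) := by
  have hp : Fact (Nat.Prime 2) := ⟨Nat.prime_two⟩
  have h1 : ∀ x : X, ∃ g : S, x * (z : X) * x⁻¹ = ((g * z * g⁻¹ : S) : X) := by
    intro x
    obtain ⟨g, hg⟩ := isConj_iff.1 (haut (MulAut.conjNormal x))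
    refine ⟨g, ?_⟩
    rw [hg]
    exact (MulAut.conjNormal_apply x z).symm
  have h2 : {x : X | IsConj (z : X) x} = Subtype.val '' {x : S | IsConj z x} := by
    ext y
    constructor
    · intro hy
      obtain ⟨x, hx⟩ := isConj_iff.1 hy
      obtain ⟨g, hg⟩ := h1 x
      exact ⟨_, isConj_iff.2 ⟨g, rfl⟩, by rw [← hx, hg]⟩
    · rintro ⟨w, hw, rfl⟩
      obtain ⟨g, rfl⟩ := isConj_iff.1 hw
      exact isConj_iff.2 ⟨g, rfl⟩
  have h3 : ¬ 2 ∣ (centralizer ({(z : X)} : Set X)).index := by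
    rw [index_cent, h2, Set.ncard_image_of_injective _ Subtype.val_injective, ← index_cent]
    exact hodd
  have h4 : ¬ 2 ∣ Nat.card (X ⧸ centralizer ({(z : X)} : Set X)) := h3
  obtain ⟨q, hq⟩ := hT.nonempty_fixed_point_of_prime_not_dvd_card (X ⧸ centralizer ({(z : X)} : Set X)) h4
  obtain ⟨x, rfl⟩ := QuotientGroup.mk_surjective q
  obtain ⟨g, hg⟩ := h1 x
  refine ⟨g, fun t ht => ?_⟩
  rw [← hg, mem_centralizer_singleton_iff]
  have h5 : (QuotientGroup.mk (t * x) : X ⧸ centralizer ({(z : X)} : Set X)) = QuotientGroup.mk x := hq ⟨t, ht⟩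
  have h6 := QuotientGroup.eq.1 h5.symm
  rw [mem_centralizer_singleton_iff] at h6
  calc t * (x * z * x⁻¹) = x * ((x⁻¹ * (t * x)) * z) * x⁻¹ := by group
    _ = x * (z * (x⁻¹ * (t * x))) * x⁻¹ := by rw [h6]
    _ = x * z * x⁻¹ * t := by group

/-- **`|A ∩ S| ≤ 2`.** -/
theorem card_inf_le {X : Type*} [Group X] [Finite X] {S T A : Subgroup X} (h : AS S T A) {z : S}
    (hz1 : z ≠ 1) (hodd : ¬ 2 ∣ (centralizer ({z} : Set S)).index) (haut : ∀ α : MulAut S, IsConj z (α z))
    (hq : ∀ x ∈ o2 (centralizer ({z} : Set S)), x * x = 1 → x = 1 ∨ x = z) :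
    Nat.card (A ⊓ S : Subgroup X) ≤ 2 := by
  classical
  obtain ⟨g, hg⟩ := exists_conj_of_aut h.norm h.two hodd haut
  set w : S := g * z * g⁻¹ with hw
  have hw1 : (w : X) ≠ 1 := by
    intro h2
    have h3 : w = 1 := Subtype.ext h2
    apply hz1
    calc z = g⁻¹ * w * g := by rw [hw]; group
      _ = 1 := by rw [h3]; group
  have hle := h.low _ hg (h.cent_ne_top hw1)
  -- every element of `A ∩ S` is `1` or `w`
  have key : ∀ a ∈ A, a ∈ S → a = 1 ∨ a = (w : X) := by
    intro a ha haS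
    let N : Subgroup S := (o2 (centralizer ({(w : X)} : Set X))).comap (S.subtype.comp (MulAut.conj g).toMonoidHom)
    have hmem : ∀ x : S, x ∈ N ↔ ((g * x * g⁻¹ : S) : X) ∈ o2 (centralizer ({(w : X)} : Set X)) := fun x => Iff.rfl
    have hN : N ≤ o2 (centralizer ({z} : Set S)) := by
      refine le_o2 ?_ ?_ ?_
      · intro x hx
        rw [hmem] at hx
        have h1 := mem_centralizer_singleton_iff.1 (o2_le _ hx)
        rw [mem_centralizer_singleton_iff]
        have h2 : (g * x * g⁻¹) * w = w * (g * x * g⁻¹) := Subtype.ext h1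
        calc x * z = g⁻¹ * ((g * x * g⁻¹) * w) * g := by rw [hw]; group
          _ = g⁻¹ * (w * (g * x * g⁻¹)) * g := by rw [h2]
          _ = z * x := by rw [hw]; group
      · exact (o2_isPGroup _).comap_of_injective _ (S.subtype_injective.comp (MulAut.conj g).injective)
      · have hk : ∀ x ∈ centralizer ({z} : Set S), ∀ y ∈ N, x * y * x⁻¹ ∈ N := by
          intro x hx y hy
          rw [hmem] at hy ⊢
          have h1 : ((g * x * g⁻¹ : S) : X) ∈ centralizer ({(w : X)} : Set X) := by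
            rw [mem_centralizer_singleton_iff] at hx ⊢
            refine congrArg (Subtype.val (p := (· ∈ S))) (?_ : (g * x * g⁻¹) * w = w * (g * x * g⁻¹))
            calc (g * x * g⁻¹) * w = g * (x * z) * g⁻¹ := by rw [hw]; group
              _ = g * (z * x) * g⁻¹ := by rw [hx]
              _ = _ := by rw [hw]; group
          have h2 := (mem_normalizer_iff.1 (le_normalizer_o2 _ h1) _).1 hy
          have h3 : ((g * (x * y * x⁻¹) * g⁻¹ : S) : X) = ((g * x * g⁻¹ : S) : X) * ((g * y * g⁻¹ : S) : X) *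
              ((g * x * g⁻¹ : S) : X)⁻¹ := by
            rw [← Subgroup.coe_inv, ← Subgroup.coe_mul, ← Subgroup.coe_mul]
            congr 1
            group
          rwa [h3]
        intro x hx
        rw [mem_normalizer_iff]
        intro y
        refine ⟨fun hy => hk x hx y hy, fun hy => ?_⟩
        have h3 := hk x⁻¹ (inv_mem hx) _ hy
        have h4 : x⁻¹ * (x * y * x⁻¹) * x⁻¹⁻¹ = y := by group
        rwa [h4] at h3
    have h1 : (g⁻¹ * ⟨a, haS⟩ * g) ∈ N := by
      rw [hmem]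
      have h2 : ((g * (g⁻¹ * ⟨a, haS⟩ * g) * g⁻¹ : S) : X) = a := by
        have h3 : (g * (g⁻¹ * ⟨a, haS⟩ * g) * g⁻¹ : S) = ⟨a, haS⟩ := by group
        rw [h3]
      rw [h2]
      exact hle ha
    have h5 : (⟨a, haS⟩ : S) = g * (g⁻¹ * ⟨a, haS⟩ * g) * g⁻¹ := by group
    have h6 : (g⁻¹ * ⟨a, haS⟩ * g) * (g⁻¹ * ⟨a, haS⟩ * g) = 1 := by
      have h7 : (⟨a, haS⟩ : S) * ⟨a, haS⟩ = 1 := Subtype.ext (h.el a ha)
      calc (g⁻¹ * ⟨a, haS⟩ * g) * (g⁻¹ * ⟨a, haS⟩ * g) = g⁻¹ * (⟨a, haS⟩ * ⟨a, haS⟩) * g := by group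
        _ = 1 := by rw [h7]; group
    rcases hq _ (hN h1) h6 with h2 | h2
    · left
      rw [h2, mul_one, mul_inv_cancel] at h5
      exact congrArg Subtype.val h5
    · right
      rw [h2] at h5
      exact congrArg Subtype.val h5
  have h1 : ((A ⊓ S : Subgroup X) : Set X) ⊆ ({1, (w : X)} : Finset X) := by
    intro a ha
    rcases key a ha.1 ha.2 with h1 | h1 <;> simp [h1]
  calc Nat.card (A ⊓ S : Subgroup X) = ((A ⊓ S : Subgroup X) : Set X).ncard := rfl
    _ ≤ ((({1, (w : X)} : Finset X) : Set X)).ncard := Set.ncard_le_ncard h1 (Finset.finite_toSet _)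
    _ = (({1, (w : X)} : Finset X)).card := Set.ncard_coe_finset _
    _ ≤ 2 := Finset.card_le_two

/-- **`|A| ≤ 2 |Aut(S) : Inn(S)|`.** -/
theorem card_le_of_facts {X : Type*} [Group X] [Finite X] {S T A : Subgroup X} (h : AS S T A) {z : S}
    (hz1 : z ≠ 1) (hodd : ¬ 2 ∣ (centralizer ({z} : Set S)).index) (haut : ∀ α : MulAut S, IsConj z (α z))
    (hq : ∀ x ∈ o2 (centralizer ({z} : Set S)), x * x = 1 → x = 1 ∨ x = z)
    {k : ℕ} (hout : (MulAut.conj : S →* MulAut S).range.index ≤ k) : Nat.card A ≤ 2 * k := by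
  refine (h.card_le_mul_index A).trans (Nat.mul_le_mul ?_ (h.index_le.trans hout))
  rw [← card_map_of_injective S.subtype_injective, subgroupOf_map_subtype]
  exact card_inf_le h hz1 hodd haut hq

/-! ### Facts and their transport -/

/-- the facts about the involution `z` -/
structure Facts {S : Type*} [Group S] (z : S) : Prop where
  ne : z ≠ 1
  odd : ¬ 2 ∣ (centralizer ({z} : Set S)).index
  aut : ∀ α : MulAut S, IsConj z (α z)
  o2 : ∀ N : Subgroup S, IsPGroup 2 N → N ≤ centralizer ({z} : Set S) →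
    centralizer ({z} : Set S) ≤ normalizer (N : Set S) → ∀ x ∈ N, x * x = 1 → x = 1 ∨ x = z

theorem Facts.map {S P : Type*} [Group S] [Group P] {z : P} (h : Facts z) (e : P ≃* S) : Facts (e z) where
  ne := fun h1 => h.ne (e.injective (h1.trans (map_one e).symm))
  odd := by
    rw [index_cent]
    have h1 : {x : S | IsConj (e z) x} = e '' {x : P | IsConj z x} := by
      ext x
      constructor
      · intro hx
        obtain ⟨g, hg⟩ := isConj_iff.1 hx
        refine ⟨e.symm g * z * (e.symm g)⁻¹, isConj_iff.2 ⟨_, rfl⟩, ?_⟩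
        rw [map_mul, map_mul, map_inv, e.apply_symm_apply, hg]
      · rintro ⟨y, hy, rfl⟩
        obtain ⟨g, rfl⟩ := isConj_iff.1 hy
        exact isConj_iff.2 ⟨e g, by rw [map_mul, map_mul, map_inv]⟩
    rw [h1, Set.ncard_image_of_injective _ e.injective, ← index_cent]
    exact h.odd
  aut := fun α => by
    obtain ⟨g, hg⟩ := isConj_iff.1 (h.aut ((e.trans α).trans e.symm))
    refine isConj_iff.2 ⟨e g, ?_⟩
    have h1 := congrArg e hg
    rw [map_mul, map_mul, map_inv] at h1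
    rw [h1]
    exact e.apply_symm_apply _
  o2 := by
    intro N hN hle hn x hx hxx
    have h1 : ∀ y : P, y ∈ N.comap e.toMonoidHom ↔ e y ∈ N := fun y => Iff.rfl
    rcases h.o2 (N.comap e.toMonoidHom) (hN.comap_of_injective _ e.injective) (fun y hy => by
        have h2 := mem_centralizer_singleton_iff.1 (hle ((h1 y).1 hy))
        rw [← map_mul, ← map_mul] at h2
        exact mem_centralizer_singleton_iff.2 (e.injective h2)) (fun y hy => by
        have h2 : e y ∈ centralizer ({e z} : Set S) := by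
          rw [mem_centralizer_singleton_iff] at hy ⊢
          rw [← map_mul, ← map_mul, hy]
        have h3 := mem_normalizer_iff.1 (hn h2)
        rw [mem_normalizer_iff]
        intro w
        rw [h1, h1, map_mul, map_mul, map_inv]
        exact h3 (e w)) (e.symm x) (by rw [h1, e.apply_symm_apply]; exact hx)
        (by rw [← map_mul, hxx, map_one]) with h2 | h2
    · left
      rw [← e.apply_symm_apply x, h2, map_one]
    · right
      rw [← e.apply_symm_apply x, h2]

theorem card_le_two_mul {X : Type*} [Group X] [Finite X] {S T A : Subgroup X} (h : AS S T A) {z : S}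
    (hz : Facts z) {k : ℕ} (hout : (MulAut.conj : S →* MulAut S).range.index ≤ k) : Nat.card A ≤ 2 * k :=
  card_le_of_facts h hz.ne hz.odd hz.aut (hz.o2 _ (o2_isPGroup _) (o2_le _) (le_normalizer_o2 _)) hout

/-! ### The model -/

section Model

open Cfsg.Agent.ClassicalGeometry.SympAutExists Cfsg.Agent.ClassicalGeometry.SympAutSemi
  Cfsg.Agent.ClassicalGeometry.SympGamma
open Cfsg.Agent.OddHalf.NI3.K.Sp
open Cfsg.Agent.OddHalf.NI.FrameSp (neg neg_coe center_cases)
open Cfsg.Agent.Lib.FieldThree (F3)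


/-- `A ⊕ D` -/
def two (k l : ℕ) (F : Type) [Field F] :
    symplecticGroup (Fin k) F × symplecticGroup (Fin l) F →* symplecticGroup (Fin (k + l)) F where
  toFun A := ⟨(fromBlocks (A.1 : Matrix (Fin k ⊕ Fin k) (Fin k ⊕ Fin k) F) 0 0
      (A.2 : Matrix (Fin l ⊕ Fin l) (Fin l ⊕ Fin l) F)).submatrix (sg k l).symm (sg k l).symm, by
    rw [mem_iff', submatrix_submatrix, Equiv.symm_comp_self, submatrix_id_id]
    have h := SymplecticGroup.mem_iff.mp A.1.2
    have h' := SymplecticGroup.mem_iff.mp A.2.2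
    simp [fromBlocks_multiply, fromBlocks_transpose, h, h']⟩
  map_one' := by
    apply Subtype.ext
    apply sub_inj
    change ((fromBlocks (1 : Matrix (Fin k ⊕ Fin k) (Fin k ⊕ Fin k) F) 0 0
      (1 : Matrix (Fin l ⊕ Fin l) (Fin l ⊕ Fin l) F)).submatrix (sg k l).symm (sg k l).symm).submatrix _ _ =
      (1 : Matrix _ _ F).submatrix (sg k l) (sg k l)
    rw [submatrix_submatrix, Equiv.symm_comp_self, submatrix_id_id, submatrix_one_equiv, fromBlocks_one]
  map_mul' A B := by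
    apply Subtype.ext
    apply sub_inj
    change ((fromBlocks ((A.1 : Matrix _ _ F) * (B.1 : Matrix _ _ F)) 0 0
      ((A.2 : Matrix _ _ F) * (B.2 : Matrix _ _ F))).submatrix (sg k l).symm (sg k l).symm).submatrix _ _ =
      ((fromBlocks (A.1 : Matrix _ _ F) 0 0 (A.2 : Matrix _ _ F)).submatrix (sg k l).symm (sg k l).symm *
      (fromBlocks (B.1 : Matrix _ _ F) 0 0 (B.2 : Matrix _ _ F)).submatrix (sg k l).symm (sg k l).symm).submatrix _ _
    rw [Cfsg.Agent.OddHalf.NI3.K.Sp.sub_mul, submatrix_submatrix, submatrix_submatrix, submatrix_submatrix, Equiv.symm_comp_self,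
      submatrix_id_id, submatrix_id_id, submatrix_id_id, fromBlocks_multiply]
    simp

theorem two_sub {k l : ℕ} {F : Type} [Field F] (A : symplecticGroup (Fin k) F × symplecticGroup (Fin l) F) :
    (two k l F A : Matrix (Fin (k + l) ⊕ Fin (k + l)) (Fin (k + l) ⊕ Fin (k + l)) F).submatrix (sg k l) (sg k l) =
      fromBlocks (A.1 : Matrix (Fin k ⊕ Fin k) (Fin k ⊕ Fin k) F) 0 0 (A.2 : Matrix (Fin l ⊕ Fin l) (Fin l ⊕ Fin l) F) := by
  change ((fromBlocks (A.1 : Matrix _ _ F) 0 0 (A.2 : Matrix _ _ F)).submatrix (sg k l).symm (sg k l).symm).submatrix _ _ = _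
  rw [submatrix_submatrix, Equiv.symm_comp_self, submatrix_id_id]

theorem two_inj {k l : ℕ} {F : Type} [Field F] : Function.Injective (two k l F) := by
  intro A B h
  have h1 := congrArg (fun X : symplecticGroup (Fin (k + l)) F =>
    (X : Matrix (Fin (k + l) ⊕ Fin (k + l)) (Fin (k + l) ⊕ Fin (k + l)) F).submatrix (sg k l) (sg k l)) h
  simp only [two_sub] at h1
  rw [fromBlocks_inj] at h1
  exact Prod.ext (Subtype.ext h1.1) (Subtype.ext h1.2.2.2)

/-- the involution: `-1 ⊕ 1` -/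
def Y : symplecticGroup (Fin 3) F3 := two 2 1 F3 (neg 2 F3, 1)

/-- its image -/
def z : PSp 3 F3 := pr Y

theorem two_ne : (2 : F3) ≠ 0 := by decide

/-- the signs -/
def eps (p : Fin 3 ⊕ Fin 3) : F3 := if Sum.elim id id p = 2 then 1 else -1

theorem Y_coe : (Y : Matrix (Fin 3 ⊕ Fin 3) (Fin 3 ⊕ Fin 3) F3) = diagonal eps := by
  have h : ((Y : Matrix (Fin 3 ⊕ Fin 3) (Fin 3 ⊕ Fin 3) F3)).submatrix (sg 2 1) (sg 2 1) =
      (diagonal eps).submatrix (sg 2 1) (sg 2 1) := by
    have h1 := two_sub (k := 2) (l := 1) (F := F3) (neg 2 F3, 1)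
    refine h1.trans ?_
    rw [neg_coe]
    change fromBlocks (-1) 0 0 1 = _
    decide +kernel
  exact sub_inj (k := 2) (l := 1) h

/-- `C(Y) = Sp₄ × Sp₂` -/
theorem exists_two {g : symplecticGroup (Fin 3) F3} (hg : g * Y = Y * g) : ∃ p, two 2 1 F3 p = g := by
  set G := (g : Matrix (Fin (2 + 1) ⊕ Fin (2 + 1)) (Fin (2 + 1) ⊕ Fin (2 + 1)) F3).submatrix (sg 2 1) (sg 2 1) with hG
  obtain ⟨A, B, C, D, hABCD⟩ : ∃ A B C D, G = fromBlocks A B C D :=
    ⟨_, _, _, _, (fromBlocks_toBlocks G).symm⟩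
  have h1 : G * fromBlocks (-1) 0 0 1 = fromBlocks (-1) 0 0 1 * G := by
    have h0 := congrArg (fun X : symplecticGroup (Fin (2 + 1)) F3 =>
      (X : Matrix (Fin (2 + 1) ⊕ Fin (2 + 1)) (Fin (2 + 1) ⊕ Fin (2 + 1)) F3).submatrix (sg 2 1) (sg 2 1)) hg
    have hY : (Y : Matrix (Fin (2 + 1) ⊕ Fin (2 + 1)) (Fin (2 + 1) ⊕ Fin (2 + 1)) F3).submatrix (sg 2 1) (sg 2 1) =
        fromBlocks (-1) 0 0 1 := by
      refine (two_sub (k := 2) (l := 1) (F := F3) (neg 2 F3, 1)).trans ?_
      rw [neg_coe]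
      rfl
    have h2 : ∀ X X' : symplecticGroup (Fin (2 + 1)) F3,
        ((X * X' : symplecticGroup (Fin (2 + 1)) F3) :
          Matrix (Fin (2 + 1) ⊕ Fin (2 + 1)) (Fin (2 + 1) ⊕ Fin (2 + 1)) F3).submatrix (sg 2 1) (sg 2 1) =
        (X : Matrix (Fin (2 + 1) ⊕ Fin (2 + 1)) (Fin (2 + 1) ⊕ Fin (2 + 1)) F3).submatrix (sg 2 1) (sg 2 1) *
        (X' : Matrix (Fin (2 + 1) ⊕ Fin (2 + 1)) (Fin (2 + 1) ⊕ Fin (2 + 1)) F3).submatrix (sg 2 1) (sg 2 1) :=
      fun X X' => Cfsg.Agent.OddHalf.NI3.K.Sp.sub_mul _ _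
    have h3 := ((h2 g Y).symm.trans h0).trans (h2 Y g)
    rw [hY] at h3
    exact h3
  rw [hABCD, fromBlocks_multiply, fromBlocks_multiply] at h1
  simp only [Matrix.mul_zero, Matrix.mul_one, Matrix.zero_mul, Matrix.one_mul, add_zero, zero_add, Matrix.mul_neg,
    Matrix.neg_mul] at h1
  rw [fromBlocks_inj] at h1
  obtain ⟨-, hB, hC, -⟩ := h1
  have hx : ∀ x : F3, x = -x → x = 0 := by decide
  have hB0 : B = 0 := by
    ext i j
    have := congrFun (congrFun hB i) j
    rw [Matrix.neg_apply] at this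
    exact hx _ this
  have hC0 : C = 0 := by
    ext i j
    have := congrFun (congrFun hC i) j
    rw [Matrix.neg_apply] at this
    exact hx _ this.symm
  subst hB0 hC0
  have hmem := (mem_iff' (k := 2) (l := 1) _).mp g.2
  rw [← hG, hABCD, fromBlocks_transpose, fromBlocks_multiply, fromBlocks_multiply] at hmem
  simp only [Matrix.mul_zero, Matrix.zero_mul, add_zero, zero_add, transpose_zero] at hmem
  rw [fromBlocks_inj] at hmem
  refine ⟨(⟨A, SymplecticGroup.mem_iff.mpr hmem.1⟩, ⟨D, SymplecticGroup.mem_iff.mpr hmem.2.2.2⟩), ?_⟩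
  apply Subtype.ext
  apply sub_inj
  rw [two_sub, ← hG, hABCD]

theorem two_comm (p : symplecticGroup (Fin 2) F3 × symplecticGroup (Fin 1) F3) :
    two 2 1 F3 p * Y = Y * two 2 1 F3 p := by
  have h1 : (neg 2 F3, (1 : symplecticGroup (Fin 1) F3)) * p = p * (neg 2 F3, 1) := by
    refine Prod.ext ?_ ?_
    · exact (Subgroup.mem_center_iff.1 (neg_mem_center 2) p.1).symm
    · show 1 * p.2 = p.2 * 1
      rw [one_mul, mul_one]
  unfold Y
  rw [← map_mul, ← map_mul, h1]

theorem trace_Y : trace (Y : Matrix (Fin 3 ⊕ Fin 3) (Fin 3 ⊕ Fin 3) F3) ≠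
    trace (-(Y : Matrix (Fin 3 ⊕ Fin 3) (Fin 3 ⊕ Fin 3) F3)) := by
  rw [Y_coe]
  decide +kernel

/-- elements commuting with `z` -/
theorem lift_comm {g : symplecticGroup (Fin 3) F3} (hg : pr g * z = z * pr g) : g * Y = Y * g := by
  have h1 : pr (g * Y) = pr (Y * g) := hg
  rw [pr_eq_iff] at h1
  rcases center_cases (by norm_num) h1 with h2 | h2
  · exact inv_mul_eq_one.1 h2
  · exfalso
    have h3 : Y * g = g * Y * neg 3 F3 := by rw [← h2]; group
    have h4 : g⁻¹ * Y * g = Y * neg 3 F3 := by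
      rw [mul_assoc, h3]; group
    have h5 := congrArg (fun X : symplecticGroup (Fin 3) F3 =>
      trace (X : Matrix (Fin 3 ⊕ Fin 3) (Fin 3 ⊕ Fin 3) F3)) h4
    simp only [Submonoid.coe_mul, neg_coe] at h5
    rw [trace_mul_comm, ← mul_assoc] at h5
    have h6 : (g : Matrix (Fin 3 ⊕ Fin 3) (Fin 3 ⊕ Fin 3) F3) * ((g⁻¹ : symplecticGroup (Fin 3) F3) :
        Matrix (Fin 3 ⊕ Fin 3) (Fin 3 ⊕ Fin 3) F3) = 1 := by
      rw [← Submonoid.coe_mul, mul_inv_cancel]; rfl
    rw [h6, one_mul, mul_neg, mul_one] at h5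
    exact trace_Y h5

theorem z_ne : z ≠ 1 := by
  intro h
  have h1 : Y ∈ center (symplecticGroup (Fin 3) F3) := (QuotientGroup.eq_one_iff Y).1 h
  rcases center_cases (by norm_num) h1 with h2 | h2
  · have h3 := congrArg (fun X : symplecticGroup (Fin 3) F3 =>
      (X : Matrix (Fin 3 ⊕ Fin 3) (Fin 3 ⊕ Fin 3) F3) (Sum.inl 0) (Sum.inl 0)) h2
    simp only [Y_coe] at h3
    revert h3
    decide +kernel
  · have h3 := congrArg (fun X : symplecticGroup (Fin 3) F3 =>
      (X : Matrix (Fin 3 ⊕ Fin 3) (Fin 3 ⊕ Fin 3) F3) (Sum.inl 2) (Sum.inl 2)) h2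
    simp only [Y_coe, neg_coe] at h3
    revert h3
    decide +kernel

instance : Finite (symplecticGroup (Fin 3) F3) := Subtype.finite
instance : Finite (symplecticGroup (Fin 2) F3) := Subtype.finite
instance : Finite (symplecticGroup (Fin 1) F3) := Subtype.finite

/-- the index of `C(Y)` is odd -/
theorem odd_Y : ¬ 2 ∣ (centralizer ({Y} : Set (symplecticGroup (Fin 3) F3))).index := by
  intro h2
  have h1 : (two 2 1 F3).range ≤ centralizer ({Y} : Set (symplecticGroup (Fin 3) F3)) := by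
    rintro _ ⟨p, rfl⟩
    exact mem_centralizer_singleton_iff.2 (two_comm p)
  have h3 : Nat.card (two 2 1 F3).range = 51840 * 24 := by
    rw [← Nat.card_congr (MonoidHom.ofInjective (two_inj (k := 2) (l := 1) (F := F3))).toEquiv, Nat.card_prod,
      LieClassical.SympCount.card_symplecticGroup, LieClassical.SympCount.card_symplecticGroup, F3.card]
    rfl
  have h4 : 2 * (51840 * 24) ∣ Nat.card (symplecticGroup (Fin 3) F3) := by
    rw [← (centralizer ({Y} : Set (symplecticGroup (Fin 3) F3))).card_mul_index, mul_comm 2]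
    exact Nat.mul_dvd_mul (h3 ▸ card_dvd_of_le h1) h2
  rw [LieClassical.SympCount.card_symplecticGroup, F3.card] at h4
  revert h4
  decide

theorem map_cent : (centralizer ({Y} : Set (symplecticGroup (Fin 3) F3))).map
    (QuotientGroup.mk' (center (symplecticGroup (Fin 3) F3))) = centralizer ({z} : Set (PSp 3 F3)) := by
  ext x
  constructor
  · rintro ⟨g, hg, rfl⟩
    rw [SetLike.mem_coe, mem_centralizer_singleton_iff] at hg
    exact mem_centralizer_singleton_iff.2 (congrArg pr hg)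
  · intro hx
    obtain ⟨g, rfl⟩ := QuotientGroup.mk_surjective x
    exact ⟨g, mem_centralizer_singleton_iff.2 (lift_comm (mem_centralizer_singleton_iff.1 hx)), rfl⟩

theorem odd_z : ¬ 2 ∣ (centralizer ({z} : Set (PSp 3 F3))).index := by
  rw [← map_cent]
  intro h
  exact odd_Y (h.trans (index_map_dvd _ (QuotientGroup.mk'_surjective _)))

theorem sp_two (a b c d : F3) (h : a * d - b * c = 1) (h1 : a * a + b * c = 1) (h2 : a * b + b * d = 0)
    (h3 : c * a + d * c = 0) (h4 : c * b + d * d = 1) : (a = 1 ∧ b = 0 ∧ c = 0 ∧ d = 1) ∨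
      (a = -1 ∧ b = 0 ∧ c = 0 ∧ d = -1) := by
  revert a b c d
  decide +kernel

/-- involutions of `Sp₂(3)` -/
theorem invol_one {d : symplecticGroup (Fin 1) F3} (hd : d * d = 1) : d = 1 ∨ d = neg 1 F3 := by
  have hd' : (d : Matrix (Fin 1 ⊕ Fin 1) (Fin 1 ⊕ Fin 1) F3) * (d : Matrix (Fin 1 ⊕ Fin 1) (Fin 1 ⊕ Fin 1) F3) = 1 :=
    congrArg Subtype.val hd
  have hs := SymplecticGroup.mem_iff.mp d.2
  set D := (d : Matrix (Fin 1 ⊕ Fin 1) (Fin 1 ⊕ Fin 1) F3) with hD
  have e1 := congrFun (congrFun hd' (Sum.inl 0)) (Sum.inl 0)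
  have e2 := congrFun (congrFun hd' (Sum.inl 0)) (Sum.inr 0)
  have e3 := congrFun (congrFun hd' (Sum.inr 0)) (Sum.inl 0)
  have e4 := congrFun (congrFun hd' (Sum.inr 0)) (Sum.inr 0)
  have e5 := congrFun (congrFun hs (Sum.inl 0)) (Sum.inr 0)
  simp [Matrix.mul_apply, Fintype.sum_sum_type, J] at e1 e2 e3 e4 e5
  have e6 : D (Sum.inl 0) (Sum.inl 0) * D (Sum.inr 0) (Sum.inr 0) -
      D (Sum.inl 0) (Sum.inr 0) * D (Sum.inr 0) (Sum.inl 0) = 1 := by linear_combination -e5
  rcases sp_two _ _ _ _ e6 e1 e2 e3 e4 with ⟨h1, h2, h3, h4⟩ | ⟨h1, h2, h3, h4⟩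
  · left
    apply Subtype.ext
    change D = 1
    ext p q
    rcases p with p | p <;> rcases q with q | q <;> fin_cases p <;> fin_cases q <;> simp [h1, h2, h3, h4]
  · right
    apply Subtype.ext
    change D = (neg 1 F3 : symplecticGroup (Fin 1) F3).1
    rw [neg_coe]
    ext p q
    rcases p with p | p <;> rcases q with q | q <;> fin_cases p <;> fin_cases q <;> simp [h1, h2, h3, h4]

/-- `-1 ⊕ -1` is central -/
theorem two_neg : two 2 1 F3 (neg 2 F3, neg 1 F3) = neg 3 F3 := by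
  apply Subtype.ext
  apply sub_inj (k := 2) (l := 1)
  refine (two_sub (k := 2) (l := 1) (F := F3) _).trans ?_
  rw [neg_coe, neg_coe, neg_coe]
  ext i j
  rcases i with i | i <;> rcases j with j | j <;> simp [Matrix.one_apply]

theorem neg_ne_one {m : ℕ} (hm : 1 ≤ m) : neg m F3 ≠ 1 := by
  intro h
  have h1 := congrArg (fun A : symplecticGroup (Fin m) F3 =>
    (A : Matrix (Fin m ⊕ Fin m) (Fin m ⊕ Fin m) F3) (Sum.inl ⟨0, hm⟩) (Sum.inl ⟨0, hm⟩)) h
  simp only [neg_coe, Matrix.neg_apply, Matrix.one_apply_eq] at h1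
  have h5 : ((1 : symplecticGroup (Fin m) F3) : Matrix (Fin m ⊕ Fin m) (Fin m ⊕ Fin m) F3) = 1 := rfl
  rw [h5, Matrix.one_apply_eq] at h1
  revert h1
  decide

/-- `(1, d)` central implies `d = 1` -/
theorem eq_one_of_central {d : symplecticGroup (Fin 1) F3} (h : pr (two 2 1 F3 (1, d)) = 1) : d = 1 := by
  have h1 : two 2 1 F3 (1, d) ∈ center (symplecticGroup (Fin 3) F3) := (QuotientGroup.eq_one_iff _).1 h
  rcases center_cases (by norm_num) h1 with h2 | h2
  · have h3 : two 2 1 F3 (1, d) = two 2 1 F3 1 := by rw [h2]; exact (map_one _).symm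
    exact congrArg Prod.snd (two_inj h3)
  · exfalso
    rw [← two_neg] at h2
    exact neg_ne_one (m := 2) (by norm_num) (congrArg Prod.fst (two_inj h2)).symm

/-- **`z` is the only involution of `O₂(C(z))`.** -/
theorem o2_z : ∀ N : Subgroup (PSp 3 F3), IsPGroup 2 N → N ≤ centralizer ({z} : Set (PSp 3 F3)) →
    centralizer ({z} : Set (PSp 3 F3)) ≤ normalizer (N : Set (PSp 3 F3)) → ∀ x ∈ N, x * x = 1 → x = 1 ∨ x = z := by
  intro N hN hle hn x hx hxx
  have hp : Fact (Nat.Prime 2) := ⟨Nat.prime_two⟩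
  let φ : symplecticGroup (Fin 2) F3 × symplecticGroup (Fin 1) F3 →* PSp 3 F3 :=
    (QuotientGroup.mk' (center (symplecticGroup (Fin 3) F3))).comp (two 2 1 F3)
  have hφ : ∀ p, φ p = pr (two 2 1 F3 p) := fun _ => rfl
  have hφz : ∀ p, φ p ∈ centralizer ({z} : Set (PSp 3 F3)) := fun p =>
    mem_centralizer_singleton_iff.2 (congrArg pr (two_comm p))
  have hker : IsPGroup 2 φ.ker := by
    rintro ⟨p, hp1⟩
    refine ⟨1, Subtype.ext ?_⟩
    rw [pow_one, Subgroup.coe_pow, Subgroup.coe_one]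
    change p ^ 2 = 1
    have h1 : two 2 1 F3 p ∈ center (symplecticGroup (Fin 3) F3) := (QuotientGroup.eq_one_iff _).1 hp1
    apply two_inj (k := 2) (l := 1)
    rcases center_cases (by norm_num) h1 with h2 | h2
    · rw [map_pow]
      rw [show two 2 1 F3 p = 1 from h2, one_pow]
      exact (map_one _).symm
    · rw [map_pow, show two 2 1 F3 p = neg 3 F3 from h2, map_one]
      apply Subtype.ext
      rw [pow_two, Submonoid.coe_mul, neg_coe]
      simp
  -- the projection to `Sp₄`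
  let M : Subgroup (symplecticGroup (Fin 2) F3) := (N.comap φ).map (MonoidHom.fst _ _)
  have hM : IsPGroup 2 M := (hN.comap_of_ker_isPGroup φ hker).map _
  have hMn : M.Normal := by
    refine ⟨?_⟩
    rintro _ ⟨p, hp1, rfl⟩ g
    refine ⟨(g, 1) * p * (g, 1)⁻¹, ?_, rfl⟩
    change φ ((g, 1) * p * (g, 1)⁻¹) ∈ N
    rw [map_mul, map_mul, map_inv]
    exact (mem_normalizer_iff.1 (hn (hφz _)) _).1 hp1
  have hqs : IsQuasisimple ↥(symplecticGroup (Fin 2) F3) :=
    ⟨⟨Cfsg.Agent.S0269.result 2 (Or.inr (Or.inl ⟨rfl, by rw [F3.card]⟩))⟩,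
      Cfsg.Agent.S0270.result 2 le_rfl (fun _ => by rw [F3.card])⟩
  have hMs : Group.IsSolvable M :=
    have := hM.isNilpotent
    inferInstance
  have hMc : M ≤ center _ :=
    Cfsg.Agent.Lib.ComponentSolvable.quasisimple_solvable_normal_le_center hqs hMn hMs
  -- `x` is the image of `(1, d)`
  have hd : ∃ d, x = pr (two 2 1 F3 (1, d)) := by
    obtain ⟨g, rfl⟩ := pr_surj x
    obtain ⟨⟨a, d⟩, rfl⟩ := exists_two (lift_comm (mem_centralizer_singleton_iff.1 (hle hx)))
    have h1 : a ∈ M := ⟨(a, d), hx, rfl⟩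
    rcases center_cases (by norm_num) (hMc h1) with h2 | h2
    · exact ⟨d, by rw [h2]⟩
    · refine ⟨(neg 1 F3)⁻¹ * d, ?_⟩
      rw [pr_eq_iff, ← map_inv, ← map_mul, h2]
      have h3 : (((neg 2 F3, d) : symplecticGroup (Fin 2) F3 × symplecticGroup (Fin 1) F3)⁻¹ *
          (1, (neg 1 F3)⁻¹ * d)) = (neg 2 F3, neg 1 F3)⁻¹ := by
        refine Prod.ext ?_ ?_
        · show (neg 2 F3)⁻¹ * 1 = (neg 2 F3)⁻¹
          rw [mul_one]
        · show d⁻¹ * ((neg 1 F3)⁻¹ * d) = (neg 1 F3)⁻¹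
          have h4 := Subgroup.mem_center_iff.1 (inv_mem (neg_mem_center (F := F3) 1)) d
          rw [← h4, inv_mul_cancel_left]
      rw [h3, map_inv, two_neg]
      exact inv_mem (neg_mem_center 3)
  obtain ⟨d, rfl⟩ := hd
  have h1 : pr (two 2 1 F3 (1, d * d)) = 1 := by
    rw [← hxx, ← pr_mul, ← map_mul, Prod.mk_mul_mk, one_mul]
  rcases invol_one (eq_one_of_central h1) with h2 | h2
  · left
    rw [h2]
    exact congrArg pr (map_one (two 2 1 F3))
  · right
    rw [h2]
    unfold z Y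
    rw [pr_eq_iff, ← map_inv, ← map_mul]
    have h3 : (((1, neg 1 F3) : symplecticGroup (Fin 2) F3 × symplecticGroup (Fin 1) F3)⁻¹ * (neg 2 F3, 1)) =
        (neg 2 F3, (neg 1 F3)⁻¹) := by
      refine Prod.ext ?_ ?_
      · show (1 : symplecticGroup (Fin 2) F3)⁻¹ * neg 2 F3 = neg 2 F3
        rw [_root_.inv_one, one_mul]
      · show (neg 1 F3)⁻¹ * 1 = (neg 1 F3)⁻¹
        rw [mul_one]
    have h4 : (neg 1 F3)⁻¹ = neg 1 F3 := by
      rw [inv_eq_iff_mul_eq_one]
      apply Subtype.ext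
      rw [Submonoid.coe_mul, neg_coe]
      simp
    rw [h3, h4, two_neg]
    exact neg_mem_center 3

/-- `Y` as a permutation of the vectors -/
theorem rho_Y (v : Fin 3 ⊕ Fin 3 → F3) (p : Fin 3 ⊕ Fin 3) : rho 3 F3 Y v p = eps p * v p := by
  rw [rho_apply, Y_coe, mulVec_diagonal]

/-- automorphisms fix the class of `z` -/
theorem aut_z (α : MulAut (PSp 3 F3)) : IsConj z (α z) := by
  obtain ⟨g, rfl⟩ := exists_semi (by norm_num) α
    (Cfsg.Agent.ClassicalGeometry.SympAutRecog.recog_odd (by norm_num) two_ne α)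
  obtain ⟨⟨φ, l, A⟩, rfl⟩ := (par_bijective (F := F3) (m := 3) (by norm_num)).2 g
  have h1 : conjHom 3 F3 (par 3 F3 (φ, l, A)) Y = A * Y * A⁻¹ := by
    apply rho_injective
    rw [rho_conjHom, par_coe, map_mul, map_mul, map_inv]
    have hc : (dilPerm 3 l * frobPerm 3 φ) * rho 3 F3 Y = rho 3 F3 Y * (dilPerm 3 l * frobPerm 3 φ) := by
      ext1 v
      funext p
      have he : ∀ q, φ (eps q) = eps q := by
        intro q
        unfold eps
        split_ifs
        · exact map_one φ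
        · rw [map_neg, map_one]
      rcases p with p | p
      · simp only [Equiv.Perm.mul_apply, rho_Y, dilPerm_inl, frobPerm_apply, map_mul, he]
        ring
      · simp only [Equiv.Perm.mul_apply, rho_Y, dilPerm_inr, frobPerm_apply, map_mul, he]
    calc rho 3 F3 A * (dilPerm 3 l * frobPerm 3 φ) * rho 3 F3 Y * (rho 3 F3 A * (dilPerm 3 l * frobPerm 3 φ))⁻¹
        = rho 3 F3 A * ((dilPerm 3 l * frobPerm 3 φ) * rho 3 F3 Y) * (rho 3 F3 A * (dilPerm 3 l * frobPerm 3 φ))⁻¹ := by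
          group
      _ = rho 3 F3 A * (rho 3 F3 Y * (dilPerm 3 l * frobPerm 3 φ)) * (rho 3 F3 A * (dilPerm 3 l * frobPerm 3 φ))⁻¹ := by
          rw [hc]
      _ = rho 3 F3 A * rho 3 F3 Y * (rho 3 F3 A)⁻¹ := by group
  refine isConj_iff.2 ⟨pr A, ?_⟩
  have h2 : Psi 3 F3 (par 3 F3 (φ, l, A)) z = pr (conjHom 3 F3 (par 3 F3 (φ, l, A)) Y) := rfl
  rw [h2, h1]
  rfl

theorem facts : Facts z := ⟨z_ne, odd_z, aut_z, o2_z⟩

end Model

theorem index_out {S : Type*} [Group S] (e : PSp 3 Cfsg.Agent.Lib.FieldThree.F3 ≃* S) :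
    (MulAut.conj : S →* MulAut S).range.index ≤ 2 := by
  have hc : center S = ⊥ := by
    rw [eq_bot_iff]
    intro x hx
    have h1 : e.symm x ∈ center (PSp 3 Cfsg.Agent.Lib.FieldThree.F3) := by
      rw [mem_center_iff] at hx ⊢
      intro g
      have h2 := congrArg e.symm (hx (e g))
      rwa [map_mul, map_mul, e.symm_apply_apply] at h2
    rw [Cfsg.Agent.Omega.TwoF.RowPSp.center_eq_bot (by norm_num), mem_bot] at h1
    rw [mem_bot, ← e.apply_symm_apply x, h1, map_one]
  have h1 : Nat.card (MulAut S) = 2 * Nat.card S := by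
    rw [← Nat.card_congr (MulAut.congr e).toEquiv, Cfsg.Agent.S0814.result 3 1 le_rfl
      (by rw [Cfsg.Agent.Lib.FieldThree.F3.card]; norm_num) 3 (by norm_num) (by norm_num), Nat.card_congr e.toEquiv]
    norm_num
  have h2 : Function.Injective (MulAut.conj : S →* MulAut S) := by
    rw [injective_iff_map_eq_one]
    intro x hx
    have h3 : x ∈ center S := by
      rw [mem_center_iff]
      intro g
      have h4 : x * g * x⁻¹ = g := by
        have h5 := congrArg (fun α : MulAut S => α g) hx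
        simpa using h5
      calc g * x = (x * g * x⁻¹) * x := by rw [h4]
        _ = x * g := by group
    rwa [hc, mem_bot] at h3
  have h3 := (MulAut.conj : S →* MulAut S).range.card_mul_index
  rw [← Nat.card_congr (MonoidHom.ofInjective h2).toEquiv, h1] at h3
  have hfin : Finite S := Finite.of_equiv _ e.toEquiv
  have h4 : 0 < Nat.card S := Nat.card_pos
  have h5 : Nat.card S * (MulAut.conj : S →* MulAut S).range.index = Nat.card S * 2 := by rw [h3, mul_comm]
  exact (Nat.eq_of_mul_eq_mul_left h4 h5).le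

/-- `PSp₆(3)` -/
def IsPspSix (S : Type u) [Group S] : Prop :=
  ∃ (F : Type) (_ : Field F) (_ : Fintype F), Fintype.card F = 3 ∧ Nonempty (S ≃* PSp 3 F)

theorem iso : IsoClosed.{u} (fun S _ => IsPspSix S) := by
  rintro S S' _ _ e ⟨F, i1, i2, hF, ⟨f⟩⟩
  exact ⟨F, i1, i2, hF, ⟨e.symm.trans f⟩⟩

/-- **The row `PSp₆(3)`.** -/
theorem deadG : DeadG.{u} (fun S _ => IsPspSix S) := by
  rintro X _ _ S T A h ⟨F, _, _, hF, ⟨f⟩⟩
  let e : PSp 3 Cfsg.Agent.Lib.FieldThree.F3 ≃* S :=
    (f.trans (LieClassical.FieldTransfer.pspCongr 3 (Cfsg.Agent.Lib.FieldThree.equivOfCard hF))).symm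
  exact card_le_two_mul h (facts.map e) (index_out e)

theorem dead : Dead.{u, v} (fun S _ => IsPspSix S) := deadG.dead iso


end Cfsg.Agent.Omega.ML.RowPspSix

end
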