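import Cfsg.Agent.Mrg.Omega.ML.LocM24
import Cfsg.Agent.Mrg.Omega.TwoF.RowFi
import Cfsg.Agent.OddHalf.D8.RowJ3
import Cfsg.Agent.KFacts.J2.SheetX
import Cfsg.Agent.KFacts.J2.Facts
import Cfsg.Agent.J4Type.EElems
import Cfsg.Agent.SporadicA.M24Trans

section


/-!
# (ML), the K-list end: the rows `J2` and `J3` (helper926)

`O₂(C_X(z)) ≤ R = 2^{1+4}_-` and the elementary abelian subgroups of `R` have order at most 4.
-/

set_option autoImplicit false

namespace Cfsg.Agent.Omega.ML.RowJ23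

open Subgroup Cfsg Cfsg.Agent.OddHalf.D8.JTwo.Sheet Cfsg.Agent.Omega.ML.Rows Cfsg.Agent.Omega.ML.ShE

universe u v

theorem deadG_J3 : DeadG.{u} (fun S _ => Spor.IsoJ3 S) := by
  refine deadG_of fun S _ _ hS => ?_
  obtain ⟨z, Q, v, ρ, M, -, -, h⟩ := Cfsg.Agent.OddHalf.D8.RowJ3.sheet' S hS
  exact ⟨z, _, _, of_sheetE h, fun B hB hBe => Cfsg.Agent.Omega.TwoF.RowJ3.card_le_Q M B hB hBe⟩

theorem iso_J3 : IsoClosed.{u} (fun S _ => Spor.IsoJ3 S) := by
  rintro S S' _ _ e ⟨F, i1, i2, ω, hF, hω, ⟨f⟩⟩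
  exact ⟨F, i1, i2, ω, hF, hω, ⟨e.symm.trans f⟩⟩

/-- **The row `J3`.** -/
theorem dead_J3 : Dead.{u, v} (fun S _ => Spor.IsoJ3 S) := deadG_J3.dead iso_J3

theorem deadG_J2 : DeadG.{u} (fun S _ => Spor.IsoJ2 S) := by
  refine deadG_of fun S _ _ hS => ?_
  obtain ⟨t, u, Q, v, ρ, D⟩ := Cfsg.Agent.KFacts.J2.Facts.exists_dat_of hS
  exact ⟨t, _, _, Cfsg.Agent.KFacts.J2.SheetX.sheetX D, fun B hB hBe =>
    Cfsg.Agent.Omega.TwoF.RowJ3.card_le_Q D.M B hB hBe⟩

theorem iso_J2 : IsoClosed.{u} (fun S _ => Spor.IsoJ2 S) := by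
  rintro S S' _ _ e ⟨f⟩
  exact ⟨e.symm.trans f⟩

/-- **The row `J2`.** -/
theorem dead_J2 : Dead.{u, v} (fun S _ => Spor.IsoJ2 S) := deadG_J2.dead iso_J2

end Cfsg.Agent.Omega.ML.RowJ23

end

section


/-!
# (ML), THEOREM LOC: the K-fact from the order of `N(E)` (helper907)

`exists_loc_of` : `E` elementary abelian of order `2ⁿ`, self-centralising, `N(E)` of odd index and of order divisible by
the odd prime `p`, which does not divide `2ᵏ - 1`, `0 < k < n`: then `Loc G E x p n` for some `x` (Cauchy).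
-/

set_option autoImplicit false

namespace Cfsg.Agent.Omega.ML.LocK

open Subgroup

theorem exists_loc_of {G : Type*} [Group G] [Finite G] {E : Subgroup G} {p n : ℕ}
    (sq : ∀ a ∈ E, a * a = 1) (card : Nat.card E = 2 ^ n) (odd : ¬ 2 ∣ (normalizer (E : Set G)).index)
    (cent : ∀ g : G, (∀ a ∈ E, g * a = a * g) → g ∈ E) (prime : p.Prime) (p2 : p ≠ 2)
    (nd : ∀ k, 0 < k → k < n → ¬ p ∣ 2 ^ k - 1) (hd : p ∣ Nat.card (normalizer (E : Set G))) :
    ∃ x : G, Loc G E x p n := by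
  have hf : Fact p.Prime := ⟨prime⟩
  obtain ⟨x, hx⟩ := exists_prime_orderOf_dvd_card' p hd
  refine ⟨x, ⟨fun a ha b hb => ?_, sq, card, odd, cent, prime, p2, by rw [orderOf_coe, hx], nd,
    fun a ha => (mem_normalizer_iff.1 x.2 a).1 ha, ?_⟩⟩
  · have h1 : ∀ a ∈ E, a⁻¹ = a := fun a ha => inv_eq_of_mul_eq_one_left (sq a ha)
    rw [← h1 _ (E.mul_mem ha hb), mul_inv_rev, h1 a ha, h1 b hb]
  · by_contra hcon
    push Not at hcon
    have h1 := cent _ hcon
    have h2 := sq _ h1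
    have h3 := orderOf_dvd_of_pow_eq_one (show (x : G) ^ 2 = 1 by rw [pow_two, h2])
    rw [orderOf_coe, hx, Nat.dvd_prime Nat.prime_two] at h3
    rcases h3 with h3 | h3
    · exact prime.one_lt.ne' h3
    · exact p2 h3

end Cfsg.Agent.Omega.ML.LocK

end

section


/-!
# (ML), THEOREM LOC: the K-fact of `J4`: `2¹¹:M24`, an element of order 23 (helper907)
-/

set_option autoImplicit false

namespace Cfsg.Agent.Omega.ML.LocJ4

open Subgroup Cfsg Cfsg.Agent.J4Type
open Cfsg.Agent.Omega.ML.LocK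

variable {G : Type*} [Group G]

theorem card_N [Finite G] (C : Frame G) : Nat.card (normalizer (C.E hex0 : Set G)) = 2 ^ 11 * 244823040 := by
  have h1 := Subgroup.card_mul_index C.π.ker
  have h2 : Nat.card C.π.ker = 2 ^ 11 := by
    rw [← C.E_card hex0 HexPerms.hex0_isHex]
    have h3 : C.π.ker.map (Subgroup.subtype _) = C.E hex0 := by
      ext g
      rw [Subgroup.mem_map]
      constructor
      · rintro ⟨n, hn, rfl⟩
        exact (C.π_ker n).1 hn
      · intro hg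
        exact ⟨⟨g, Subgroup.le_normalizer hg⟩, (C.π_ker ⟨g, Subgroup.le_normalizer hg⟩).2 hg, rfl⟩
    conv_rhs => rw [← h3]
    exact Nat.card_congr (Subgroup.equivMapOfInjective _ _
      (Subgroup.subtype_injective (Subgroup.normalizer (C.E hex0 : Set G)))).toEquiv
  rw [h2, Subgroup.index_ker, MonoidHom.range_eq_top.2 C.π_surj, Subgroup.card_top,
    SporadicA.M24Trans.card_M24] at h1
  exact h1.symm

/-- **The K-fact of `J4`.** -/
theorem exists_loc [Finite G] (C : Frame G) (hc : Nat.card G = 86775571046077562880) :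
    ∃ x : G, Loc G (C.E hex0) x 23 11 := by
  refine exists_loc_of (fun a ha => EElems.E_sq C.toHex ha) (C.E_card hex0 HexPerms.hex0_isHex) ?_
    (fun g hg => C.A_cent hex0 HexPerms.hex0_isHex g fun a ha _ => hg a ha) (by norm_num) (by norm_num) ?_
    (by rw [card_N]; norm_num)
  · intro h
    have h1 := Subgroup.card_mul_index (normalizer (C.E hex0 : Set G))
    rw [card_N, hc] at h1
    omega
  · intro k h0 h1
    interval_cases k <;> omega

end Cfsg.Agent.Omega.ML.LocJ4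

end
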