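import Cfsg.Agent.Mrg.Omega.ML.InOf
import Cfsg.Agent.Mrg.Omega.ML.MinIrr
import Cfsg.Agent.Mrg.Omega.FFBr.Final
import Cfsg.Agent.Mrg.Omega.ML.LocM24
import Cfsg.Agent.Mrg.Omega.ML.RowJ23
import Cfsg.Agent.Mrg.Omega.TwoF.RowJ4
import Cfsg.Agent.Mrg.Omega.CoTwoK.Gen
import Cfsg.Agent.ConwayFacts.AutCo1
import Cfsg.Agent.KFacts.CoTwo.Main
import Cfsg.Agent.CoOneType.Identify
import Cfsg.Agent.Mrg.Omega.ML.AltRow
import Cfsg.Agent.Mrg.Omega.ML.LieRow.Lie
import Cfsg.Agent.Mrg.Omega.ML.AltDead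
import Cfsg.Agent.Mrg.Omega.ML.RowMJ
import Cfsg.Agent.Mrg.Omega.ML.RowM23
import Cfsg.Agent.Mrg.Omega.ML.RowPspSix
import Cfsg.Agent.Mrg.Omega.ML.RowMT
import Cfsg.Agent.Mrg.Omega.ML.RowHS
import Cfsg.Agent.Mrg.Omega.ML.RowHe
import Cfsg.Agent.Mrg.Omega.ML.RowRu
import Cfsg.Agent.Mrg.Omega.ML.RowON
import Cfsg.Agent.Mrg.Omega.ML.RowFi22
import Cfsg.Agent.Mrg.Omega.ML.ExHN
import Cfsg.Agent.Mrg.Omega.ML.RowBM
import Cfsg.Agent.Mrg.Omega.TwoF.RowPSp
import Cfsg.Agent.Mrg.Omega.ML.RowLTwoOdd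
import Cfsg.Agent.Mrg.Omega.ML.OddPsl
import Cfsg.Agent.Mrg.Omega.ML.RowL33
import Cfsg.Agent.Mrg.Omega.ML.RowPspFour
import Cfsg.Agent.Mrg.Omega.ML.OddExc
import Cfsg.Agent.Mrg.Omega.ML.RowU33
import Cfsg.Agent.Mrg.Omega.ML.UFour.Perm
import Cfsg.Agent.Mrg.Omega.TwoF.RowRee
import Cfsg.Agent.S0254
import Cfsg.Agent.Mrg.Omega.ML.MinFrame
import Cfsg.Agent.TitsK.RankRK
import Cfsg.Agent.Mrg.Omega.TwoF.Tits
import Cfsg.Agent.Mrg.Omega.ML.RowSuz

-- merged: Cfsg.Agent.Mrg.Omega.ML.InOfEnd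
section

/-!
# (ML): the reduction socket `Final.InOf` is discharged

* `inOf` : `Final.InOf`;
* `mlk_of_rows` : `MLK` from the rows alone.
-/

set_option autoImplicit false

namespace Cfsg.Agent.Omega.ML.InOfEnd

open Subgroup Cfsg Cfsg.Agent.Omega.ML.MinFrame Cfsg.Agent.Omega.ML.LocRow

universe u v

/-- **THE REDUCTION OF (ML)** -/
theorem inOf : Final.InOf.{u, v} := by
  intro H _ _ M _ _ _ T Q A z h
  obtain ⟨L, B, hin⟩ := h.exists_in FFBr.aStmt
  obtain ⟨z', -, hb⟩ := hin.exists_base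
  exact ⟨L, T, _, B, z', ⟨hin, hb⟩⟩

/-- **(ML) for K-groups from the rows** -/
theorem mlk_of_rows (hR : Rows.Dead.{u, v} fun S _ => IsKnownSimple' S) : Final.MLK.{u, v} :=
  Final.mlk_of inOf (Dead.deadZ hR)

end Cfsg.Agent.Omega.ML.InOfEnd

end

-- merged: Cfsg.Agent.Mrg.Omega.ML.RowLocJ4
section

set_option autoImplicit false

namespace Cfsg.Agent.Omega.ML.RowLocJ4

open Subgroup Cfsg Cfsg.Agent.J4Type Cfsg.Agent.KFacts.J4
open Cfsg.Agent.Omega.ML.LocK Cfsg.Agent.Omega.ML.Rows Cfsg.Agent.Omega.ML.LocRow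

universe u v

theorem hasLoc {K : Type u} [Group K] (h : Spor.IsoJ4 K) : HasLoc K := by
  obtain ⟨hfin, hs, ⟨F⟩⟩ := Base.exists_full h
  obtain ⟨x, hx⟩ := LocJ4.exists_loc F.C.toFrame (TwoF.RowJ4.card_eq h)
  exact ⟨_, _, _, _, hx⟩

/-- **The row `J4`.** -/
theorem dead_j4 : Dead.{u, v} (fun S _ => Spor.IsoJ4 S) := by
  refine dead_of_loc fun S _ _ hS => ?_
  obtain ⟨hfin, hs, ⟨F⟩⟩ := Base.exists_full hS
  obtain ⟨x, hx⟩ := LocJ4.exists_loc F.C.toFrame (TwoF.RowJ4.card_eq hS)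
  refine ⟨⟨_, _, _, _, hx, ?_⟩, fun α => ?_⟩
  · rw [TwoF.RowJ4.card_eq hS]
    norm_num
  · exact SheetJ4.inner F α

end Cfsg.Agent.Omega.ML.RowLocJ4

end

-- merged: Cfsg.Agent.Mrg.Omega.ML.LocCo2
section

/-!
# (ML), THEOREM LOC: the K-fact of `Co2`: `2¹⁰:M22:2`, an element of order 11 (helper907)
-/

set_option autoImplicit false

namespace Cfsg.Agent.Omega.ML.LocCo2

open Subgroup Cfsg
open Cfsg.Agent.SporadicA.GolayBase Cfsg.Agent.SporadicA.GolayPerm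
open Cfsg.Agent.SporadicStructure.M24El
open Cfsg.Agent.Co2Type.Mono Cfsg.Agent.Co2Type.TGroup Cfsg.Agent.Co2Type.TData Cfsg.Agent.Co2Type.FactsD
open Cfsg.Agent.Omega.CoTwoK.Normal
open Cfsg.Agent.Omega.ML.LocK

/-- `i ↦ 2 i` -/
def P11 : ℕ := 0xbd6717b56939461b52507314831040

theorem chk : (okP P11 && Nat.blt P11 (2 ^ 120) && !(Nat.beq P11 idP)) = true := by decide +kernel

theorem okP11 : okP P11 = true := by
  have h := chk
  rw [Bool.and_eq_true, Bool.and_eq_true] at h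
  exact h.1.1

theorem P11_lt : P11 < 2 ^ 120 := by
  have h := chk
  rw [Bool.and_eq_true, Bool.and_eq_true, Nat.blt_eq] at h
  exact h.1.2

theorem P11_ne : P11 ≠ idP := by decide +kernel

/-- the powers -/
def pw : ℕ → ℕ
  | 0 => idP
  | n + 1 => pcomp (pw n) P11

theorem pw11 : pw 11 = idP := by decide +kernel

theorem okP_pw (n : ℕ) : okP (pw n) = true := by
  induction n with
  | zero => exact okP_idP
  | succ n ih => exact okP_pcomp ih okP11

theorem pow_eq (n : ℕ) : (mo2 0 P11) ^ n = mo2 0 (pw n) := by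
  induction n with
  | zero => rw [pow_zero]; exact mo2_one.symm
  | succ n ih =>
    rw [pow_succ, ih, mo2_mul inE_zero inE_zero (okP_pw n) okP11, pimg_zero (isPerm_of_ok (ok_of_okP (okP_pw n))),
      Nat.xor_zero]
    rfl

theorem orderOf_x : orderOf (mo2 0 P11) = 11 := by
  have : Fact (Nat.Prime 11) := ⟨by norm_num⟩
  apply orderOf_eq_prime
  · rw [pow_eq, pw11, mo2_one]
  · intro h
    rw [← mo2_one] at h
    exact P11_ne (mo2_inj inE_zero inE_zero okP11 okP_idP P11_lt idP_lt h).2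

theorem E_comm (a : Spor.Co2) (ha : a ∈ E) (b : Spor.Co2) (hb : b ∈ E) : a * b = b * a := by
  obtain ⟨m, hm, rfl⟩ := ha
  obtain ⟨n, hn, rfl⟩ := hb
  rw [E_mul hm hn, E_mul hn hm, Nat.xor_comm]

theorem E_sq (a : Spor.Co2) (ha : a ∈ E) : a * a = 1 := by
  obtain ⟨m, hm, rfl⟩ := ha
  exact ge_sq hm

theorem cent (g : Spor.Co2) (hg : ∀ a ∈ E, g * a = a * g) : g ∈ E := by
  refine Cfsg.Agent.Omega.CoTwoK.Main.coFacts.pi_cen (mem_inf.2 ⟨?_, ?_⟩)
  · refine mem_normalizer_of (fun a ha => ?_) fun a ha => ?_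
    · rw [hg a ha, mul_inv_cancel_right]; exact ha
    · rw [mul_assoc, ← hg a ha, inv_mul_cancel_left]; exact ha
  · rw [mem_centralizer_iff]
    intro a ha
    exact (hg a (Xi_le ha)).symm

theorem odd_index : ¬ 2 ∣ (normalizer (E : Set Spor.Co2)).index := by
  intro h
  have h1 : T ≤ normalizer (E : Set Spor.Co2) := by
    intro t ht
    refine mem_normalizer_of (fun a ha => E_normal t ht a ha) fun a ha => ?_
    have h2 := E_normal t⁻¹ (T.inv_mem ht) a ha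
    rwa [inv_inv] at h2
  have h2 := h.trans (index_dvd_of_le h1)
  have h3 := T.card_mul_index
  rw [Cfsg.Agent.Co2Type.TCard.card_T, Cfsg.Agent.Co2Type.CardCo2.card_co2] at h3
  omega

/-- **The K-fact of `Co2`.** -/
theorem loc : Loc Spor.Co2 E (mo2 0 P11) 11 10 where
  comm := E_comm
  sq := E_sq
  card := Cfsg.Agent.Co2Type.TCard.card_E
  odd := odd_index
  cent := cent
  prime := by norm_num
  p2 := by norm_num
  ord := orderOf_x
  nd := by
    intro k h0 h1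
    interval_cases k <;> omega
  norm := fun a ha => (mem_normalizer_iff.1 (mo2_mem_N inE_zero okP11 P11_lt) a).1 ha
  ne := by
    by_contra hcon
    push Not at hcon
    have h1 := cent _ hcon
    have h2 := E_sq _ h1
    have h3 := orderOf_dvd_of_pow_eq_one (show (mo2 0 P11) ^ 2 = 1 by rw [pow_two, h2])
    rw [orderOf_x] at h3
    omega

theorem hasLoc {K : Type*} [Group K] (h : Spor.IsoCo2 K) : HasLoc K := by
  obtain ⟨e⟩ := h
  exact HasLoc.congr e.symm ⟨_, _, _, _, loc⟩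

end Cfsg.Agent.Omega.ML.LocCo2

end

-- merged: Cfsg.Agent.Mrg.Omega.ML.RowLocCo
section

/-!
# (ML), the K-list end: the rows `Co1` and `Co2` (helper907)
-/

set_option autoImplicit false

namespace Cfsg.Agent.Omega.ML.RowLocCo

open Subgroup Cfsg Cfsg.Agent.Omega.ML.Rows Cfsg.Agent.Omega.ML.LocRow

universe u v

/-- **The row `Co1`.** -/
theorem dead_co1 : Dead.{u, v} (fun S _ => Spor.IsoCo1 S) := by
  refine dead_of_loc fun S _ _ hS => ?_
  obtain ⟨e⟩ := hS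
  refine ⟨⟨_, _, _, _, LocCo1.loc.map e.symm, ?_⟩, fun α => ?_⟩
  · rw [Nat.card_congr e.toEquiv, Cfsg.Agent.CoOneType.Identify.card_co1]
    norm_num
  · obtain ⟨s, hs⟩ := Cfsg.Agent.ConwayFacts.AutCo1.inner_of_equiv e α
    exact ⟨s, MulEquiv.ext hs⟩

/-- **The row `Co2`.** -/
theorem dead_co2 : Dead.{u, v} (fun S _ => Spor.IsoCo2 S) := by
  refine dead_of_loc fun S _ _ hS => ?_
  obtain ⟨e⟩ := hS
  refine ⟨⟨_, _, _, _, LocCo2.loc.map e.symm, ?_⟩, fun α => Cfsg.Agent.KFacts.CoTwo.Main.allInner_iso e α⟩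
  rw [Nat.card_congr e.toEquiv, Cfsg.Agent.Co2Type.CardCo2.card_co2]
  norm_num

end Cfsg.Agent.Omega.ML.RowLocCo

end

-- merged: Cfsg.Agent.Mrg.Omega.ML.KnownDone
section

/-!
# (ML), the K-list end: the landed rows (helper484)

`rowsOf` : `RowsML` from the rows which are not yet on main; `mlk_of` : (ML) for K-groups (`Final.MLK`) from them.
-/

set_option autoImplicit false

namespace Cfsg.Agent.Omega.ML.KnownDone

open Cfsg Cfsg.Agent.Omega.ML.LocRow Cfsg.Agent.Omega.ML.Known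

universe u v

/-- **The rows.** -/
theorem rowsOf (odd : DeadZ.{u, v} fun S _ => OddLie S ∧ ¬ IsLieTypeChar 2 S) (tits : DeadZ.{u, v} @Lie.IsoTits)
    (suz : DeadZ.{u, v} @Spor.IsoSuz) : RowsML.{u, v} where
  lie2 := Dead.deadZ LieRow.dead_lie
  alt := Dead.deadZ AltDead.alt
  a6 := Dead.deadZ AltDead.a6
  odd := odd
  tits := tits
  m11 := Dead.deadZ RowMJ.M11.dead
  m12 := Dead.deadZ RowM12.dead
  m22 := Dead.deadZ RowMLoc.M22.dead
  m23 := Dead.deadZ RowM23.dead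
  m24 := Dead.deadZ RowM24.dead
  j1 := Dead.deadZ RowMJ.J1.dead
  j2 := Dead.deadZ RowJ23.dead_J2
  j3 := Dead.deadZ RowJ23.dead_J3
  j4 := Dead.deadZ RowLocJ4.dead_j4
  co1 := Dead.deadZ RowLocCo.dead_co1
  co2 := Dead.deadZ RowLocCo.dead_co2
  co3 := RowCo3.deadZ
  mcl := Dead.deadZ RowMT.McL.dead
  hs := Dead.deadZ RowHS.dead_HS
  suz := suz
  he := Dead.deadZ RowHe.dead
  ru := Dead.deadZ RowRu.dead
  on := Dead.deadZ RowON.dead
  ly := Dead.deadZ RowMT.Ly.dead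
  fi22 := Dead.deadZ RowFi22.dead
  fi23 := RowFi23.deadZ
  fi24 := Dead.deadZ RowFi24.dead
  hn := Dead.deadZ RowHN.dead_HN
  th := Dead.deadZ RowBM.thompson
  b := Dead.deadZ RowBM.baby
  m := Dead.deadZ RowBM.monster

/-- **(ML) for K-groups**, from the rows which are not yet on main. -/
theorem mlk_of (odd : DeadZ.{u, v} fun S _ => OddLie S ∧ ¬ IsLieTypeChar 2 S) (tits : DeadZ.{u, v} @Lie.IsoTits)
    (suz : DeadZ.{u, v} @Spor.IsoSuz) : Final.MLK.{u, v} :=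
  Final.mlk_of InOfEnd.inOf (rowsOf odd tits suz).known

end Cfsg.Agent.Omega.ML.KnownDone

end

-- merged: Cfsg.Agent.Mrg.Omega.ML.OddLie
section

/-!
# (ML), the K-list end: the field `odd` of `Known.RowsML` (helper393)

`odd_of` : the rows `PSp₄(7)`, `PSp₄(9)`, `PSp₆(3)`, `G₂(3)`, `G₂(5)` are arguments, every other group of Lie type in odd
characteristic is treated; `odd` : the field.
-/

set_option autoImplicit false

namespace Cfsg.Agent.Omega.ML.OddLie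

open Cfsg Cfsg.Agent.Omega.KFacts Cfsg.Agent.Omega.ML.Rows Cfsg.Agent.Omega.ML.LocRow Cfsg.Agent.Omega.ML.Num
  Cfsg.Agent.Omega.ML.Known

universe u v

/-- rows of `NumML` -/
theorem num : DeadZ.{u, v} fun S _ => NumML.{u, v} S := DeadZ.of_dead Num.dead

/-- `A₆` -/
theorem a6 : DeadZ.{u, v} fun S _ => Nonempty (S ≃* alternatingGroup (Fin 6)) :=
  DeadZ.of_deadG (fun _ _ _ _ e ⟨f⟩ => ⟨e.symm.trans f⟩) AltSix.deadG_six

/-- `PSL₂(q)`, `q` odd -/
theorem lTwo : DeadZ.{u, v} fun S _ => ∃ (F : Type) (_ : Field F) (_ : Fintype F), Odd (Fintype.card F) ∧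
    3 < Fintype.card F ∧ Nonempty (S ≃* Matrix.ProjectiveSpecialLinearGroup (Fin 2) F) := by
  have h1 : DeadZ.{u, v} fun S _ => ∃ (F : Type) (_ : Field F) (_ : Fintype F), Odd (Fintype.card F) ∧
      3 < Fintype.card F ∧ Fintype.card F ≠ 9 ∧ Nonempty (S ≃* Matrix.ProjectiveSpecialLinearGroup (Fin 2) F) :=
    DeadZ.of_deadG (fun _ _ _ _ e ⟨F, i, j, h1, h2, h3, ⟨f⟩⟩ => ⟨F, i, j, h1, h2, h3, ⟨e.symm.trans f⟩⟩)
      RowLTwoOdd.deadG
  intro H _ _ M _ _ _ K T Q A z hI hS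
  obtain ⟨F, i, j, h2, h3, ⟨e⟩⟩ := hS
  by_cases h9 : Fintype.card F = 9
  · obtain ⟨f⟩ := S0254.result h9
    exact a6 H M K T Q A z hI ⟨e.trans f⟩
  · exact h1 H M K T Q A z hI ⟨F, i, j, h2, h3, h9, ⟨e⟩⟩

/-- `PSL_n(q)`, `q` odd -/
theorem psl : DeadZ.{u, v} fun S _ => OddChar @IsPSLChar S := by
  intro H _ _ M _ _ _ K T Q A z hI hS
  rcases OddPsl.psl.{u, v} hS with h | h | h
  · exact lTwo H M K T Q A z hI h
  · exact DeadZ.of_deadG RowL33.isoClosed RowL33.deadG H M K T Q A z hI h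
  · exact num H M K T Q A z hI h

/-- `PSU_n(q)`, `q` odd -/
theorem psu : DeadZ.{u, v} fun S _ => OddChar @IsPSUChar S := by
  intro H _ _ M _ _ _ K T Q A z hI hS
  by_cases h33 : PsuNum.IsU 3 3 (K ⧸ Subgroup.center K)
  · obtain ⟨F, _, _, hF, ⟨e⟩⟩ := h33
    exact DeadZ.of_dead RowU33.dead H M K T Q A z hI ⟨F, inferInstance, inferInstance, by rw [hF]; norm_num, ⟨e⟩⟩
  by_cases h43 : IsUFourThree (K ⧸ Subgroup.center K)
  · exact DeadZ.of_dead RowUFour.row H M K T Q A z hI h43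
  · exact num H M K T Q A z hI (UThreeNine.psu _ hS h33 h43)

/-- the exceptional Chevalley groups, `q` odd -/
theorem chev_of (h3 : DeadZ.{u, v} @RowGTwoThree.IsGTwoThree) (h5 : DeadZ.{u, v} @RowGTwoFive.IsGTwoFive) :
    DeadZ.{u, v} fun S _ => OddChar @IsExceptionalChevChar S := by
  intro H _ _ M _ _ _ K T Q A z hI hS
  rcases OddExc.exceptional.{u, v} hS with ⟨p, hp, hp2, F, _, _, _, hq, ⟨e⟩⟩ | h
  · have : Fact p.Prime := ⟨hp⟩
    obtain ⟨k, hk⟩ := RowPsp.odd_card (F := F) (p := p) hp2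
    by_cases h3' : Fintype.card F = 3
    · exact h3 H M K T Q A z hI ⟨F, inferInstance, inferInstance, h3', ⟨e⟩⟩
    by_cases h5' : Fintype.card F = 5
    · exact h5 H M K T Q A z hI ⟨F, inferInstance, inferInstance, h5', ⟨e⟩⟩
    · exact num H M K T Q A z hI (GTwoTorus.numML hp2 (by omega) e)
  · exact num H M K T Q A z hI h

/-- **The field `odd` of `Known.RowsML`.** -/
theorem odd_of (h4 : DeadZ.{u, v} @RowPsp.IsPSpFour) (h6 : DeadZ.{u, v} @RowPsp.IsPSpSixThree)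
    (hg3 : DeadZ.{u, v} @RowGTwoThree.IsGTwoThree) (hg5 : DeadZ.{u, v} @RowGTwoFive.IsGTwoFive) :
    DeadZ.{u, v} fun S _ => OddLie S ∧ ¬ IsLieTypeChar 2 S := by
  rintro H _ _ M _ _ _ K T Q A z hI ⟨⟨p, hp, hp2, h⟩, hn⟩
  rcases h with h | h | h | h | h | h | h | h | h | h | h
  · exact psl H M K T Q A z hI ⟨p, hp, hp2, h⟩
  · exact RowPsp.psp_of h4 h6 H M K T Q A z hI ⟨⟨p, hp, hp2, h⟩, hn⟩
  · exact psu H M K T Q A z hI ⟨p, hp, hp2, h⟩
  · exact num H M K T Q A z hI (RowOm.omOdd _ ⟨p, hp, hp2, h⟩)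
  · exact num H M K T Q A z hI (RowOm.omPlus _ ⟨p, hp, hp2, h⟩)
  · exact num H M K T Q A z hI (RowOm.omMinus _ ⟨p, hp, hp2, h⟩)
  · exact chev_of hg3 hg5 H M K T Q A z hI ⟨p, hp, hp2, h⟩
  · exact num H M K T Q A z hI (OddExc.twisted ⟨p, hp, hp2, h⟩)
  · exact absurd h.1 hp2
  · exact absurd h.1 hp2
  · exact DeadZ.of_dead RowRee.dead H M K T Q A z hI h.2

/-- **The field `odd` of `Known.RowsML`.** -/
theorem odd : DeadZ.{u, v} fun S _ => OddLie S ∧ ¬ IsLieTypeChar 2 S :=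
  odd_of RowPspFour.four (DeadZ.of_dead RowPspSix.dead) (DeadZ.of_dead RowGTwoThree.dead) RowGTwoFive.deadZ

end Cfsg.Agent.Omega.ML.OddLie

end

-- merged: Cfsg.Agent.Mrg.Omega.ML.RowTitsNum
section

/-!
# (ML), the K-list end: the row of the Tits group, by numbers (helper369)

`LB 24`, `RK 5`, `|X : N| ≤ 2`, `17971200 ^ 4 * 2 ^ 20 < 2 ^ 120`.
-/

set_option autoImplicit false

namespace Cfsg.Agent.Omega.ML.RowTitsNum

open Cfsg.Agent.Omega.TwoF

universe u v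

theorem numML {K : Type u} [Group K] (h : Cfsg.Lie.IsoTits K) : Num.NumML.{u, v} K := by
  refine ⟨24, 5, 1, LBConv.heis_of_twoF (RowTits.lb h), TitsK.rk_five h, ?_, ?_⟩
  · intro X _ _ N _ hN hc A _ _
    exact TitsK.index_le h N hN hc
  · rw [TitsAut.card_iso h]
    norm_num

/-- **the row of the Tits group** -/
theorem dead : Rows.Dead.{u, v} @Cfsg.Lie.IsoTits := by
  intro H _ _ M _ _ _ K T A hI h
  exact Num.dead H M K T A hI (numML h)

theorem deadZ : LocRow.DeadZ.{u, v} @Cfsg.Lie.IsoTits := LocRow.Dead.deadZ dead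

end Cfsg.Agent.Omega.ML.RowTitsNum

end

-- merged: Cfsg.Agent.Mrg.Omega.ML.KnownAll
section

/-!
# (ML), the K-list end: all rows (helper484)

* `rows` : all rows of the K-list (`Known.RowsML`);
* `known` : `DeadZ @IsKnownSimple'`;
* `mlk` : **(ML) for K-groups** (`Final.MLK`), no open hypothesis.
-/

set_option autoImplicit false

namespace Cfsg.Agent.Omega.ML.KnownAll

open Cfsg Cfsg.Agent.Omega.ML.LocRow Cfsg.Agent.Omega.ML.Known

universe u v

/-- All rows, from the odd Lie row. -/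
theorem rows_of_odd (odd : DeadZ.{u, v} fun S _ => OddLie S ∧ ¬ IsLieTypeChar 2 S) : RowsML.{u, v} :=
  KnownDone.rowsOf odd RowTitsNum.deadZ (Dead.deadZ RowSuz.dead)

/-- (ML) for K-groups, from the odd Lie row. -/
theorem mlk_of_odd (odd : DeadZ.{u, v} fun S _ => OddLie S ∧ ¬ IsLieTypeChar 2 S) : Final.MLK.{u, v} :=
  KnownDone.mlk_of odd RowTitsNum.deadZ (Dead.deadZ RowSuz.dead)

/-- **All rows of the K-list.** -/
theorem rows : RowsML.{u, v} := rows_of_odd OddLie.odd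

/-- The K-list: no known simple group is the component of a counterexample to (ML). -/
theorem known : DeadZ.{u, v} @IsKnownSimple' := rows.known

/-- **(ML) for K-groups.** -/
theorem mlk : Final.MLK.{u, v} := mlk_of_odd OddLie.odd

end Cfsg.Agent.Omega.ML.KnownAll

end
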